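import Cfsg.Agent.Lib.Geom.PSLTwoCentralizer
import Cfsg.Agent.Lib.Classical.PSLTwoPerm
import Cfsg.Agent.Lib.StructC.SelfCentPSL
import Cfsg.Agent.Lib.Char.Burnside

/-!
# Involution centralisers of `PSL(2, q)`, `q` odd
-/

set_option autoImplicit false

namespace CfsgLib.Recog.SuborbitThree

open Matrix

variable {F : Type} [Field F] [Fintype F]

/-- The centraliser of an involution of `PSL(2, q)`, `q` odd, has order `q - 1` or `q + 1`. -/
theorem card_centralizer_involution_psl (hodd : Odd (Fintype.card F)) (h4 : 4 ≤ Fintype.card F)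
    {x : ProjectiveSpecialLinearGroup (Fin 2) F} (hx : orderOf x = 2) :
    Nat.card (Subgroup.centralizer {x}) = Fintype.card F - 1 ∨
      Nat.card (Subgroup.centralizer {x}) = Fintype.card F + 1 := by
  obtain ⟨E, _, _, f, hE, hQC⟩ := CfsgLib.Geom.Moebius.exists_quadExt F
  have hx1 : x ≠ 1 := fun h => by rw [h, orderOf_one] at hx; omega
  have hxx : x * x = 1 := by have h := pow_orderOf_eq_one x; rwa [hx, pow_two] at h
  rcases CfsgLib.Geom.Moebius.card_centralizer_cases f hE hQC h4 x hx1 with h | ⟨k, hk, -, h2, -⟩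
  · exfalso
    have : orderOf x ∣ Nat.card (Subgroup.centralizer {x}) := Subgroup.orderOf_dvd_natCard _
      (Subgroup.mem_centralizer_singleton_iff.2 rfl)
    rw [h, hx] at this
    exact Nat.not_even_iff_odd.2 hodd (even_iff_two_dvd.2 this)
  · rw [h2 hxx]
    have hg : Nat.gcd 2 (Fintype.card F - 1) = 2 := Nat.gcd_eq_left
      (even_iff_two_dvd.1 (by obtain ⟨m, hm⟩ := hodd; exact ⟨m, by omega⟩))
    rw [hg] at hk
    exact hk

/-- An insoluble `PSL(2, q)` with `q` odd has at least five elements in its field. -/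
theorem five_le_card {X : Type*} [Group X] [Finite X] (hns : ¬ Group.IsSolvable X)
    (hodd : Odd (Fintype.card F)) (e : X ≃* ProjectiveSpecialLinearGroup (Fin 2) F) :
    5 ≤ Fintype.card F := by
  by_contra h
  push Not at h
  have h1 : 1 < Fintype.card F := Fintype.one_lt_card
  have h3 : Fintype.card F = 3 := by obtain ⟨m, hm⟩ := hodd; omega
  have hc := CfsgLib.Classical.card_psl_two_eq (F := F) h3 12 (by norm_num)
  exact hns (CfsgLib.Char.burnside_pq 2 3 Nat.prime_two Nat.prime_three 2 1 X
    (by rw [Nat.card_congr e.toEquiv, hc]; norm_num))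

end CfsgLib.Recog.SuborbitThree
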