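import Cfsg.Agent.Lib.Geom.PSLTwoCentralizer

/-!
# Odd-order elements centralising a semisimple element of `PSL(2, q)`
-/

set_option autoImplicit false

namespace CfsgLib.Recog.SuborbitThree

open Matrix CfsgLib.Geom.Moebius
open scoped MatrixGroups

variable {F : Type} [Field F] [Fintype F]

local notation "PSL2" => ProjectiveSpecialLinearGroup (Fin 2) F
local notation "ψ" => Matrix.ProjectiveSpecialLinearGroup.toPGL (n := Fin 2) (R := F)

/-- If the order of `x` does not divide `q`, the odd-order elements centralising `x` lie in a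
cyclic group. -/
theorem exists_cyclic_odd_psl (x : PSL2) (hx : ¬ orderOf x ∣ Fintype.card F) :
    ∃ T : Subgroup PSL2, IsCyclic T ∧ ∀ y, Commute y x → Odd (orderOf y) → y ∈ T := by
  have := finite_pgl_two (F := F)
  obtain ⟨E, _, _, f, hE, hQC⟩ := exists_quadExt F
  have hx1 : ψ x ≠ 1 := fun e => hx (by
    rw [Matrix.ProjectiveSpecialLinearGroup.toPGL_injective (e.trans (map_one _).symm), orderOf_one]
    exact one_dvd _)
  obtain ⟨P, hP⟩ := exists_fixed f hQC (ψ x)
  obtain ⟨Q, hQ, hne⟩ : ∃ Q, extHom f (ψ x) • Q = Q ∧ Q ≠ P := by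
    by_contra h
    refine hx ?_
    obtain ⟨-, -, hc⟩ := card_centralizer_one_fixed f hQC hx1 hP fun R hR =>
      by_contra fun e => h ⟨R, hR, e⟩
    rw [← hc, ← orderOf_injective _ Matrix.ProjectiveSpecialLinearGroup.toPGL_injective x]
    exact Subgroup.orderOf_dvd_natCard _ (Subgroup.mem_centralizer_singleton_iff.2 rfl)
  obtain ⟨hcyc, -, -⟩ := torus_pair f hE hQC hne.symm hx1 hP hQ
  refine ⟨(fixExt f P ⊓ fixExt f Q : Subgroup PGL(2, F)).comap ψ,
    isCyclic_of_injective (G' := (fixExt f P ⊓ fixExt f Q : Subgroup PGL(2, F)))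
      (MonoidHom.subgroupComap ψ _) fun a b e => Subtype.ext
        (Matrix.ProjectiveSpecialLinearGroup.toPGL_injective (congrArg Subtype.val e)),
    fun y hy ho => ?_⟩
  have h := (centralizer_two_fixed f hE hQC hne.symm hx1 hP hQ (x := ψ y)).1
    (Subgroup.mem_centralizer_singleton_iff.2 (hy.map ψ).eq)
  rcases h with h | ⟨-, h⟩
  · exact h
  rcases (mem_pairStab f).1 h with h' | ⟨a, b⟩
  · exact h'
  have hyy : y * y = 1 := Matrix.ProjectiveSpecialLinearGroup.toPGL_injective (by
    rw [map_mul, map_one]; exact sq_eq_one_of_swap f hQC hne.symm a b)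
  have h2 : orderOf y ∣ 2 := orderOf_dvd_of_pow_eq_one (by rw [pow_two, hyy])
  rcases (Nat.dvd_prime Nat.prime_two).1 h2 with e | e
  · rw [orderOf_eq_one_iff.1 e]
    exact one_mem _
  · exact absurd ho (by rw [e]; decide)

end CfsgLib.Recog.SuborbitThree
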