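import Cfsg.Agent.Lib.Recog.SuborbitThree.Setup
import Cfsg.Agent.Lib.Recog.SelfCentThree.Final
import Cfsg.Agent.Lib.Transfer.Simple168Klein
import Cfsg.Agent.Lib.Classical.PSLTwoPerm
import Cfsg.Agent.Lib.ClassK.SmallSimple
import Cfsg.Agent.Lib.InvChar.AltPreservingAut
import Cfsg.Agent.Lib.KnownC.AutPSLOut
import Mathlib.GroupTheory.Transfer

/-!
# Stabilisers of order three and six; automorphism groups of the two small simple groups
-/

set_option autoImplicit false

namespace CfsgLib.Recog.SuborbitThree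

open Subgroup

universe u

variable {G : Type u} [Group G] [Finite G]

theorem isSolvable_of_card_three {X : Type*} [Group X] [Finite X] (h : Nat.card X = 3) :
    Group.IsSolvable X := by
  have := Fact.mk Nat.prime_three
  have := isCyclic_of_prime_card h
  exact Group.isSolvable_of_comm fun a b => IsCyclic.commGroup.mul_comm a b

theorem isSolvable_perm_three : Group.IsSolvable (Equiv.Perm (Fin 3)) := by
  have hA : Group.IsSolvable (Equiv.Perm.sign : Equiv.Perm (Fin 3) →* ℤˣ).ker :=
    isSolvable_of_card_three (by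
      show Nat.card (alternatingGroup (Fin 3)) = 3
      rw [nat_card_alternatingGroup]; simp [Nat.factorial])
  exact Group.isSolvable_of_ker_le_range (Equiv.Perm.sign : Equiv.Perm (Fin 3) →* ℤˣ).ker.subtype
    Equiv.Perm.sign (by rw [Subgroup.range_subtype])

/-- A stabiliser of order three does not occur. -/
theorem case_three {H : Subgroup G} (hP : Prim H) (h : Nat.card H = 3) : False := by
  have := Fact.mk Nat.prime_three
  have hp : IsPGroup 3 H := IsPGroup.of_card (n := 1) (by rw [h, pow_one])
  have hN : normalizer (H : Set G) = H := hP.normalizer_eq hP.ne_bot le_rfl le_normalizer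
  have hc : ∀ a ∈ H, ∀ b ∈ H, a * b = b * a := by
    have := isCyclic_of_prime_card h
    intro a ha b hb
    exact congrArg Subtype.val (IsCyclic.commGroup.mul_comm (⟨a, ha⟩ : H) ⟨b, hb⟩)
  obtain ⟨P, hle⟩ := hp.exists_le_sylow
  have hPH : (P : Subgroup G) = H := by
    refine le_antisymm ?_ hle
    by_contra hne
    have hlt : H.subgroupOf (P : Subgroup G) < ⊤ := lt_top_iff_ne_top.2 fun e =>
      hne (subgroupOf_eq_top.1 e)
    have := P.2.isNilpotent
    obtain ⟨x, hx, hxH⟩ := SetLike.exists_of_lt (Group.normalizerCondition_of_isNilpotent _ hlt)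
    refine hxH (mem_subgroupOf.2 ?_)
    rw [← hN]
    exact (le_normalizer_map (P : Subgroup G).subtype (mem_map_of_mem _ hx) |>
      fun hx' => by rwa [subgroupOf_map_subtype, inf_eq_left.2 hle] at hx')
  have hP' : normalizer ((P : Subgroup G) : Set G) ≤ centralizer ((P : Subgroup G) : Set G) := by
    rw [hPH, hN]
    exact fun x hx => mem_centralizer_iff.2 fun y hy => hc y hy x hx
  have hcompl := MonoidHom.ker_transferSylow_isComplement' P hP'
  set K := (MonoidHom.transferSylow P hP').ker
  rw [hPH] at hcompl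
  rcases eq_or_ne K ⊥ with hK | hK
  · rw [hK, isComplement'_bot_left] at hcompl
    exact hP.ne_top hcompl
  · exact hP.inf_ne_bot hP.ne_bot le_rfl le_normalizer hp hK hcompl.disjoint.eq_bot

/-- The stabiliser `Sym(3)` gives `Alt(5)`. -/
theorem case_six {H : Subgroup G} (hP : Prim H) (e : H ≃* Equiv.Perm (Fin 3)) :
    Nonempty (G ≃* alternatingGroup (Fin 5)) := by
  classical
  have := Fact.mk Nat.prime_three
  let φ : Equiv.Perm (Fin 3) →* G := H.subtype.comp e.symm.toMonoidHom
  have hinj : Function.Injective φ := H.subtype_injective.comp e.symm.injective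
  have hrange : φ.range = H := by
    rw [MonoidHom.range_comp, MonoidHom.range_eq_top_of_surjective _ e.symm.surjective,
      ← MonoidHom.range_eq_map, Subgroup.range_subtype]
  set σ : Equiv.Perm (Fin 3) := finRotate 3
  set τ : Equiv.Perm (Fin 3) := Equiv.swap 0 1
  have hσ : orderOf σ = 3 := orderOf_eq_prime (by decide) (by decide)
  set X := zpowers (φ σ) with hXdef
  have hX : Nat.card X = 3 := by rw [Nat.card_zpowers, orderOf_injective φ hinj, hσ]
  have hXne : X ≠ ⊥ := fun h => by rw [h, card_bot] at hX; omega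
  have hXH : X ≤ H := zpowers_le.2 (hrange ▸ ⟨σ, rfl⟩)
  have hnorm : H ≤ normalizer (X : Set G) := by
    rw [← hrange]
    rintro _ ⟨a, rfl⟩
    refine mem_normalizer_iff_map_conj_aux a ?_
    revert a
    decide
  have hCle := hP.centralizer_le hXne hXH hnorm
  have hC : centralizer (X : Set G) = X := by
    refine le_antisymm (fun g hg => ?_) ?_
    · obtain ⟨a, rfl⟩ : g ∈ φ.range := hrange ▸ hCle hg
      have hcomm : σ * a = a * σ := hinj (by
        rw [map_mul, map_mul]; exact mem_centralizer_iff.1 hg _ (mem_zpowers _))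
      have key : ∀ a : Equiv.Perm (Fin 3), σ * a = a * σ → a = 1 ∨ a = σ ∨ a = σ ^ 2 := by decide
      rcases key a hcomm with rfl | rfl | rfl
      · rw [map_one]; exact one_mem _
      · exact mem_zpowers _
      · rw [map_pow]; exact pow_mem (mem_zpowers _) 2
    · intro x hx
      exact mem_centralizer_iff.2 fun y hy => by
        obtain ⟨i, rfl⟩ := hx
        obtain ⟨j, rfl⟩ := hy
        exact ((Commute.refl _).zpow_zpow j i).eq
  rcases CfsgLib.Recog.SelfCentThree.main X hX hC with ⟨N, hN, hnil, -, hq⟩ | ⟨N, hN, hab, -, hq⟩ | hf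
  · exfalso
    have hNb : N = ⊥ := hP.nosol N hN inferInstance
    subst hNb
    apply hP.insoluble
    have h3 : Group.IsSolvable (G ⧸ (⊥ : Subgroup G)) := by
      rcases hq with hq | ⟨⟨q⟩⟩
      · exact isSolvable_of_card_three hq
      · have := isSolvable_perm_three
        exact Group.isSolvable_of_isSolvable_injective (f := q.toMonoidHom) q.injective
    exact Group.isSolvable_of_isSolvable_injective
      (f := (QuotientGroup.quotientBot (G := G)).symm.toMonoidHom) (MulEquiv.injective _)
  · have hNb : N = ⊥ := hP.nosol N hN (Group.isSolvable_of_comm fun a b => mul_comm' a b)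
    subst hNb
    exact hq.map fun q => QuotientGroup.quotientBot.symm.trans q
  · -- in `PSL(2, 7)` the subgroup `H` lies in a normaliser of a four-group
    exfalso
    obtain ⟨f⟩ := hf
    haveI : Fact (Nat.Prime 7) := ⟨by norm_num⟩
    have h168 : Nat.card G = 168 := by
      rw [Nat.card_congr f.toEquiv]
      exact CfsgLib.Classical.card_psl_two_eq (q := 7) (ZMod.card 7) 168 (by norm_num)
    have hsimple : IsSimpleGroup G := by
      have := CfsgLib.ClassK.isSimpleGroup_psl_two (F := ZMod 7) (by rw [ZMod.card]; norm_num)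
      exact (MulEquiv.isSimpleGroup_congr f).2 this
    obtain ⟨U, hU⟩ := CfsgLib.Transfer.exists_klein_168 h168
    obtain ⟨K4⟩ := CfsgLib.Transfer.normalizer_klein_equiv_168 h168 hU
    set K := normalizer (U : Set G)
    let ψ : Equiv.Perm (Fin 4) →* G := K.subtype.comp K4.symm.toMonoidHom
    have hψ : Function.Injective ψ := K.subtype_injective.comp K4.symm.injective
    set r : Equiv.Perm (Fin 4) := Equiv.swap 0 1 * Equiv.swap 1 2
    set s : Equiv.Perm (Fin 4) := Equiv.swap 0 1
    have hr : orderOf r = 3 := orderOf_eq_prime (by decide) (by decide)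
    have hs : orderOf s = 2 := orderOf_eq_prime (by decide) (by decide)
    have hfac : (Nat.card G).factorization 3 = 1 := by
      rw [h168, show (168 : ℕ) = 3 ^ 1 * 56 by norm_num, Nat.factorization_mul (by norm_num)
        (by norm_num), Finsupp.add_apply, Nat.Prime.factorization_pow Nat.prime_three,
        Finsupp.single_eq_same, Nat.factorization_eq_zero_of_not_dvd (by norm_num), add_zero]
    let S : Sylow 3 G := Sylow.ofCard X (by rw [hX, hfac, pow_one])
    let S' : Sylow 3 G := Sylow.ofCard (zpowers (ψ r))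
      (by rw [Nat.card_zpowers, orderOf_injective ψ hψ, hr, hfac, pow_one])
    obtain ⟨g, hg⟩ := MulAction.exists_smul_eq G S S'
    have hg' : X.map (MulAut.conj g).toMonoidHom = zpowers (ψ r) :=
      congrArg (fun T : Sylow 3 G => (T : Subgroup G)) hg
    have hsN : ψ s ∈ normalizer (zpowers (ψ r) : Set G) := by
      rw [CfsgLib.Coprime.mem_normalizer_iff_map_conj, MonoidHom.map_zpowers]
      show zpowers (ψ s * ψ r * (ψ s)⁻¹) = _
      rw [← map_inv, ← map_mul, ← map_mul, show s * r * s⁻¹ = r⁻¹ by decide, map_inv, zpowers_inv]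
    -- so `H` is conjugate into `K`
    set H' := H.map (MulAut.conj g).toMonoidHom with hH'
    have hH'card : Nat.card H' = 6 := by
      rw [hH', CfsgLib.Coprime.card_map_conj, Nat.card_congr e.toEquiv, Nat.card_perm,
        Nat.card_fin]
      rfl
    have hnX : normalizer (X : Set G) = H := hP.normalizer_eq hXne hXH hnorm
    have hmem : ∀ x, x ∈ normalizer (zpowers (ψ r) : Set G) → x ∈ H' := by
      intro x hx
      rw [CfsgLib.Coprime.mem_map_conj, ← hnX, CfsgLib.Coprime.mem_normalizer_iff_map_conj]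
      have h1 := CfsgLib.Coprime.mem_normalizer_iff_map_conj.1 hx
      rw [← hg', CfsgLib.Coprime.map_conj_conj] at h1
      have h2 := congrArg (Subgroup.map (MulAut.conj g⁻¹).toMonoidHom) h1
      rw [CfsgLib.Coprime.map_conj_conj, CfsgLib.Coprime.map_conj_conj, inv_mul_cancel] at h2
      rw [show g⁻¹ * x * g = g⁻¹ * (x * g) by group]
      refine h2.trans ?_
      ext y; simp
    have hle : H' ≤ K := by
      have hd3 : 3 ∣ Nat.card (H' ⊓ K : Subgroup G) := by
        have := orderOf_dvd_natCard (H' ⊓ K : Subgroup G)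
          (show ψ r ∈ H' ⊓ K from ⟨hmem _ (le_normalizer (mem_zpowers _)), SetLike.coe_mem _⟩)
        rwa [orderOf_injective ψ hψ, hr] at this
      have hd2 : 2 ∣ Nat.card (H' ⊓ K : Subgroup G) := by
        have := orderOf_dvd_natCard (H' ⊓ K : Subgroup G)
          (show ψ s ∈ H' ⊓ K from ⟨hmem _ hsN, SetLike.coe_mem _⟩)
        rwa [orderOf_injective ψ hψ, hs] at this
      have h6 : Nat.card H' ≤ Nat.card (H' ⊓ K : Subgroup G) := by
        rw [hH'card]
        exact Nat.le_of_dvd Nat.card_pos (Nat.Coprime.mul_dvd_of_dvd_of_dvd (by norm_num) hd2 hd3)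
      exact (eq_of_le_of_card_ge inf_le_left h6) ▸ inf_le_right
    have hK24 : Nat.card K = 24 := by
      rw [Nat.card_congr K4.toEquiv, Nat.card_perm, Nat.card_fin]; rfl
    have hco : IsCoatom H' := by
      rw [hH']
      exact (OrderIso.isCoatom_iff (MulAut.conj g).mapSubgroup H).2 hP.coatom
    rcases lt_or_eq_of_le hle with hlt | heq
    · have := hco.2 K hlt
      rw [this, card_top, h168] at hK24
      omega
    · rw [← heq, hH'card] at hK24
      omega
where
  mem_normalizer_iff_map_conj_aux {G : Type u} [Group G] [Finite G] {φ : Equiv.Perm (Fin 3) →* G}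
      (a : Equiv.Perm (Fin 3)) (h : a * finRotate 3 * a⁻¹ = finRotate 3 ∨
        a * finRotate 3 * a⁻¹ = (finRotate 3)⁻¹) :
      φ a ∈ normalizer (zpowers (φ (finRotate 3)) : Set G) := by
    rw [CfsgLib.Coprime.mem_normalizer_iff_map_conj, MonoidHom.map_zpowers]
    show zpowers (φ a * φ (finRotate 3) * (φ a)⁻¹) = _
    rw [← map_inv, ← map_mul, ← map_mul]
    rcases h with h | h <;> rw [h]
    rw [map_inv, zpowers_inv]

/-- `Aut(Alt(5))` is `Sym(5)`. -/
theorem mulAut_altFive_equiv : Nonempty (MulAut (alternatingGroup (Fin 5)) ≃* Equiv.Perm (Fin 5)) := by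
  refine ⟨(MulEquiv.ofBijective (MulAut.conjNormal : Equiv.Perm (Fin 5) →*
    MulAut (alternatingGroup (Fin 5))) ⟨CfsgLib.InvChar.conjNormal_injective (by norm_num),
      fun f => ?_⟩).symm⟩
  refine CfsgLib.InvChar.exists_perm_of_preserves_threeCycles (by norm_num) f fun x hx => ?_
  have h3 : ∀ y : Equiv.Perm (Fin 5), y ^ 3 = 1 → y ≠ 1 → y.IsThreeCycle := by
    intro y h1 h2
    have h := Equiv.Perm.cycleType_prime_order (σ := y) (by
      rw [orderOf_eq_prime h1 h2]; exact Nat.prime_three)
    obtain ⟨n, hn⟩ := h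
    rw [orderOf_eq_prime h1 h2] at hn
    have hsum : y.cycleType.sum ≤ 5 := by
      rw [Equiv.Perm.sum_cycleType]
      exact (Finset.card_le_univ _).trans (by simp)
    rw [hn, Multiset.sum_replicate, smul_eq_mul] at hsum
    obtain rfl : n = 0 := by omega
    simpa [Equiv.Perm.IsThreeCycle] using hn
  refine h3 _ ?_ ?_
  · rw [← SubmonoidClass.coe_pow, ← map_pow, show x ^ 3 = 1 from Subtype.ext (by
      rw [SubmonoidClass.coe_pow, ← hx.orderOf, pow_orderOf_eq_one]; rfl), map_one]
    rfl
  · intro h
    have : x = 1 := f.injective (by rw [map_one]; exact Subtype.ext h)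
    exact hx.ne_one (by rw [this]; rfl)

/-- `Aut(PSL(2, 7))` is `PGL(2, 7)`. -/
theorem mulAut_pslSeven_equiv [Fact (Nat.Prime 7)] :
    Nonempty (MulAut (Matrix.ProjectiveSpecialLinearGroup (Fin 2) (ZMod 7)) ≃*
      GL (Fin 2) (ZMod 7) ⧸ Subgroup.center (GL (Fin 2) (ZMod 7))) := by
  open CfsgLib.KnownC in
  let f : GL (Fin 2) (ZMod 7) →* MulAut (Matrix.ProjectiveSpecialLinearGroup (Fin 2) (ZMod 7)) :=
    MonoidHom.mk' (fun g => semiAut g (RingEquiv.refl _)) fun g h => by
      rw [semiAut_mul]
      rfl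
  let fb := QuotientGroup.lift (Subgroup.center (GL (Fin 2) (ZMod 7))) f fun g hg => by
    refine MonoidHom.mem_ker.2 (Eq.trans ?_ CfsgLib.KnownC.semiAut_one)
    exact (CfsgLib.KnownC.semiAut_eq_iff le_rfl _ _ _ _).2 ⟨rfl, by simpa using hg⟩
  have hinj : Function.Injective fb := by
    rw [injective_iff_map_eq_one]
    intro x hx
    obtain ⟨g, rfl⟩ := QuotientGroup.mk_surjective x
    refine (QuotientGroup.eq_one_iff g).2 ?_
    have := ((CfsgLib.KnownC.semiAut_eq_iff le_rfl g 1 _ (RingEquiv.refl _)).1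
      (Eq.trans hx CfsgLib.KnownC.semiAut_one.symm)).2
    simpa using this
  refine ⟨(MulEquiv.ofBijective fb ((Nat.bijective_iff_injective_and_card _).2 ⟨hinj, ?_⟩)).symm⟩
  rw [CfsgLib.KnownC.card_mulAut_psl le_rfl, if_pos rfl, one_mul,
    Nat.card_unique (α := ZMod 7 ≃+* ZMod 7), one_mul]
  rfl

end CfsgLib.Recog.SuborbitThree
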