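import Cfsg.Agent.Lib.Recog.SuborbitThree.SFourMain
import Cfsg.Agent.Lib.Recog.SuborbitThree.PSLFacts
import Cfsg.Agent.Lib.Perm.MElevenPair
import Cfsg.Agent.Lib.Golay.Mathieu
import Cfsg.Agent.Lib.Geom.PairStab
import Cfsg.Agent.S5892

/-!
# A maximal `Sym(4)`: `L₂(p)`, `p ≡ ±1 (mod 16)`, or `L₃(3)`
-/

set_option autoImplicit false
set_option linter.unusedSectionVars false
set_option linter.style.haveILetI false
set_option maxRecDepth 4000

namespace CfsgLib.Recog.SuborbitThree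

open Subgroup Equiv CfsgLib.Invol
open scoped Pointwise

universe u

/-- `M₁₁` has a subgroup `Sym(5)`. -/
theorem exists_hom_perm_five {G : Type u} [Group G] (h : Cfsg.Spor.IsoM11 G) :
    ∃ f : Perm (Fin 5) →* G, Function.Injective f := by
  obtain ⟨e⟩ := h
  have hd := CfsgLib.Golay.sqMask_mem
  rw [← CfsgLib.Golay.squareDodecad_eq] at hd
  obtain ⟨e5⟩ := CfsgLib.Perm.MElevenPair.pair_equiv hd
    (p := (some 0 : Cfsg.GolayPt)) (q := CfsgLib.Golay.pt 5) (q' := CfsgLib.Golay.pt 7)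
    (by rw [CfsgLib.Golay.squareDodecad_eq]; decide +kernel)
    (by rw [CfsgLib.Golay.squareDodecad_eq]; decide +kernel)
    (by rw [CfsgLib.Golay.squareDodecad_eq]; decide +kernel) (by decide +kernel)
  set X := MulAction.stabilizer Cfsg.M24 Cfsg.Spor.squareDodecad ⊓
    MulAction.stabilizer Cfsg.M24 (some 0 : Cfsg.GolayPt) ⊓
    MulAction.stabilizer Cfsg.M24 ({CfsgLib.Golay.pt 5, CfsgLib.Golay.pt 7} : Finset Cfsg.GolayPt)
  let i : X →* Cfsg.Spor.M11 :=
    MonoidHom.mk' (fun x => ⟨((x : Cfsg.M24) : Perm Cfsg.GolayPt), ⟨(x : Cfsg.M24).2, x.2.1.1⟩, x.2.1.2⟩)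
      fun a b => rfl
  have hi : Function.Injective i := fun a b h =>
    Subtype.ext (Subtype.ext (congrArg (fun y : Cfsg.Spor.M11 => (y : Perm Cfsg.GolayPt)) h))
  exact ⟨(e.symm.toMonoidHom.comp i).comp e5.symm.toMonoidHom,
    (e.symm.injective.comp hi).comp e5.symm.injective⟩

/-- In `M₁₁` a self-normalised `Sym(4)` lies in a `Sym(5)`. -/
theorem not_coatom_of_m11 {G : Type u} [Group G] [Finite G] (S : SFour G) {P : Sylow 2 G}
    (hP : normalizer (S.Q : Set G) ≤ (P : Subgroup G)) (hQD : Cfsg.IsQuasiDihedral (P : Subgroup G))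
    (hM : Cfsg.Spor.IsoM11 G) : ¬ IsCoatom S.φ.range := by
  intro hco
  classical
  haveI : Fact (Nat.Prime 2) := ⟨Nat.prime_two⟩
  obtain ⟨f, hf⟩ := exists_hom_perm_five hM
  let ψ : Perm (Fin 4) →* G := f.comp (Equiv.Perm.extendDomainHom (finSuccAboveEquiv (Fin.last 4)))
  have hψ : Function.Injective ψ := hf.comp (Equiv.Perm.extendDomainHom_injective _)
  have hsq : ∀ (φ : Perm (Fin 4) →* G), ∀ w ∈ vFour.map φ, w * w = 1 := by
    rintro φ _ ⟨σ, hσ, rfl⟩
    have key : ∀ σ : Perm (Fin 4), (σ = 1 ∨ σ = swap 0 1 * swap 2 3 ∨ σ = swap 0 2 * swap 1 3 ∨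
        σ = swap 0 3 * swap 1 2) → σ * σ = 1 := by decide
    rw [← map_mul, key σ (mem_vFour.1 hσ), map_one]
  have hW : Nat.card (vFour.map ψ) = 4 := by rw [card_map_of_injective hψ, card_vFour]
  -- move the four-group into the Sylow subgroup
  obtain ⟨R, hR⟩ := (IsPGroup.of_card (p := 2) (n := 2) hW).exists_le_sylow
  obtain ⟨g, hg⟩ := MulAction.exists_smul_eq G R P
  have hWP : (vFour.map ψ).map (MulAut.conj g).toMonoidHom ≤ (P : Subgroup G) := by
    rw [← hg]
    exact map_mono hR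
  have hVP : S.V ≤ (P : Subgroup G) := fun y hy => by
    rcases S.mem_V_cases hy with rfl | rfl | rfl | rfl
    exacts [one_mem _, S.Q_le hP S.z_mem_Q, S.Q_le hP S.v_mem_Q,
      mul_mem (S.Q_le hP S.v_mem_Q) (S.Q_le hP S.z_mem_Q)]
  obtain ⟨c, hc⟩ := (Cfsg.Agent.S1190.result hQD).1 _ _
    (isKleinFour_subgroupOf (isKleinFour_of_sq
      (by rw [card_map_of_injective (MulAut.conj g).injective, hW]) (by
        rintro _ ⟨w, hw, rfl⟩
        rw [← map_mul, hsq ψ w hw, map_one])) hWP)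
    (isKleinFour_subgroupOf (isKleinFour_of_sq S.card_V (hsq S.φ)) hVP)
  obtain ⟨x, hx⟩ : ∃ x, x = (c : G) * g := ⟨_, rfl⟩
  have hxW : (vFour.map ψ).map (MulAut.conj x).toMonoidHom = S.V := by
    refine eq_of_le_of_card_ge ?_ (by
      rw [S.card_V, card_map_of_injective (MulAut.conj x).injective, hW])
    rintro _ ⟨w, hw, rfl⟩
    have hmem : g * w * g⁻¹ ∈ (P : Subgroup G) := hWP ⟨w, hw, rfl⟩
    have := hc.le ⟨⟨_, hmem⟩, mem_subgroupOf.2 ⟨w, hw, rfl⟩, rfl⟩
    rw [mem_subgroupOf] at this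
    show x * w * x⁻¹ ∈ S.V
    rw [hx, show (c : G) * g * w * ((c : G) * g)⁻¹ = c * (g * w * g⁻¹) * (c : G)⁻¹ by group]
    exact this
  let θ : Perm (Fin 4) →* G := (MulAut.conj x).toMonoidHom.comp ψ
  have hθ : θ.range = S.φ.range := by
    refine eq_of_le_of_card_ge ?_ (le_of_eq ?_)
    · rw [← S.norm_four,
        show vFour.map S.φ = (vFour.map ψ).map (MulAut.conj x).toMonoidHom from hxW.symm, map_map]
      have hn : normalizer (vFour : Set (Perm (Fin 4))) = ⊤ := by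
        rw [normalizer_eq_top_iff]
        refine ⟨fun a ha b => ?_⟩
        have key : ∀ a b : Perm (Fin 4), (a = 1 ∨ a = swap 0 1 * swap 2 3 ∨
            a = swap 0 2 * swap 1 3 ∨ a = swap 0 3 * swap 1 2) →
            (b * a * b⁻¹ = 1 ∨ b * a * b⁻¹ = swap 0 1 * swap 2 3 ∨
              b * a * b⁻¹ = swap 0 2 * swap 1 3 ∨ b * a * b⁻¹ = swap 0 3 * swap 1 2) := by decide
        exact key a b ha
      rw [MonoidHom.range_eq_map, ← hn]
      exact le_normalizer_map _
    · rw [Nat.card_congr (MonoidHom.ofInjective S.inj).symm.toEquiv,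
        Nat.card_congr (MonoidHom.ofInjective (f := θ) ((MulAut.conj x).injective.comp hψ)).symm.toEquiv]
  let F5 : Perm (Fin 5) →* G := (MulAut.conj x).toMonoidHom.comp f
  have hF5 : Nat.card F5.range = 120 := by
    rw [Nat.card_congr (MonoidHom.ofInjective (f := F5) ((MulAut.conj x).injective.comp hf)).symm.toEquiv,
      Nat.card_perm, Nat.card_fin]
    rfl
  have hH : Nat.card S.φ.range = 24 := by
    rw [Nat.card_congr (MonoidHom.ofInjective S.inj).symm.toEquiv, Nat.card_perm, Nat.card_fin]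
    rfl
  have hlt : S.φ.range < F5.range := by
    refine lt_of_le_of_ne (hθ ▸ ?_) fun e => by rw [e, hF5] at hH; omega
    rintro _ ⟨σ, rfl⟩
    exact ⟨_, rfl⟩
  have hG : Nat.card G = 7920 := by
    obtain ⟨e⟩ := hM
    rw [Nat.card_congr e.toEquiv, CfsgLib.Golay.card_sporM11]
  have htop := hco.2 _ hlt
  rw [htop, card_top, hG] at hF5
  omega

/-- A maximal subgroup of order twenty four of `PSL₂(q)` with sixteen dividing `q ± 1` forces a
prime field. -/
theorem prime_of_coatom {F : Type} [Field F] [Fintype F]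
    (hodd : Odd (Fintype.card F))
    (h16 : 16 ∣ Fintype.card F - 1 ∨ 16 ∣ Fintype.card F + 1) (h5 : 5 ≤ Fintype.card F)
    (M : Subgroup (Matrix.ProjectiveSpecialLinearGroup (Fin 2) F)) (hM : IsCoatom M)
    (h24 : Nat.card M = 24) :
    (Fintype.card F).Prime ∧ (Fintype.card F % 16 = 1 ∨ Fintype.card F % 16 = 15) := by
  classical
  obtain ⟨p, hchar⟩ := CharP.exists F
  haveI := hchar
  obtain ⟨n, hp, hn⟩ := FiniteField.card F p
  haveI := Fact.mk hp
  have h15 : 15 ≤ Fintype.card F := by rcases h16 with h | h <;> have := Nat.le_of_dvd (by omega) h <;> omega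
  rcases Cfsg.Agent.S5892.result p hodd h5 M hM with h | ⟨-, k, hk, ⟨e⟩⟩ | ⟨-, -, k, hk, ⟨e⟩⟩ |
    ⟨F₀, _, _, hq, ⟨e⟩⟩ | ⟨F₀, _, _, r, hr, hro, hq, ⟨e⟩⟩ | ⟨-, -, ⟨e⟩⟩ | ⟨-, -, -, ⟨e⟩⟩ | ⟨hq, hp8, -⟩
  · have : 15 * 14 ≤ Fintype.card F * (Fintype.card F - 1) := Nat.mul_le_mul h15 (by omega)
    omega
  · rw [Nat.card_congr e.toEquiv, DihedralGroup.nat_card] at h24
    rcases h16 with h | h <;> omega
  · rw [Nat.card_congr e.toEquiv, DihedralGroup.nat_card] at h24
    rcases h16 with h | h <;> omega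
  · rw [Nat.card_congr e.toEquiv, CfsgLib.Geom.Moebius.card_pgl_two] at h24
    have h4 : 4 ≤ Fintype.card F₀ := by
      by_contra hlt
      have : Fintype.card F₀ ^ 2 ≤ 3 ^ 2 := Nat.pow_le_pow_left (by omega) 2
      omega
    have : 5 * (4 * 3) ≤ (Fintype.card F₀ + 1) * (Fintype.card F₀ * (Fintype.card F₀ - 1)) :=
      Nat.mul_le_mul (by omega) (Nat.mul_le_mul h4 (by omega))
    omega
  · have hodd0 : Odd (Fintype.card F₀) := by
      rw [← Nat.not_even_iff_odd] at hodd ⊢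
      exact fun h => hodd (hq ▸ h.pow_of_ne_zero hr.ne_zero)
    have h1 : 1 < Fintype.card F₀ := Fintype.one_lt_card
    have hc := CfsgLib.Geom.Moebius.card_psl_two_gcd (F := F₀)
    have h2 : Nat.gcd 2 (Fintype.card F₀ - 1) = 2 := Nat.gcd_eq_left
      (even_iff_two_dvd.1 (by obtain ⟨j, hj⟩ := hodd0; exact ⟨j, by omega⟩))
    rw [← Nat.card_congr e.toEquiv, h24, h2] at hc
    rcases Nat.lt_or_ge (Fintype.card F₀) 5 with hlt | hge
    · obtain ⟨j, hj⟩ := hodd0
      obtain rfl : j = 1 := by omega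
      rw [hj] at hc
      norm_num at hc
    · obtain ⟨j, hj⟩ : ∃ j, Fintype.card F₀ = j + 5 := ⟨_, (Nat.sub_add_cancel hge).symm⟩
      rw [hj] at hc
      rw [show j + 5 - 1 = j + 4 by omega] at hc
      have : 5 * (6 * 4) ≤ (j + 5) * ((j + 5 + 1) * (j + 4)) :=
        Nat.mul_le_mul (by omega) (Nat.mul_le_mul (by omega) (by omega))
      omega
  · rw [Nat.card_congr e.toEquiv, nat_card_alternatingGroup] at h24
    simp [Nat.factorial] at h24
  · rw [Nat.card_congr e.toEquiv, nat_card_alternatingGroup] at h24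
    simp [Nat.factorial] at h24
  · rw [hq]
    refine ⟨hp, ?_⟩
    rw [hq] at h16
    rcases h16 with h | h <;> omega

/-- **The maximal `Sym(4)`.** -/
theorem case_four {G : Type u} [Group G] [Finite G] {H : Subgroup G} (hP : Prim H)
    (e : H ≃* Perm (Fin 4)) :
    (∃ p : ℕ, p.Prime ∧ (p % 16 = 1 ∨ p % 16 = 15) ∧
      Nonempty (G ≃* Matrix.ProjectiveSpecialLinearGroup (Fin 2) (ZMod p))) ∨
      Nonempty (G ≃* Matrix.ProjectiveSpecialLinearGroup (Fin 3) (ZMod 3)) := by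
  classical
  haveI : Fact (Nat.Prime 2) := ⟨Nat.prime_two⟩
  obtain ⟨S, hS⟩ := exists_sFour hP e
  haveI := S.isSimple
  obtain ⟨P, hPQ⟩ := S.exists_sylow
  rcases S.shape hPQ with ⟨n, -, ⟨eP⟩⟩ | hQD
  swap
  · rcases S.classify_semi hPQ hQD with h | h
    · exact Or.inr h
    · exact absurd (hS ▸ hP.coatom) (not_coatom_of_m11 S hPQ hQD h)
  have hmax : ∀ X : Subgroup G, S.φ.range ≤ normalizer (X : Set G) → X ≤ S.φ.range ∨ X = ⊤ := by
    intro X hX
    rcases eq_or_lt_of_le hX with h | h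
    · exact Or.inl (h ▸ le_normalizer)
    · rcases (normalizer_eq_top_iff.1 ((hS ▸ hP.coatom).2 _ h)).eq_bot_or_eq_top with e0 | e0
      · exact Or.inl (e0 ▸ bot_le)
      · exact Or.inr e0
  obtain ⟨h16, F, _, _, hodd, ⟨ε⟩⟩ := S.classify_dihedral P n eP (Or.inl hmax)
  have h5 := five_le_card hP.insoluble hodd ε
  have hc : Nat.card (centralizer ({ε S.z} : Set (Matrix.ProjectiveSpecialLinearGroup (Fin 2) F))) =
      Nat.card (centralizer ({S.z} : Set G)) := by
    refine (Nat.card_congr (ε.toEquiv.subtypeEquiv fun x => ?_)).symm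
    rw [mem_centralizer_singleton_iff, mem_centralizer_singleton_iff]
    show x * S.z = S.z * x ↔ ε x * ε S.z = ε S.z * ε x
    rw [← map_mul, ← map_mul]
    exact ε.injective.eq_iff.symm
  have h16' : 16 ∣ Fintype.card F - 1 ∨ 16 ∣ Fintype.card F + 1 := by
    rcases card_centralizer_involution_psl hodd (by omega)
      (show orderOf (ε S.z) = 2 by rw [MulEquiv.orderOf_eq]; exact S.z_order) with h | h
    · exact Or.inl (by rw [← h, hc]; exact h16)
    · exact Or.inr (by rw [← h, hc]; exact h16)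
  obtain ⟨hp, hmod⟩ := prime_of_coatom hodd h16' h5 (H.map ε.toMonoidHom)
    ((OrderIso.isCoatom_iff (MulEquiv.mapSubgroup ε) H).2 hP.coatom)
    (by rw [card_map_of_injective ε.injective, Nat.card_congr e.toEquiv, Nat.card_perm, Nat.card_fin]; rfl)
  haveI : Fact (Fintype.card F).Prime := ⟨hp⟩
  exact Or.inl ⟨Fintype.card F, hp, hmod,
    ⟨ε.trans (CfsgLib.Geom.Moebius.pslCongr (ZMod.ringEquivOfPrime F hp rfl).symm)⟩⟩

end CfsgLib.Recog.SuborbitThree
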