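import Cfsg.Agent.Lib.Recog.SuborbitThree.Setup
import Mathlib.GroupTheory.Perm.Sign
import Mathlib.GroupTheory.SpecificGroups.Alternating

/-!
# A self-normalised four-group with normaliser `Sym(4)`: the setting
-/

set_option autoImplicit false

namespace CfsgLib.Recog.SuborbitThree

open Subgroup Equiv

universe u

/-- The double transpositions with the identity. -/
def vFour : Subgroup (Perm (Fin 4)) where
  carrier := {σ | σ = 1 ∨ σ = swap 0 1 * swap 2 3 ∨ σ = swap 0 2 * swap 1 3 ∨ σ = swap 0 3 * swap 1 2}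
  one_mem' := Or.inl rfl
  mul_mem' := by
    rintro a b (rfl | rfl | rfl | rfl) (rfl | rfl | rfl | rfl) <;>
      simp only [Set.mem_ofPred_eq] <;> decide
  inv_mem' := by
    rintro a (rfl | rfl | rfl | rfl) <;> simp only [Set.mem_ofPred_eq] <;> decide

/-- A Sylow two-subgroup of `Sym(4)`: the permutations commuting with `(0 1)(2 3)`. -/
def dFour : Subgroup (Perm (Fin 4)) := centralizer {swap 0 1 * swap 2 3}

theorem mem_vFour {σ : Perm (Fin 4)} : σ ∈ vFour ↔ σ = 1 ∨ σ = swap 0 1 * swap 2 3 ∨
    σ = swap 0 2 * swap 1 3 ∨ σ = swap 0 3 * swap 1 2 := Iff.rfl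

theorem mem_dFour {σ : Perm (Fin 4)} :
    σ ∈ dFour ↔ σ * (swap 0 1 * swap 2 3) = swap 0 1 * swap 2 3 * σ :=
  mem_centralizer_singleton_iff

theorem card_vFour : Nat.card vFour = 4 := by
  rw [Nat.card_congr (Equiv.subtypeEquivRight (fun σ => (mem_vFour (σ := σ)))), Nat.card_eq_fintype_card]
  decide

theorem card_dFour : Nat.card dFour = 8 := by
  rw [Nat.card_congr (Equiv.subtypeEquivRight (fun σ => (mem_dFour (σ := σ)))), Nat.card_eq_fintype_card]
  decide

/-- A group with no soluble normal subgroup containing a copy of `Sym(4)` which is the whole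
normaliser of its four-group, which lies in no proper normal subgroup, and whose Sylow
two-subgroup is normalised outside. -/
structure SFour (M : Type u) [Group M] where
  φ : Perm (Fin 4) →* M
  inj : Function.Injective φ
  norm_four : normalizer ((vFour.map φ : Subgroup M) : Set M) = φ.range
  g : M
  g_notMem : g ∉ φ.range
  g_norm : g ∈ normalizer ((dFour.map φ : Subgroup M) : Set M)
  nosol : ∀ N : Subgroup M, N.Normal → Group.IsSolvable N → N = ⊥
  gen : ∀ N : Subgroup M, N.Normal → φ.range ≤ N → N = ⊤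

/-- A point stabiliser `Sym(4)` gives this setting. -/
theorem exists_sFour {G : Type u} [Group G] [Finite G] {H : Subgroup G} (hP : Prim H)
    (e : H ≃* Perm (Fin 4)) : ∃ S : SFour G, S.φ.range = H := by
  let φ : Perm (Fin 4) →* G := H.subtype.comp e.symm.toMonoidHom
  have hinj : Function.Injective φ := H.subtype_injective.comp e.symm.injective
  have hr : φ.range = H := by
    rw [MonoidHom.range_comp, MonoidHom.range_eq_top_of_surjective _ e.symm.surjective,
      ← MonoidHom.range_eq_map, Subgroup.range_subtype]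
  have hn : vFour.Normal := by
    refine ⟨fun x hx y => ?_⟩
    have key : ∀ x y : Perm (Fin 4),
        (x = 1 ∨ x = swap 0 1 * swap 2 3 ∨ x = swap 0 2 * swap 1 3 ∨ x = swap 0 3 * swap 1 2) →
        (y * x * y⁻¹ = 1 ∨ y * x * y⁻¹ = swap 0 1 * swap 2 3 ∨ y * x * y⁻¹ = swap 0 2 * swap 1 3 ∨
          y * x * y⁻¹ = swap 0 3 * swap 1 2) := by decide
    exact key x y hx
  obtain ⟨g, hgH, hgN⟩ := hP.move (dFour.map φ) (hr ▸ map_le_range _ _) (by
    rw [card_map_of_injective hinj, card_dFour, Nat.card_congr e.toEquiv, Nat.card_perm, Nat.card_fin]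
    rfl)
  refine ⟨⟨φ, hinj, ?_, g, by rwa [hr], hgN, hP.nosol, fun N hN hle => ?_⟩, hr⟩
  · rw [hr]
    refine hP.normalizer_eq ?_ (hr ▸ map_le_range _ _) ?_
    · rw [Ne, map_eq_bot_iff_of_injective _ hinj]
      intro h
      have := card_vFour
      rw [h, card_bot] at this
      omega
    · rw [← hr, MonoidHom.range_eq_map]
      refine le_trans ?_ (le_normalizer_map _)
      rw [normalizer_eq_top]
  · by_contra htop
    rw [hr] at hle
    rcases lt_or_eq_of_le hle with hlt | heq
    · exact htop (hP.coatom.2 _ hlt)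
    · exact hP.ne_bot (hP.core N hN heq.ge ▸ heq)

end CfsgLib.Recog.SuborbitThree
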