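import Cfsg.Agent.Lib.Recog.SuborbitThree.SFour
import Cfsg.Agent.Lib.Invol.DihedralFusion
import Cfsg.Agent.Lib.FT.OddOrder
import Cfsg.Agent.Lib.Invol.RankOne
import Cfsg.Agent.Lib.Invol.QDFusion
import Cfsg.Agent.S3224
import Cfsg.Agent.S1190

/-!
# A self-normalised four-group: the Sylow two-subgroup, fusion and simplicity
-/

set_option autoImplicit false
set_option linter.unusedSectionVars false
set_option linter.style.haveILetI false

namespace CfsgLib.Recog.SuborbitThree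

open Subgroup Equiv CfsgLib.Invol

universe u

namespace SFour

variable {M : Type u} [Group M] (S : SFour M)

/-- The central involution of the chosen Sylow subgroup. -/
abbrev z : M := S.φ (swap 0 1 * swap 2 3)
/-- A second involution of the four-group. -/
abbrev v : M := S.φ (swap 0 2 * swap 1 3)
/-- A transposition. -/
abbrev s : M := S.φ (swap 0 1)
/-- The four-group. -/
abbrev V : Subgroup M := vFour.map S.φ
/-- The dihedral group of order eight. -/
abbrev Q : Subgroup M := dFour.map S.φ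

theorem orderOf_image {σ : Perm (Fin 4)} (h : σ * σ = 1) (h1 : σ ≠ 1) : orderOf (S.φ σ) = 2 :=
  invol_of_mul_self (by rw [← map_mul, h, map_one]) fun e => h1 (S.inj (e.trans (map_one _).symm))

theorem z_order : orderOf S.z = 2 := S.orderOf_image (by decide) (by decide)

theorem v_order : orderOf S.v = 2 := S.orderOf_image (by decide) (by decide)

theorem v_ne_z : S.v ≠ S.z := fun h => absurd (S.inj h) (by decide)

theorem z_mem_Q : S.z ∈ S.Q := mem_map_of_mem _ (mem_dFour.2 rfl)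

theorem v_mem_Q : S.v ∈ S.Q := mem_map_of_mem _ (mem_dFour.2 (by decide))

theorem v_mem_V : S.v ∈ S.V := mem_map_of_mem _ (Or.inr (Or.inr (Or.inl rfl)))

theorem z_mem_V : S.z ∈ S.V := mem_map_of_mem _ (Or.inr (Or.inl rfl))

theorem commute_z_v : Commute S.z S.v := by
  show _ * _ = _ * _
  rw [← map_mul, ← map_mul]
  exact congrArg _ (by decide)

theorem mem_V_cases {x : M} (hx : x ∈ S.V) : x = 1 ∨ x = S.z ∨ x = S.v ∨ x = S.v * S.z := by
  obtain ⟨σ, hσ, rfl⟩ := hx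
  rcases mem_vFour.1 hσ with rfl | rfl | rfl | rfl
  · exact Or.inl (map_one _)
  · exact Or.inr (Or.inl rfl)
  · exact Or.inr (Or.inr (Or.inl rfl))
  · refine Or.inr (Or.inr (Or.inr ?_))
    rw [← map_mul]
    congr 1
    decide

/-- The four-group is its own centraliser. -/
theorem mem_V_of_commute {x : M} (hz : Commute x S.z) (hv : Commute x S.v) : x ∈ S.V := by
  have hx : x ∈ normalizer (S.V : Set M) := centralizer_le_normalizer _ (mem_centralizer_iff.2
    fun y hy => by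
      rcases S.mem_V_cases hy with rfl | rfl | rfl | rfl
      exacts [(Commute.one_right x).eq.symm, hz.eq.symm, hv.eq.symm, (hv.mul_right hz).eq.symm])
  rw [S.norm_four] at hx
  obtain ⟨σ, rfl⟩ := hx
  refine mem_map_of_mem _ ?_
  have key : ∀ σ : Perm (Fin 4), σ * (swap 0 1 * swap 2 3) = swap 0 1 * swap 2 3 * σ →
      σ * (swap 0 2 * swap 1 3) = swap 0 2 * swap 1 3 * σ →
      (σ = 1 ∨ σ = swap 0 1 * swap 2 3 ∨ σ = swap 0 2 * swap 1 3 ∨
        σ = swap 0 3 * swap 1 2) := by decide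
  refine mem_vFour.2 (key σ (S.inj ?_) (S.inj ?_)) <;> simp only [map_mul]
  · simpa only [map_mul] using hz.eq
  · simpa only [map_mul] using hv.eq

theorem card_V : Nat.card S.V = 4 := by rw [card_map_of_injective S.inj, card_vFour]

theorem card_Q : Nat.card S.Q = 8 := by rw [card_map_of_injective S.inj, card_dFour]

theorem commute_z_Q {x : M} (hx : x ∈ S.Q) : Commute S.z x := by
  obtain ⟨σ, hσ, rfl⟩ := hx
  show _ * _ = _ * _
  rw [← map_mul, ← map_mul]
  exact congrArg _ (mem_dFour.1 hσ).symm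

theorem eq_z_of_central {x : M} (hx : x ∈ S.Q) (h2 : orderOf x = 2)
    (hc : ∀ y ∈ S.Q, Commute x y) : x = S.z := by
  obtain ⟨σ, hσ, rfl⟩ := hx
  have key : ∀ σ : Perm (Fin 4), σ * (swap 0 1 * swap 2 3) = swap 0 1 * swap 2 3 * σ →
      σ * (swap 0 2 * swap 1 3) = swap 0 2 * swap 1 3 * σ → σ * swap 0 1 = swap 0 1 * σ →
      σ ≠ 1 → σ = swap 0 1 * swap 2 3 := by decide
  refine congrArg _ (key σ (mem_dFour.1 hσ) (S.inj ?_) (S.inj ?_) fun e => ?_)
  · rw [map_mul S.φ σ, map_mul S.φ _ σ]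
    exact hc _ S.v_mem_Q
  · rw [map_mul S.φ σ, map_mul S.φ _ σ]
    exact hc _ (mem_map_of_mem _ (mem_dFour.2 (by decide)))
  · rw [e, map_one, orderOf_one] at h2
    omega

theorem fix_z {x : M} (hx : x ∈ normalizer (S.Q : Set M)) : x * S.z * x⁻¹ = S.z := by
  refine S.eq_z_of_central ((mem_normalizer_iff.1 hx _).1 S.z_mem_Q)
    (by rw [orderOf_conj_eq]; exact S.z_order) fun y hy => ?_
  have h := (S.commute_z_Q ((mem_normalizer_iff.1 (inv_mem hx) y).1 hy)).map (MulAut.conj x)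
  simp only [MulAut.conj_apply, inv_inv] at h
  rwa [show x * (x⁻¹ * y * x) * x⁻¹ = y by group] at h

/-- An element fixing the centre and mapping `v` into the four-group normalises it. -/
theorem mem_range_of_fix {x : M} (hz : x * S.z * x⁻¹ = S.z) (hv : x * S.v * x⁻¹ ∈ S.V) :
    x ∈ S.φ.range := by
  have : Finite S.V := Nat.finite_of_card_ne_zero (by rw [S.card_V]; decide)
  rw [← S.norm_four, mem_normalizer_iff_map_conj_eq]
  refine eq_of_le_of_card_ge ?_ (le_of_eq ?_)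
  · rintro _ ⟨y, hy, rfl⟩
    show x * y * x⁻¹ ∈ S.V
    rcases S.mem_V_cases hy with rfl | rfl | rfl | rfl
    · simp
    · rw [hz]; exact S.z_mem_V
    · exact hv
    · rw [← conj_mul, hz]; exact mul_mem hv S.z_mem_V
  · exact (card_map_of_injective (MulAut.conj x).injective).symm

theorem mem_Q_of_range {x : M} (hx : x ∈ S.φ.range) (hz : Commute x S.z) : x ∈ S.Q := by
  obtain ⟨σ, rfl⟩ := hx
  refine mem_map_of_mem _ (mem_dFour.2 (S.inj ?_))
  rw [map_mul S.φ σ, map_mul S.φ _ σ]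
  exact hz.eq

theorem mem_Q_of_fix {x : M} (hz : x * S.z * x⁻¹ = S.z) (hv : x * S.v * x⁻¹ ∈ S.V) : x ∈ S.Q :=
  S.mem_Q_of_range (S.mem_range_of_fix hz hv) (mul_inv_eq_iff_eq_mul.1 hz)

/-- Outside of the four-group, the involutions of `Q` are two transpositions. -/
theorem invol_Q {x : M} (hx : x ∈ S.Q) (h2 : orderOf x = 2) :
    x ∈ S.V ∨ x = S.s ∨ x = S.s * S.z := by
  obtain ⟨σ, hσ, rfl⟩ := hx
  have key : ∀ σ : Perm (Fin 4), σ * (swap 0 1 * swap 2 3) = swap 0 1 * swap 2 3 * σ →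
      σ * σ = 1 → ((σ = 1 ∨ σ = swap 0 1 * swap 2 3 ∨ σ = swap 0 2 * swap 1 3 ∨
        σ = swap 0 3 * swap 1 2) ∨ σ = swap 0 1 ∨ σ = swap 0 1 * (swap 0 1 * swap 2 3)) := by decide
  rcases key σ (mem_dFour.1 hσ) (S.inj (by rw [map_mul, map_one]; exact invol_mul_self h2)) with
    h | h | h
  · exact Or.inl (mem_map_of_mem _ h)
  · exact Or.inr (Or.inl (congrArg _ h))
  · exact Or.inr (Or.inr (by rw [h, map_mul]))

theorem g_fix : S.g * S.z * S.g⁻¹ = S.z := S.fix_z S.g_norm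

theorem g_moves : S.g * S.v * S.g⁻¹ = S.s ∨ S.g * S.v * S.g⁻¹ = S.s * S.z := by
  rcases S.invol_Q ((mem_normalizer_iff.1 S.g_norm _).1 S.v_mem_Q)
    (by rw [orderOf_conj_eq]; exact S.v_order) with h | h
  · exact absurd (S.mem_range_of_fix S.g_fix h) S.g_notMem
  · exact h

theorem mem_Q_or {x : M} (hx : x ∈ normalizer (S.Q : Set M)) : x ∈ S.Q ∨ S.g⁻¹ * x ∈ S.Q := by
  have hz := S.fix_z hx
  rcases S.invol_Q ((mem_normalizer_iff.1 hx _).1 S.v_mem_Q)
    (by rw [orderOf_conj_eq]; exact S.v_order) with h | h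
  · exact Or.inl (S.mem_Q_of_fix hz h)
  refine Or.inr (S.mem_Q_of_fix ?_ ?_)
  · calc S.g⁻¹ * x * S.z * (S.g⁻¹ * x)⁻¹ = S.g⁻¹ * (x * S.z * x⁻¹) * S.g := by group
      _ = S.g⁻¹ * (S.g * S.z * S.g⁻¹) * S.g := by rw [hz, S.g_fix]
      _ = S.z := by group
  have hgz : S.g⁻¹ * S.z * S.g = S.z := by
    calc S.g⁻¹ * S.z * S.g = S.g⁻¹ * (S.g * S.z * S.g⁻¹) * S.g := by rw [S.g_fix]
      _ = S.z := by group
  have key : ∀ y, (y = S.s ∨ y = S.s * S.z) → S.g⁻¹ * y * S.g ∈ S.V := by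
    have hs : S.g⁻¹ * S.s * S.g ∈ S.V := by
      rcases S.g_moves with e | e
      · rw [← e, show S.g⁻¹ * (S.g * S.v * S.g⁻¹) * S.g = S.v by group]; exact S.v_mem_V
      · rw [eq_mul_inv_of_mul_eq e.symm,
          show S.g⁻¹ * (S.g * S.v * S.g⁻¹ * S.z⁻¹) * S.g = S.v * (S.g⁻¹ * S.z * S.g)⁻¹ by group, hgz]
        exact mul_mem S.v_mem_V (inv_mem S.z_mem_V)
    rintro y (rfl | rfl)
    · exact hs
    · rw [show S.g⁻¹ * (S.s * S.z) * S.g = (S.g⁻¹ * S.s * S.g) * (S.g⁻¹ * S.z * S.g) by group, hgz]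
      exact mul_mem hs S.z_mem_V
  rw [show S.g⁻¹ * x * S.v * (S.g⁻¹ * x)⁻¹ = S.g⁻¹ * (x * S.v * x⁻¹) * S.g by group]
  exact key _ h

theorem card_norm_Q [Finite M] : Nat.card (normalizer (S.Q : Set M)) = 16 := by
  have hg : S.g ∉ S.Q := fun h => S.g_notMem (map_le_range _ _ h)
  have hi : (S.Q.subgroupOf (normalizer (S.Q : Set M))).index = 2 := by
    rw [index_eq_two_iff]
    refine ⟨⟨S.g, S.g_norm⟩, fun ⟨b, hb⟩ => ?_⟩
    simp only [mem_subgroupOf, Subgroup.coe_mul]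
    rcases S.mem_Q_or hb with h | h
    · exact Or.inr ⟨h, fun h' => hg ((Subgroup.mul_mem_cancel_left _ h).1 h')⟩
    · refine Or.inl ⟨?_, fun h' => hg ?_⟩
      · rcases S.mem_Q_or (mul_mem S.g_norm S.g_norm) with h2 | h2
        · rw [show b * S.g = (S.g * S.g) * (S.g⁻¹ * (S.g⁻¹ * b) * S.g) by group]
          refine mul_mem h2 ?_
          have := (mem_normalizer_iff.1 (inv_mem S.g_norm) _).1 h
          rwa [inv_inv] at this
        · exact absurd (by rwa [inv_mul_cancel_left] at h2) hg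
      · rw [show S.g = b * (S.g⁻¹ * b)⁻¹ by group]
        exact mul_mem h' (inv_mem h)
  have := (S.Q.subgroupOf (normalizer (S.Q : Set M))).card_mul_index
  rw [hi, Nat.card_congr (subgroupOfEquivOfLe le_normalizer).toEquiv, S.card_Q] at this
  omega

/-- A Sylow subgroup over `N(Q)`. -/
theorem exists_sylow [Finite M] : ∃ P : Sylow 2 M, normalizer (S.Q : Set M) ≤ (P : Subgroup M) :=
  (IsPGroup.of_card (n := 4) S.card_norm_Q).exists_le_sylow

section Sylow

variable [Finite M] {P : Sylow 2 M} (hP : normalizer (S.Q : Set M) ≤ (P : Subgroup M))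
include hP

theorem Q_le : S.Q ≤ (P : Subgroup M) := le_normalizer.trans hP

theorem z_central : ∀ x ∈ (P : Subgroup M), Commute S.z x := by
  have : Fact (Nat.Prime 2) := ⟨Nat.prime_two⟩
  haveI : Nontrivial (P : Subgroup M) := ⟨⟨S.z, S.Q_le hP S.z_mem_Q⟩, 1,
    fun e => invol_ne_one S.z_order (congrArg Subtype.val e)⟩
  haveI := P.2.center_nontrivial
  have h2 : 2 ∣ Nat.card (center (P : Subgroup M)) := by
    obtain ⟨n, hn⟩ := (P.2.to_subgroup (center (P : Subgroup M))).exists_card_eq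
    rcases n with _ | n
    · have := Finite.one_lt_card (α := center (P : Subgroup M))
      rw [hn] at this
      omega
    · exact hn ▸ dvd_pow_self 2 (Nat.succ_ne_zero n)
  obtain ⟨⟨c, hc⟩, hco⟩ := exists_prime_orderOf_dvd_card' 2 h2
  rw [Subgroup.orderOf_mk, ← Subgroup.orderOf_coe] at hco
  have hcom : ∀ x ∈ (P : Subgroup M), Commute (c : M) x := fun x hx =>
    (congrArg Subtype.val (mem_center_iff.1 hc ⟨x, hx⟩)).symm
  have hQ : (c : M) ∈ S.Q := by
    obtain ⟨σ, hσ, e⟩ := S.mem_V_of_commute (hcom _ (S.Q_le hP S.z_mem_Q)) (hcom _ (S.Q_le hP S.v_mem_Q))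
    refine S.mem_Q_of_range ⟨σ, e⟩ (hcom _ (S.Q_le hP S.z_mem_Q))
  rw [← S.eq_z_of_central hQ hco fun y hy => hcom _ (S.Q_le hP hy)]
  exact hcom

theorem shape : (∃ n : ℕ, 8 ≤ n ∧ Nonempty ((P : Subgroup M) ≃* DihedralGroup n)) ∨
    Cfsg.IsQuasiDihedral (P : Subgroup M) := by
  have h16 : 16 ≤ Nat.card (P : Subgroup M) := S.card_norm_Q ▸ Nat.le_of_dvd Nat.card_pos (card_dvd_of_le hP)
  let x : (P : Subgroup M) := ⟨S.v, S.Q_le hP S.v_mem_Q⟩
  have hc : (centralizer ({x} : Set (P : Subgroup M))).map (P : Subgroup M).subtype = S.V := by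
    ext y
    constructor
    · rintro ⟨⟨y, hy⟩, hyc, rfl⟩
      exact S.mem_V_of_commute (S.z_central hP y hy).symm
        (congrArg Subtype.val (mem_centralizer_singleton_iff.1 hyc))
    · intro hy
      have hyP : y ∈ (P : Subgroup M) := by
        rcases S.mem_V_cases hy with rfl | rfl | rfl | rfl
        exacts [one_mem _, S.Q_le hP S.z_mem_Q, S.Q_le hP S.v_mem_Q,
          mul_mem (S.Q_le hP S.v_mem_Q) (S.Q_le hP S.z_mem_Q)]
      refine ⟨⟨y, hyP⟩, mem_centralizer_singleton_iff.2 (Subtype.ext ?_), rfl⟩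
      rcases S.mem_V_cases hy with rfl | rfl | rfl | rfl
      exacts [(Commute.one_left S.v).eq, S.commute_z_v.eq, rfl,
        ((Commute.refl S.v).mul_left S.commute_z_v).eq]
  rcases Cfsg.Agent.S3224.result P.2 x ((Subgroup.orderOf_coe x).symm.trans S.v_order)
    (by rw [← card_map_of_injective (P : Subgroup M).subtype_injective, hc]; exact S.card_V)
    with ⟨n, ⟨e⟩⟩ | h | h
  · refine Or.inl ⟨n, ?_, ⟨e⟩⟩
    have := Nat.card_congr e.toEquiv
    rw [DihedralGroup.nat_card] at this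
    omega
  · exact Or.inr h
  · omega

end Sylow

include S

theorem z_conj (σ : Perm (Fin 4)) (h : σ * σ = 1) (h1 : σ ≠ 1) : IsConj S.z (S.φ σ) := by
  have key : ∀ σ : Perm (Fin 4), σ * σ = 1 → σ ≠ 1 →
      (∃ τ : Perm (Fin 4), τ * (swap 0 1 * swap 2 3) * τ⁻¹ = σ) ∨
        ∃ τ : Perm (Fin 4), τ * swap 0 1 * τ⁻¹ = σ := by decide
  have hmap : ∀ a b : Perm (Fin 4), (∃ τ, τ * a * τ⁻¹ = b) → IsConj (S.φ a) (S.φ b) := by
    rintro a b ⟨τ, rfl⟩
    exact isConj_iff.2 ⟨S.φ τ, by rw [map_mul, map_mul, map_inv]⟩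
  rcases key σ h h1 with hτ | hτ
  · exact hmap _ _ hτ
  refine IsConj.trans ?_ (hmap _ _ hτ)
  rcases S.g_moves with e | e
  · refine (hmap _ (swap 0 2 * swap 1 3) ⟨swap 1 2, by decide⟩).trans (isConj_iff.2 ⟨S.g, e⟩)
  · refine (hmap _ (swap 0 2 * swap 1 3) ⟨swap 1 2, by decide⟩).trans ((isConj_iff.2 ⟨S.g, e⟩).trans ?_)
    rw [show S.s * S.z = S.φ (swap 0 1 * (swap 0 1 * swap 2 3)) from (map_mul _ _ _).symm]
    exact hmap _ _ ⟨swap 0 2 * swap 1 3, by decide⟩

theorem top_of_z_mem {N : Subgroup M} (hN : N.Normal) (hz : S.z ∈ N) : N = ⊤ := by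
  refine S.gen N hN ?_
  rw [MonoidHom.range_eq_map, ← Equiv.Perm.closure_isSwap, MonoidHom.map_closure, closure_le]
  rintro _ ⟨σ, ⟨a, b, hab, rfl⟩, rfl⟩
  obtain ⟨x, hx⟩ := isConj_iff.1 (S.z_conj (swap a b) (swap_mul_self a b)
    fun e => hab (swap_eq_one_iff.1 e))
  show S.φ (swap a b) ∈ N
  rw [← hx]
  exact hN.conj_mem _ hz x

theorem no_index_two : ∀ N : Subgroup M, N.index ≠ 2 := by
  intro N hN
  have hn : N.Normal := normal_of_index_eq_two hN
  have hz : S.z ∈ N := by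
    by_contra hz
    have hout : ∀ σ : Perm (Fin 4), σ * σ = 1 → σ ≠ 1 → S.φ σ ∉ N := fun σ h h1 hm => by
      obtain ⟨x, hx⟩ := isConj_iff.1 (S.z_conj σ h h1).symm
      exact hz (hx ▸ hn.conj_mem _ hm x)
    refine hz ?_
    rw [show S.z = S.φ (swap 0 2 * swap 1 3) * S.φ (swap 0 3 * swap 1 2) by
      rw [← map_mul, show (swap 0 2 * swap 1 3 : Perm (Fin 4)) * (swap 0 3 * swap 1 2) =
        swap 0 1 * swap 2 3 by decide]]
    exact (mul_mem_iff_of_index_two hN).2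
      ⟨fun h => absurd h (hout _ (by decide) (by decide)),
        fun h => absurd h (hout _ (by decide) (by decide))⟩
  rw [S.top_of_z_mem hn hz, index_top] at hN
  omega

/-- All involutions are conjugate. -/
theorem one_class [Finite M] (a b : M) (ha : orderOf a = 2) (hb : orderOf b = 2) : IsConj a b := by
  have : Fact (Nat.Prime 2) := ⟨Nat.prime_two⟩
  obtain ⟨P, hP⟩ := S.exists_sylow
  rcases S.shape hP with ⟨n, hn, ⟨e⟩⟩ | hQD
  · obtain ⟨D⟩ := exists_dihData P.2 (by omega) e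
    exact one_class_of_no_index_two P D S.no_index_two a b ha hb
  suffices key : ∀ u : M, orderOf u = 2 → IsConj S.z u from (key a ha).symm.trans (key b hb)
  intro u hu
  obtain ⟨x, hx⟩ := exists_conj_invol_mem_sylow P hu
  refine IsConj.trans ?_ (isConj_iff.2 ⟨x, rfl⟩).symm
  by_cases hxz : x * u * x⁻¹ = S.z
  · rw [hxz]
  obtain ⟨U, hU, h4, -, hsq⟩ := exists_four (invol_mul_self S.z_order)
    (invol_mul_self (show orderOf (x * u * x⁻¹) = 2 by rw [orderOf_conj_eq]; exact hu))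
    (S.z_central hP _ hx).eq (invol_ne_one S.z_order)
    (invol_ne_one (show orderOf (x * u * x⁻¹) = 2 by rw [orderOf_conj_eq]; exact hu)) hxz
  have hUP : U ≤ (P : Subgroup M) := fun y hy => by
    rcases (hU y).1 hy with rfl | rfl | rfl | rfl
    exacts [one_mem _, S.Q_le hP S.z_mem_Q, hx, mul_mem (S.Q_le hP S.z_mem_Q) hx]
  have hVP : S.V ≤ (P : Subgroup M) := fun y hy => by
    rcases S.mem_V_cases hy with rfl | rfl | rfl | rfl
    exacts [one_mem _, S.Q_le hP S.z_mem_Q, S.Q_le hP S.v_mem_Q,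
      mul_mem (S.Q_le hP S.v_mem_Q) (S.Q_le hP S.z_mem_Q)]
  have hV4 : IsKleinFour S.V := isKleinFour_of_sq S.card_V fun y hy => by
    rcases S.mem_V_cases hy with rfl | rfl | rfl | rfl
    exacts [one_mul 1, invol_mul_self S.z_order, invol_mul_self S.v_order, by
      rw [S.commute_z_v.mul_mul_mul_comm, invol_mul_self S.v_order, invol_mul_self S.z_order,
        one_mul]]
  obtain ⟨y, hy⟩ := (Cfsg.Agent.S1190.result hQD).1 _ _
    (isKleinFour_subgroupOf (isKleinFour_of_sq h4 hsq) hUP) (isKleinFour_subgroupOf hV4 hVP)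
  have hw : y * ⟨x * u * x⁻¹, hx⟩ * y⁻¹ ∈ S.V.subgroupOf (P : Subgroup M) :=
    hy ▸ mem_map_of_mem _ (mem_subgroupOf.2 ((hU _).2 (Or.inr (Or.inr (Or.inl rfl)))))
  rw [mem_subgroupOf] at hw
  obtain ⟨σ, hσ, e⟩ := hw
  have hσ1 : orderOf (S.φ σ) = 2 := by rw [e]; show orderOf ((y : M) * (x * u * x⁻¹) * (y : M)⁻¹) = 2; rw [orderOf_conj_eq, orderOf_conj_eq]; exact hu
  have h : IsConj S.z (S.φ σ) := S.z_conj σ (S.inj (by rw [map_mul, map_one]; exact invol_mul_self hσ1))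
    fun h => by rw [h, map_one, orderOf_one] at hσ1; omega
  rw [e] at h
  exact h.trans (isConj_iff.2 ⟨(y : M), rfl⟩).symm

theorem isSimple [Finite M] : IsSimpleGroup M := by
  have : Fact (Nat.Prime 2) := ⟨Nat.prime_two⟩
  haveI : Nontrivial M := ⟨⟨S.z, 1, invol_ne_one S.z_order⟩⟩
  refine ⟨fun N hN => ?_⟩
  by_cases hodd : Odd (Nat.card N)
  · exact Or.inl (S.nosol N hN (CfsgLib.FT.odd_order_solvable hodd))
  obtain ⟨⟨u, hu⟩, huo⟩ := exists_prime_orderOf_dvd_card' 2 (even_iff_two_dvd.1 (Nat.not_odd_iff_even.1 hodd))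
  rw [Subgroup.orderOf_mk] at huo
  obtain ⟨x, hx⟩ := isConj_iff.1 (S.one_class u S.z huo S.z_order)
  exact Or.inr (S.top_of_z_mem hN (hx ▸ hN.conj_mem u hu x))

end SFour

end CfsgLib.Recog.SuborbitThree
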