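import Cfsg.Agent.Lib.Recog.SuborbitThree.SFourBase
import Cfsg.Agent.Lib.Recog.GenDihedral.Main
import Cfsg.Agent.Lib.Recog.GenDihedral.OuterDihedral
import Cfsg.Agent.Lib.Recog.GenDihedral.FixTwo

/-!
# A self-normalised four-group in a group with dihedral Sylow two-subgroups

The odd part `O` of the centralizer of the central involution is inverted by both classes of
reflections when the `Sym(4)` is a maximal subgroup, so the group is a `PSL₂(q)`.
-/

set_option autoImplicit false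
set_option linter.unusedSectionVars false

namespace CfsgLib.Recog.SuborbitThree

open Subgroup Equiv CfsgLib.Invol CfsgLib.BlockA.DihedralBlock CfsgLib.Recog.GenDihedral

universe u

namespace SFour

variable {M : Type u} [Group M] (S : SFour M)

/-- An element of order four. -/
abbrev a : M := S.φ (swap 0 1 * (swap 0 2 * swap 1 3))
/-- An element of order three. -/
abbrev y : M := S.φ (swap 2 3 * swap 1 2)

theorem a_mem_Q : S.a ∈ S.Q := mem_map_of_mem _ (mem_dFour.2 (by decide))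

theorem a_mul_a : S.a * S.a = S.z := by
  rw [← map_mul]
  exact congrArg _ (by decide)

theorem v_conj_a : S.v * S.a * S.v⁻¹ = S.a⁻¹ := by
  simp only [← map_inv, ← map_mul]
  exact congrArg _ (by decide)

theorem y_conj_v : S.y * S.v * S.y⁻¹ = S.z := by
  simp only [← map_inv, ← map_mul]
  exact congrArg _ (by decide)

/-- The cosets of the Sylow subgroup of the `Sym(4)`. -/
theorem range_cases {σ : M} (h : σ ∈ S.φ.range) :
    σ ∈ S.Q ∨ S.y⁻¹ * σ ∈ S.Q ∨ (S.a * S.y)⁻¹ * σ ∈ S.Q := by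
  obtain ⟨τ, rfl⟩ := h
  have key : ∀ τ : Perm (Fin 4),
      τ * (swap 0 1 * swap 2 3) = swap 0 1 * swap 2 3 * τ ∨
      (swap 2 3 * swap 1 2)⁻¹ * τ * (swap 0 1 * swap 2 3) =
        swap 0 1 * swap 2 3 * ((swap 2 3 * swap 1 2)⁻¹ * τ) ∨
      (swap 0 1 * (swap 0 2 * swap 1 3) * (swap 2 3 * swap 1 2))⁻¹ * τ * (swap 0 1 * swap 2 3) =
        swap 0 1 * swap 2 3 *
          ((swap 0 1 * (swap 0 2 * swap 1 3) * (swap 2 3 * swap 1 2))⁻¹ * τ) := by decide
  rcases key τ with h | h | h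
  · exact Or.inl (mem_map_of_mem _ (mem_dFour.2 h))
  · refine Or.inr (Or.inl ?_)
    simp only [← map_inv, ← map_mul]
    exact mem_map_of_mem _ (mem_dFour.2 h)
  · refine Or.inr (Or.inr ?_)
    simp only [← map_inv, ← map_mul]
    exact mem_map_of_mem _ (mem_dFour.2 h)

/-- An element of the `Sym(4)` outside of the four-group that commutes with `v` moves `z` to
`v * z`. -/
theorem conj_z_of_commute_v {σ : M} (h : σ ∈ S.φ.range) (hc : Commute σ S.v) :
    σ ∈ S.V ∨ σ * S.z * σ⁻¹ = S.v * S.z := by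
  obtain ⟨τ, rfl⟩ := h
  have key : ∀ τ : Perm (Fin 4), τ * (swap 0 2 * swap 1 3) = swap 0 2 * swap 1 3 * τ →
      (τ = 1 ∨ τ = swap 0 1 * swap 2 3 ∨ τ = swap 0 2 * swap 1 3 ∨ τ = swap 0 3 * swap 1 2) ∨
        τ * (swap 0 1 * swap 2 3) * τ⁻¹ = (swap 0 2 * swap 1 3) * (swap 0 1 * swap 2 3) := by decide
  rcases key τ (S.inj (by rw [map_mul S.φ τ, map_mul S.φ _ τ]; exact hc.eq)) with h | h
  · exact Or.inl (mem_map_of_mem _ (mem_vFour.2 h))
  · refine Or.inr ?_
    simp only [← map_inv, ← map_mul]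
    exact congrArg _ h

section Frame

variable [Finite M] {T : Sylow 2 M} (E : DihData (T : Subgroup M))

/-- The centre of the Sylow subgroup. -/
theorem dz_eq_z (hh : 2 ≤ E.h) (hT : normalizer (S.Q : Set M) ≤ (T : Subgroup M)) :
    dz T E = S.z := by
  have hzT : S.z ∈ (T : Subgroup M) := S.Q_le hT S.z_mem_Q
  rcases E.invol_cases (u := ⟨S.z, hzT⟩) (by rw [Subgroup.orderOf_mk]; exact S.z_order) with e | ⟨b, e⟩
  · exact (congrArg Subtype.val e).symm
  exfalso
  have h1 : Commute (⟨S.z, hzT⟩ : (T : Subgroup M)) E.r :=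
    Subtype.ext (S.z_central hT _ E.r.2).eq
  rw [e] at h1
  have h2 : E.r ^ (b - 1) * E.s = E.r ^ (b + 1) * E.s := by
    have := h1.eq
    conv at this => lhs; rw [← zpow_one E.r, ← zpow_mul, one_mul, E.zy_mul_z]
    rw [this, ← mul_assoc]
    congr 1
    rw [← zpow_one_add, add_comm]
  rw [mul_left_inj, E.zpow_eq_iff, show b + 1 - (b - 1) = 2 by ring] at h2
  have := Int.le_of_dvd two_pos h2
  omega

end Frame

/-- **The dihedral case.** -/
theorem classify_dihedral [Finite M] (P : Sylow 2 M) (n : ℕ)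
    (e : (P : Subgroup M) ≃* DihedralGroup n)
    (hmax : (∀ X : Subgroup M, S.φ.range ≤ normalizer (X : Set M) → X ≤ S.φ.range ∨ X = ⊤) ∨
      ∀ X : Subgroup M, X ≤ centralizer ({S.z} : Set M) →
        centralizer ({S.z} : Set M) ≤ normalizer (X : Set M) → Odd (Nat.card X) → X = ⊥) :
    16 ∣ Nat.card (centralizer ({S.z} : Set M)) ∧
      ∃ (F : Type) (_ : Field F) (_ : Fintype F), Odd (Fintype.card F) ∧
        Nonempty (M ≃* Matrix.ProjectiveSpecialLinearGroup (Fin 2) F) := by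
  classical
  have : Fact (Nat.Prime 2) := ⟨Nat.prime_two⟩
  have : IsSimpleGroup M := S.isSimple
  obtain ⟨T, hT⟩ := S.exists_sylow
  let e' : (T : Subgroup M) ≃* DihedralGroup n := (T.equiv P).trans e
  have hT16 : 16 ≤ Nat.card (T : Subgroup M) :=
    S.card_norm_Q ▸ Nat.le_of_dvd Nat.card_pos (card_dvd_of_le hT)
  have hn : 2 ≤ n := by
    have := Nat.card_congr e'.toEquiv
    rw [DihedralGroup.nat_card] at this
    omega
  obtain ⟨E⟩ := exists_dihData T.2 hn e'
  have hh : 4 ≤ E.h := by have := E.card_eq; omega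
  obtain ⟨hh2, hh4⟩ : Even (E.h / 2) ∧ E.h = 2 * (E.h / 2) := by
    obtain ⟨k, hk⟩ := E.h_pow
    obtain ⟨k, rfl⟩ : ∃ j, k = j + 2 := ⟨k - 2, by
      rcases k with _ | _ | k
      · rw [hk] at hh; norm_num at hh
      · rw [hk] at hh; norm_num at hh
      · omega⟩
    rw [show E.h = 2 * (2 * 2 ^ k) by rw [hk, pow_add]; ring, Nat.mul_div_cancel_left _ two_pos]
    exact ⟨even_two_mul _, rfl⟩
  have hzdz : dz T E = S.z := S.dz_eq_z E (by omega) hT
  set z := S.z with hzdef
  set r := rot T E with hr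
  have hdt : ∀ b : ℤ, dt T E b = r ^ b * refl T E := CfsgLib.Recog.GenDih.dt_eq
  have hdtm : ∀ b : ℤ, dt T E b ∈ (T : Subgroup M) := fun b => SetLike.coe_mem _
  have hdto : ∀ b : ℤ, orderOf (dt T E b) = 2 := CfsgLib.Recog.GenDih.dt_orderOf
  have hdz2 : orderOf z = 2 := S.z_order
  have hTC : (T : Subgroup M) ≤ centralizer ({z} : Set M) := fun x hx =>
    mem_centralizer_singleton_iff.2 (S.z_central hT x hx).eq.symm
  have h16 : 16 ∣ Nat.card (centralizer ({z} : Set M)) := by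
    refine dvd_trans ?_ (card_dvd_of_le hTC)
    obtain ⟨k, hk⟩ := T.2.exists_card_eq
    rw [hk] at hT16 ⊢
    exact pow_dvd_pow 2 (n := k) (m := 4) ((Nat.pow_le_pow_iff_right one_lt_two).1 (le_trans (le_of_eq rfl) hT16 : 2 ^ 4 ≤ 2 ^ k))
  refine ⟨h16, ?_⟩
  -- reflections
  have hrinv : ∀ b : ℤ, dt T E b * r * (dt T E b)⁻¹ = r⁻¹ := fun b => by
    rw [hdt, show r ^ b * refl T E * r * (r ^ b * refl T E)⁻¹ =
      r ^ b * (refl T E * r * (refl T E)⁻¹) * (r ^ b)⁻¹ by group, hr, refl_conj]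
    group
  have hrefl : ∀ p ∈ (T : Subgroup M), orderOf p = 2 → p ≠ z → ∃ b : ℤ, p = dt T E b := by
    intro p hp hp2 hpz
    rcases E.invol_cases (u := ⟨p, hp⟩) (by rw [Subgroup.orderOf_mk]; exact hp2) with h | ⟨b, h⟩
    · exact absurd ((congrArg Subtype.val h).trans hzdz) hpz
    · exact ⟨b, congrArg Subtype.val h⟩
  obtain ⟨i, hi⟩ := hrefl S.v (S.Q_le hT S.v_mem_Q) S.v_order S.v_ne_z
  -- the odd part of the centralizer
  obtain ⟨O, hOodd, hOC, hOn, hsplit, hodd⟩ := exists_odd_complement T E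
  simp only [hzdz] at hOC hOn hsplit hodd
  have hOo : ∀ x ∈ O, Odd (orderOf x) := fun x hx =>
    CfsgLib.Recog.GenDih.odd_orderOf_of_mem hOodd hx
  have hOz : ∀ x ∈ O, Commute x z := fun x hx => mem_centralizer_singleton_iff.1 (hOC hx)
  have hTn : ∀ p ∈ (T : Subgroup M), ∀ x ∈ O, p * x * p⁻¹ ∈ O := fun p hp => hOn p (hTC hp)
  have hfixv : ∀ x ∈ O, Commute x S.v → x = 1 := fun x hx hxv =>
    CfsgLib.Recog.GenDih.eq_one_of_sq (hOo x hx) (by
      rcases S.mem_V_cases (S.mem_V_of_commute (hOz x hx) hxv) with e | e | e | e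
      · rw [e, one_mul]
      · rw [e]; exact invol_mul_self hdz2
      · rw [e]; exact invol_mul_self S.v_order
      · rw [e, S.commute_z_v.mul_mul_mul_comm, invol_mul_self S.v_order,
          invol_mul_self S.z_order, one_mul])
  have hvinv : ∀ x ∈ O, dt T E i * x * (dt T E i)⁻¹ = x⁻¹ :=
    inverts_of_no_fixed (invol_mul_self (hdto i)) (hTn _ (hdtm i)) fun x hx h =>
      hfixv x hx (hi ▸ (mul_inv_eq_iff_eq_mul.1 h).symm)
  have hOcomm : ∀ x ∈ O, ∀ w ∈ O, Commute x w := fun x hx w hw => by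
    have h1 := hvinv _ (mul_mem hx hw)
    rw [← conj_mul, hvinv x hx, hvinv w hw, mul_inv_rev] at h1
    have h2 := congrArg (·⁻¹) h1
    simp only [mul_inv_rev, inv_inv] at h2
    exact h2.symm
  have hrT : r ∈ (T : Subgroup M) := SetLike.coe_mem _
  have hr2 : ∀ x ∈ O, Commute (r * r) x := by
    intro x hx
    have h1 := hvinv _ (hTn r hrT x hx)
    set v' := dt T E i with hv'
    rw [show v' * (r * x * r⁻¹) * v'⁻¹ = (v' * r * v'⁻¹) * (v' * x * v'⁻¹) * (v' * r * v'⁻¹)⁻¹ by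
      group, hrinv, hvinv x hx, inv_inv, show (r * x * r⁻¹)⁻¹ = r * x⁻¹ * r⁻¹ by group] at h1
    have h2 : Commute (r * r) x⁻¹ := by
      show r * r * x⁻¹ = x⁻¹ * (r * r)
      calc r * r * x⁻¹ = r * (r * x⁻¹ * r⁻¹) * r := by group
        _ = r * (r⁻¹ * x⁻¹ * r) * r := by rw [h1]
        _ = x⁻¹ * (r * r) := by group
    simpa using h2.inv_right
  have hreven : ∀ c : ℤ, ∀ x ∈ O, Commute (r ^ (2 * c)) x := fun c x hx => by
    rw [zpow_mul, zpow_two]
    exact (hr2 x hx).zpow_left c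
  -- the action of a reflection depends on its parity only
  have hact : ∀ d c : ℤ, ∀ x ∈ O,
      dt T E (d + 2 * c) * x * (dt T E (d + 2 * c))⁻¹ = dt T E d * x * (dt T E d)⁻¹ := by
    intro d c x hx
    have hx' := hreven c _ (hTn _ (hdtm d) x hx)
    rw [show dt T E (d + 2 * c) = r ^ (2 * c) * dt T E d by
      rw [hdt, hdt, ← mul_assoc, ← zpow_add, add_comm d],
      show r ^ (2 * c) * dt T E d * x * (r ^ (2 * c) * dt T E d)⁻¹ =
        r ^ (2 * c) * (dt T E d * x * (dt T E d)⁻¹) * (r ^ (2 * c))⁻¹ by group, hx'.eq,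
      mul_inv_cancel_right]
  set t := dt T E (i + 1) with htdef
  have hcases : ∀ b : ℤ, (∀ x ∈ O, dt T E b * x * (dt T E b)⁻¹ = x⁻¹) ∨
      ∀ x ∈ O, dt T E b * x * (dt T E b)⁻¹ = t * x * t⁻¹ := by
    intro b
    rcases Int.even_or_odd' (b - i) with ⟨c, hc | hc⟩
    · left
      intro x hx
      rw [show b = i + 2 * c by linarith, hact i c x hx, hvinv x hx]
    · right
      intro x hx
      rw [show b = i + 1 + 2 * c by linarith, hact (i + 1) c x hx]
  -- the element of order four centralizes the odd part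
  have haO : ∀ x ∈ O, Commute S.a x := by
    rcases CfsgLib.Recog.GenDih.mem_sylow_cases (D := E) (S.Q_le hT S.a_mem_Q) with ⟨d, hd⟩ | ⟨d, hd⟩
    · have h1 : E.r ^ (d + d) = E.r ^ (E.h : ℤ) := Subtype.ext (by
        push_cast
        rw [zpow_add, ← hd, S.a_mul_a, ← hzdef, ← hzdz, CfsgLib.Recog.GenDih.dz_eq])
      rw [E.zpow_eq_iff] at h1
      obtain ⟨c, hc⟩ := h1
      obtain ⟨m, hm⟩ := hh2
      have h4' : (E.h : ℤ) = 2 * (m + m) := by exact_mod_cast (hm ▸ hh4)
      have hdd : d = 2 * ((m : ℤ) - 2 * m * c) := by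
        rw [h4'] at hc
        linarith
      intro x hx
      rw [hd, hdd]
      exact hreven _ x hx
    · exfalso
      have h1 := invol_mul_self (hdto d)
      rw [← hd, S.a_mul_a] at h1
      exact invol_ne_one S.z_order h1
  -- it suffices that the second class of reflections inverts the odd part
  suffices htinv : ∀ x ∈ O, t * x * t⁻¹ = x⁻¹ by
    have hrot : ∀ x ∈ O, Commute r x := by
      intro x hx
      have h1 : t * x⁻¹ * t⁻¹ = x := by rw [htinv _ (inv_mem hx), inv_inv]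
      have h2 : t = r * dt T E i := by
        rw [htdef, hdt, hdt, ← mul_assoc, ← zpow_one_add, add_comm]
      rw [h2, show r * dt T E i * x⁻¹ * (r * dt T E i)⁻¹ =
        r * (dt T E i * x⁻¹ * (dt T E i)⁻¹) * r⁻¹ by group, hvinv _ (inv_mem hx), inv_inv] at h1
      exact mul_inv_eq_iff_eq_mul.1 h1
    refine CfsgLib.Recog.GenDih.psl_of_gen (S := T) (D := E) (K := O) ⟨hOodd, hrot, ?_, ?_⟩
    · intro x hx
      rcases hcases 0 with h | h
      · have := h x hx
        rwa [hdt, zpow_zero, one_mul] at this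
      · have := (h x hx).trans (htinv x hx)
        rwa [hdt, zpow_zero, one_mul] at this
    · intro x hx
      exact hsplit x (hzdz ▸ hx)
  -- the part fixed by the second class
  set W : Subgroup M := O ⊓ centralizer ({t} : Set M) with hWdef
  have hWmem : ∀ {x : M}, x ∈ W ↔ x ∈ O ∧ Commute x t := fun {x} =>
    and_congr_right fun _ => mem_centralizer_singleton_iff
  suffices hWb : W = ⊥ by
    exact inverts_of_no_fixed (invol_mul_self (hdto _)) (hTn _ (hdtm _)) fun x hx h =>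
      mem_bot.1 (hWb.le (hWmem.2 ⟨hx, (mul_inv_eq_iff_eq_mul.1 h).symm⟩))
  rcases hmax with hmax | hfree
  swap
  · exact eq_bot_iff.2 (inf_le_left.trans (hfree O hOC
      (fun k hk => mem_normalizer_iff_of_finite fun x hx => hOn k hk x hx) hOodd).le)
  by_contra hWne
  have hWv : ∀ x ∈ W, Commute x S.v → x = 1 := fun x hx => hfixv x (hWmem.1 hx).1
  -- the key property of the involutions of the centralizer
  have key : ∀ x ∈ O, ∀ j : M, orderOf j = 2 → Commute j z → j ≠ z → Commute x j → x ∈ W := by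
    intro x hx j hj hjz hjne hxj
    refine hWmem.2 ⟨hx, ?_⟩
    by_cases hx1 : x = 1
    · rw [hx1]; exact Commute.one_left _
    obtain ⟨k, hkz, hkj⟩ := exists_conj_extend T (g := 1) (a := z) (b := z)
      (fun s hs => S.z_central hT s hs) (by group) (H := zpowers j)
      (isPGroup_zpowers_of_invol hj) (by
        intro h hh
        obtain ⟨c, rfl⟩ := mem_zpowers_iff.1 hh
        exact hjz.zpow_left c)
    obtain ⟨m, hm, p, hp, rfl⟩ := hsplit k
      (mem_centralizer_singleton_iff.2 (mul_inv_eq_iff_eq_mul.1 hkz))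
    set k := m * p with hk
    have hmz : k * x * k⁻¹ = p * x * p⁻¹ := by
      rw [hk, show m * p * x * (m * p)⁻¹ = m * (p * x * p⁻¹) * m⁻¹ by group,
        (hOcomm m hm _ (hTn p hp x hx)).eq, mul_inv_cancel_right]
    set j' := p⁻¹ * (k * j * k⁻¹) * p with hj'
    have hj'T : j' ∈ (T : Subgroup M) := mul_mem (mul_mem (inv_mem hp) (hkj j (mem_zpowers j))) hp
    have hj'o : orderOf j' = 2 := by
      rw [hj', CfsgLib.Recog.GenDih.orderOf_conj_inv, orderOf_conj_eq, hj]
    have hj'z : j' ≠ z := by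
      intro e
      apply hjne
      have hpz : p * z * p⁻¹ = z := by
        rw [← (S.z_central hT p hp).eq, mul_inv_cancel_right]
      have e2 : k * j * k⁻¹ = k * z * k⁻¹ := by
        rw [show k * j * k⁻¹ = p * j' * p⁻¹ by rw [hj']; group, e, hpz, hkz]
      exact mul_left_cancel (mul_right_cancel e2)
    have hj'x : Commute x j' := by
      have h1 := hxj.map (MulAut.conj k).toMonoidHom
      simp only [MulEquiv.coe_toMonoidHom, MulAut.conj_apply, hmz] at h1
      have h2 := h1.map (MulAut.conj p⁻¹).toMonoidHom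
      simp only [MulEquiv.coe_toMonoidHom, MulAut.conj_apply, inv_inv] at h2
      rwa [show p⁻¹ * (p * x * p⁻¹) * p = x by group] at h2
    obtain ⟨b, hb⟩ := hrefl j' hj'T hj'o hj'z
    have h1 : dt T E b * x * (dt T E b)⁻¹ = x := by
      rw [← hb, hj'x.symm.eq, mul_inv_cancel_right]
    rcases hcases b with h | h
    · refine absurd (CfsgLib.Recog.GenDih.eq_one_of_sq (hOo x hx) ?_) hx1
      rw [h x hx] at h1
      nth_rewrite 1 [← h1]
      exact inv_mul_cancel x
    · rw [h x hx] at h1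
      exact (mul_inv_eq_iff_eq_mul.1 h1).symm
  set K := normalizer (W : Set M) with hKdef
  have htz : t ≠ z := fun e => CfsgLib.Recog.GenDih.dt_ne_dz (i + 1) (e.trans hzdz.symm)
  have hCK : centralizer ({z} : Set M) ≤ K := by
    intro k hk
    refine mem_normalizer_iff_of_finite fun w hw => ?_
    obtain ⟨hwO, hwt⟩ := hWmem.1 hw
    have hkz : k * z * k⁻¹ = z := by
      rw [mem_centralizer_singleton_iff.1 hk, mul_inv_cancel_right]
    refine key _ (hOn k hk w hwO) (k * t * k⁻¹) (by rw [orderOf_conj_eq]; exact hdto _) ?_ ?_ ?_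
    · have := (S.z_central hT t (hdtm _)).symm.map (MulAut.conj k).toMonoidHom
      simp only [MulEquiv.coe_toMonoidHom, MulAut.conj_apply] at this
      rwa [show k * S.z * k⁻¹ = z from hkz] at this
    · intro e
      exact htz (mul_left_cancel (mul_right_cancel (e.trans hkz.symm)))
    · simpa using hwt.map (MulAut.conj k).toMonoidHom
  have hQK : S.Q ≤ K := fun x hx =>
    hCK (mem_centralizer_singleton_iff.2 (S.commute_z_Q hx).eq.symm)
  have hOK : O ≤ K := hOC.trans hCK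
  have hKt : K ≠ ⊤ := by
    intro e
    have : W.Normal := normalizer_eq_top_iff.1 e
    rcases this.eq_bot_or_eq_top with h | h
    · exact hWne h
    · have h2 : Odd (orderOf z) := hOo z (le_top.trans_eq h.symm |>.trans inf_le_left <| mem_top z)
      rw [hdz2] at h2
      exact absurd h2 (by decide)
  -- the intersection of the conjugates of `K` under the `Sym(4)`
  let X : Subgroup M := ⨅ σ : S.φ.range, K.comap (MulAut.conj ((σ : M)⁻¹)).toMonoidHom
  have hX : ∀ {x : M}, x ∈ X ↔ ∀ σ ∈ S.φ.range, σ⁻¹ * x * σ ∈ K := by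
    intro x
    simp [X, mem_iInf]
  have hXH : X ≤ S.φ.range := by
    refine (hmax X ?_).resolve_right fun e => hKt (top_le_iff.1 (e ▸ fun x hx => ?_))
    · intro σ hσ
      refine mem_normalizer_iff_of_finite fun x hx => hX.2 fun τ hτ => ?_
      have := hX.1 hx _ (mul_mem (inv_mem hσ) hτ)
      rwa [show (σ⁻¹ * τ)⁻¹ * x * (σ⁻¹ * τ) = τ⁻¹ * (σ * x * σ⁻¹) * τ by group] at this
    · simpa using hX.1 hx 1 (one_mem _)
  have hOy : ∀ x ∈ O, S.y⁻¹ * x * S.y ∈ K → x = 1 := by
    intro x hx hxy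
    have hxX : x ∈ X := by
      refine hX.2 fun σ hσ => ?_
      have conjQ : ∀ d ∈ S.Q, ∀ w ∈ K, d⁻¹ * w * d ∈ K := fun d hd w hw =>
        mul_mem (mul_mem (inv_mem (hQK hd)) hw) (hQK hd)
      rcases S.range_cases hσ with h | h | h
      · exact conjQ σ h x (hOK hx)
      · have := conjQ _ h _ hxy
        rwa [show (S.y⁻¹ * σ)⁻¹ * (S.y⁻¹ * x * S.y) * (S.y⁻¹ * σ) = σ⁻¹ * x * σ by group] at this
      · have h2 : (S.a * S.y)⁻¹ * x * (S.a * S.y) = S.y⁻¹ * x * S.y := by
          rw [show (S.a * S.y)⁻¹ * x * (S.a * S.y) = S.y⁻¹ * (S.a⁻¹ * (x * S.a)) * S.y by group,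
            ← (haO x hx).eq, inv_mul_cancel_left]
        have := conjQ _ h _ (h2.symm ▸ hxy)
        rwa [show ((S.a * S.y)⁻¹ * σ)⁻¹ * ((S.a * S.y)⁻¹ * x * (S.a * S.y)) *
          ((S.a * S.y)⁻¹ * σ) = σ⁻¹ * x * σ by group] at this
    have hxQ : x ∈ S.Q := S.mem_Q_of_range (hXH hxX) (hOz x hx)
    have h1 : orderOf x ∣ 8 := S.card_Q ▸ Subgroup.orderOf_dvd_natCard _ hxQ
    exact orderOf_eq_one_iff.1 (Nat.eq_one_of_dvd_coprimes
      ((Nat.coprime_two_left.2 (hOo x hx)).pow_left 3) h1 dvd_rfl)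
  -- the centralizer of `v` in `K` is the four-group
  have hKv_odd : ∀ x ∈ K, Commute x S.v → Odd (orderOf x) → x = 1 := by
    intro x hxK hxv ho
    have h1 : Commute (S.y * x * S.y⁻¹) z := by
      have := hxv.map (MulAut.conj S.y).toMonoidHom
      simp only [MulEquiv.coe_toMonoidHom, MulAut.conj_apply, S.y_conj_v] at this
      exact this
    have h2 : S.y * x * S.y⁻¹ ∈ O := hodd _ (mem_centralizer_singleton_iff.2 h1.eq)
      (by rw [orderOf_conj_eq]; exact ho)
    exact conj_eq_one_iff.1 (hOy _ h2 (by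
      rwa [show S.y⁻¹ * (S.y * x * S.y⁻¹) * S.y = x by group]))
  have hVK : ∀ {x : M}, x ∈ S.V → x ∈ K ⊓ centralizer ({S.v} : Set M) := by
    intro x hx
    refine ⟨hQK ?_, mem_centralizer_singleton_iff.2 ?_⟩
    · obtain ⟨τ, hτ, rfl⟩ := hx
      refine mem_map_of_mem _ (mem_dFour.2 ?_)
      rcases mem_vFour.1 hτ with rfl | rfl | rfl | rfl <;> decide
    · rcases S.mem_V_cases hx with rfl | rfl | rfl | rfl
      exacts [(Commute.one_left S.v).eq, S.commute_z_v.eq, rfl,
        ((Commute.refl S.v).mul_left S.commute_z_v).eq]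
  have hKv : ∀ x ∈ K, Commute x S.v → x ∈ S.V := by
    set C := K ⊓ centralizer ({S.v} : Set M) with hC
    have hp : IsPGroup 2 C := by
      rintro ⟨x, hxK, hxv⟩
      obtain ⟨a, q, hq, hord⟩ :=
        Nat.exists_eq_pow_mul_and_not_dvd (orderOf_pos x).ne' 2 (by norm_num)
      refine ⟨a, Subtype.ext ?_⟩
      show x ^ 2 ^ a = 1
      refine hKv_odd _ (pow_mem hxK _)
        (Commute.pow_left (mem_centralizer_singleton_iff.1 hxv) _) ?_
      rw [orderOf_pow_of_dvd (by positivity) (hord ▸ dvd_mul_right _ _), hord,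
        Nat.mul_div_cancel_left _ (by positivity)]
      exact Nat.odd_iff.2 (Nat.two_dvd_ne_zero.1 hq)
    intro x hxK hxv
    by_contra hxV
    have hVC : S.V ≤ C := fun w hw => hVK hw
    have hlt : S.V.subgroupOf C < ⊤ := lt_top_iff_ne_top.2 fun e =>
      hxV (mem_subgroupOf.1 (e ▸ mem_top (⟨x, hxK, mem_centralizer_singleton_iff.2 hxv.eq⟩ : C)))
    have : Group.IsNilpotent C := hp.isNilpotent
    obtain ⟨⟨w, hwK, hwv⟩, hwN, hwV⟩ :=
      SetLike.exists_of_lt (Group.normalizerCondition_of_isNilpotent _ hlt)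
    rw [mem_subgroupOf] at hwV
    have hwM : w ∈ S.φ.range := by
      rw [← S.norm_four]
      refine mem_normalizer_iff_of_finite fun q hq => ?_
      exact mem_subgroupOf.1 ((mem_normalizer_iff.1 hwN ⟨q, hVC hq⟩).1 (mem_subgroupOf.2 hq))
    have hwv' : Commute w S.v := mem_centralizer_singleton_iff.1 hwv
    refine hWne (eq_bot_iff.2 fun q hq => mem_bot.2 (hWv q hq ?_))
    have hwz : w * z * w⁻¹ = S.v * z := (S.conj_z_of_commute_v hwM hwv').resolve_left hwV
    have hq' : w⁻¹ * q * w ∈ W := by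
      have := (mem_normalizer_iff.1 (inv_mem hwK) q).1 hq
      rwa [inv_inv] at this
    have h1 := (hOz _ (hWmem.1 hq').1).map (MulAut.conj w).toMonoidHom
    simp only [MulEquiv.coe_toMonoidHom, MulAut.conj_apply] at h1
    rw [show w * (w⁻¹ * q * w) * w⁻¹ = q by group, hwz] at h1
    have h2 := h1.mul_right (hOz q (hWmem.1 hq).1)
    rwa [mul_assoc, invol_mul_self hdz2, mul_one] at h2
  -- the centralizer of `W` in `K`
  set N := K ⊓ centralizer (W : Set M) with hN
  have hNmem : ∀ {x : M}, x ∈ N ↔ x ∈ K ∧ ∀ w ∈ W, Commute x w := fun {x} =>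
    and_congr_right fun _ => ⟨fun h w hw => (h w hw).symm, fun h w hw => (h w hw).symm⟩
  have hNn : ∀ k ∈ K, ∀ x ∈ N, k * x * k⁻¹ ∈ N := by
    intro k hk x hx
    refine hNmem.2 ⟨mul_mem (mul_mem hk (hNmem.1 hx).1) (inv_mem hk), fun w hw => ?_⟩
    have hw' : k⁻¹ * w * k ∈ W := by
      have := (mem_normalizer_iff.1 (inv_mem hk) w).1 hw
      rwa [inv_inv] at this
    have h1 := ((hNmem.1 hx).2 _ hw').map (MulAut.conj k).toMonoidHom
    simp only [MulEquiv.coe_toMonoidHom, MulAut.conj_apply] at h1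
    rwa [show k * (k⁻¹ * w * k) * k⁻¹ = w by group] at h1
  have hzN : z ∈ N := hNmem.2 ⟨hCK (mem_centralizer_singleton_iff.2 rfl),
    fun w hw => (hOz w (hWmem.1 hw).1).symm⟩
  have haN : S.a ∈ N := hNmem.2 ⟨hQK S.a_mem_Q, fun w hw => haO w (hWmem.1 hw).1⟩
  have hvK : S.v ∈ K := hQK S.v_mem_Q
  let σ : N →* N := MonoidHom.mk' (fun x => ⟨S.v * x * S.v⁻¹, hNn _ hvK x x.2⟩)
    fun p q => Subtype.ext (by
      show S.v * ((p : M) * q) * S.v⁻¹ = S.v * p * S.v⁻¹ * (S.v * q * S.v⁻¹)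
      group)
  have hσ : ∀ x, σ (σ x) = x := fun x => Subtype.ext (by
    show S.v * (S.v * x * S.v⁻¹) * S.v⁻¹ = x
    rw [show S.v * (S.v * (x : M) * S.v⁻¹) * S.v⁻¹ = (S.v * S.v) * x * (S.v * S.v)⁻¹ by group,
      invol_mul_self S.v_order]
    group)
  have hfix : ∀ x : N, σ x = x → x = 1 ∨ x = ⟨z, hzN⟩ := by
    rintro ⟨x, hx⟩ h
    have hxv : Commute x S.v := (mul_inv_eq_iff_eq_mul.1 (congrArg Subtype.val h)).symm
    rcases S.mem_V_cases (hKv x (hNmem.1 hx).1 hxv) with e | e | e | e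
    · exact Or.inl (Subtype.ext e)
    · exact Or.inr (Subtype.ext e)
    · refine absurd (eq_bot_iff.2 fun w hw => mem_bot.2 (hWv w hw ?_)) hWne
      exact e ▸ ((hNmem.1 hx).2 w hw).symm
    · refine absurd (eq_bot_iff.2 fun w hw => mem_bot.2 (hWv w hw ?_)) hWne
      have h2 := ((hNmem.1 hx).2 w hw).symm.mul_right (hOz w (hWmem.1 hw).1)
      rwa [e, mul_assoc, invol_mul_self hdz2, mul_one] at h2
  have hNz : ∀ q ∈ N, orderOf q = 2 → Commute q z := by
    intro q hq hq2
    have h1 := commute_of_fix_le_two σ hσ (d := ⟨z, hzN⟩)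
      (by rw [Subgroup.orderOf_mk]; exact hdz2)
      (Subtype.ext (by
        show S.v * z * S.v⁻¹ = z
        rw [← S.commute_z_v.eq, mul_inv_cancel_right]))
      hfix (x := ⟨S.a, haN⟩) (Subtype.ext (by
        show S.a⁻¹ * (S.v * S.a * S.v⁻¹) = z
        rw [S.v_conj_a, ← mul_inv_rev, S.a_mul_a, invol_inv hdz2]))
      (u := ⟨q, hq⟩) (by rw [Subgroup.orderOf_mk]; exact hq2)
    exact congrArg Subtype.val h1.eq
  -- the second class of reflections is fused with the centre inside `K`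
  obtain ⟨g, hg⟩ := isConj_iff.1 (S.one_class t z (hdto _) hdz2)
  obtain ⟨k, hk, hkT⟩ := exists_conj_extend T (fun s hs => S.z_central hT s hs) hg
    (H := zpowers z) (isPGroup_zpowers_of_invol hdz2) (by
      intro h hh
      obtain ⟨c, rfl⟩ := mem_zpowers_iff.1 hh
      exact (S.z_central hT t (hdtm _)).zpow_left c)
  have hkne : k * z * k⁻¹ ≠ z := fun e =>
    htz (mul_left_cancel (mul_right_cancel (hk.trans e.symm)))
  have hkK : k ∈ K := by
    refine mem_normalizer_iff_of_finite fun w hw => ?_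
    obtain ⟨hwO, hwt⟩ := hWmem.1 hw
    have h1 := hwt.map (MulAut.conj k).toMonoidHom
    simp only [MulEquiv.coe_toMonoidHom, MulAut.conj_apply, hk] at h1
    refine key _ (hodd _ (mem_centralizer_singleton_iff.2 h1.eq)
      (by rw [orderOf_conj_eq]; exact hOo w hwO)) (k * z * k⁻¹)
      (by rw [orderOf_conj_eq]; exact hdz2) (S.z_central hT _ (hkT z (mem_zpowers z))).symm hkne ?_
    simpa using (hOz w hwO).map (MulAut.conj k).toMonoidHom
  obtain ⟨b, hb⟩ := hrefl _ (hkT z (mem_zpowers z)) (by rw [orderOf_conj_eq]; exact hdz2) hkne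
  have hbN : dt T E b ∈ N := hb ▸ hNn k hkK z hzN
  set j := r * dt T E b * r⁻¹ with hj
  have hjN : j ∈ N := hNn r (hCK (hTC hrT)) _ hbN
  have hjk : k⁻¹ * j * k ∈ N := by
    have := hNn k⁻¹ (inv_mem hkK) j hjN
    rwa [inv_inv] at this
  have h1 := (hNz _ hjk (by
    rw [CfsgLib.Recog.GenDih.orderOf_conj_inv, hj, orderOf_conj_eq]; exact hdto _)).map
      (MulAut.conj k).toMonoidHom
  simp only [MulEquiv.coe_toMonoidHom, MulAut.conj_apply, hb] at h1
  rw [show k * (k⁻¹ * j * k) * k⁻¹ = j by group] at h1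
  -- two reflections at distance two commute: the rotation has small order
  have h2 : E.r * (E.r ^ b * E.s) * E.r⁻¹ * (E.r ^ b * E.s) =
      E.r ^ b * E.s * (E.r * (E.r ^ b * E.s) * E.r⁻¹) := Subtype.ext h1.eq
  have h3 := E.conj_refl 1 b
  rw [zpow_one] at h3
  rw [h3, E.zy_mul_zy, E.zy_mul_zy, E.zpow_eq_iff,
    show b - (b + 2 * 1) - (b + 2 * 1 - b) = -4 by ring, dvd_neg] at h2
  have := Int.le_of_dvd (by norm_num) h2
  omega

end SFour

end CfsgLib.Recog.SuborbitThree
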