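import Cfsg.Agent.Lib.Recog.SuborbitThree.SFourBase
import Cfsg.Agent.Lib.GLTwoThreeO.Kernel
import Cfsg.Agent.Lib.InvChar.GLTwoThreeRecog
import Cfsg.Agent.Lib.Recog.GenDihedral.Pair
import Cfsg.Agent.Lib.Recog.GenDihedral.FixTwo
import Cfsg.Agent.Lib.Transfer.Frobenius
import Cfsg.Agent.Lib.Solvable.Nilpotent
import Cfsg.Agent.Lib.Geom.DicksonPSL
import Cfsg.Agent.S1213
import Cfsg.Agent.S1191
import Cfsg.Agent.S2879
import Cfsg.Agent.S2916

/-!
# A self-normalised four-group: semidihedral Sylow two-subgroups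

The centraliser of the central involution is `O.GL(2, 3)` with `O` inverted by the reflections,
hence `GL(2, 3)`.
-/

set_option autoImplicit false
set_option linter.unusedSectionVars false
set_option linter.style.haveILetI false

namespace CfsgLib.Recog.SuborbitThree

open Subgroup Equiv CfsgLib.Invol

universe u

/-- A nontrivial two-group has a subgroup of index two. -/
theorem exists_index_two {X : Type u} [Group X] [Finite X] [Nontrivial X] (hX : IsPGroup 2 X) :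
    ∃ N : Subgroup X, N.index = 2 := by
  haveI : Fact (Nat.Prime 2) := ⟨Nat.prime_two⟩
  obtain ⟨n, hn⟩ := hX.exists_card_eq
  rcases n with _ | n
  · have := Finite.one_lt_card (α := X)
    rw [hn] at this
    omega
  obtain ⟨N, hN⟩ := Sylow.exists_subgroup_card_pow_prime 2
    (show 2 ^ n ∣ Nat.card X from hn ▸ pow_dvd_pow 2 (Nat.le_succ n))
  refine ⟨N, ?_⟩
  have h := N.card_mul_index
  rw [hN, hn, pow_succ] at h
  exact Nat.eq_of_mul_eq_mul_left (by positivity) h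

theorem isQuasiDihedral_congr {A B : Type*} [Group A] [Group B] (e : A ≃* B)
    (h : Cfsg.IsQuasiDihedral A) : Cfsg.IsQuasiDihedral B := by
  obtain ⟨n, hn, hc, x, y, hx, hy, hxy⟩ := h
  refine ⟨n, hn, (Nat.card_congr e.toEquiv).symm.trans hc, e x, e y, by rwa [MulEquiv.orderOf_eq],
    by rwa [MulEquiv.orderOf_eq], ?_⟩
  rw [← map_inv, ← map_mul, ← map_mul, hxy, map_pow]

/-- The quaternion subgroup of `SL(2, 3)` is the set of elements killed by four. -/
theorem exists_quaternion_sl23 :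
    ∃ ι : QuaternionGroup 2 →* Matrix.SpecialLinearGroup (Fin 2) (ZMod 3), Function.Injective ι ∧
      ∀ x, x ^ 4 = 1 ↔ x ∈ ι.range := by
  refine ⟨MonoidHom.mk' (CfsgLib.Transfer.QSL.qI CfsgLib.Transfer.QSL.sX CfsgLib.Transfer.QSL.sY1)
    CfsgLib.Transfer.QSL.qI_mul1, CfsgLib.Transfer.QSL.qI_inj1, ?_⟩
  have key : ∀ x : Matrix.SpecialLinearGroup (Fin 2) (ZMod 3), x ^ 4 = 1 ↔
      ∃ q, CfsgLib.Transfer.QSL.qI CfsgLib.Transfer.QSL.sX CfsgLib.Transfer.QSL.sY1 q = x := by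
    decide +kernel
  exact key

theorem center_q8 : ∀ q : QuaternionGroup 2, (∀ p, p * q = q * p) → q = 1 ∨ q = QuaternionGroup.a 2 := by
  decide

theorem square_q8 : ∀ q : QuaternionGroup 2, q * q = 1 → q = 1 ∨ q = QuaternionGroup.a 2 := by
  decide

open CfsgLib.GLTwoThree in
/-- The reflections of `GL(2, 3)` form one class. -/
theorem reflections_conj : ∀ p ∈ invols, p ≠ tQ → ∀ q ∈ invols, q ≠ tQ →
    ∃ g ∈ elems, mulQ g p = mulQ q g := by decide +kernel

namespace SFour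

variable {M : Type u} [Group M] [Finite M] (S : SFour M)

/-- **Semidihedral Sylow two-subgroups give the centraliser `GL(2, 3)`.** -/
theorem centralizer_equiv_gl {P : Sylow 2 M} (hP : normalizer (S.Q : Set M) ≤ (P : Subgroup M))
    (hQD : Cfsg.IsQuasiDihedral (P : Subgroup M)) :
    Nonempty (↥(centralizer ({S.z} : Set M)) ≃* GL (Fin 2) (ZMod 3)) := by
  classical
  haveI : Fact (Nat.Prime 2) := ⟨Nat.prime_two⟩
  haveI := S.isSimple
  obtain ⟨C, hCdef⟩ : ∃ C, C = centralizer ({S.z} : Set M) := ⟨_, rfl⟩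
  rw [← hCdef]
  have hmemC : ∀ x : M, x ∈ C ↔ Commute x S.z := fun x => by
    rw [hCdef]; exact mem_centralizer_singleton_iff
  have hPC : (P : Subgroup M) ≤ C := fun x hx => (hmemC x).2 (S.z_central hP x hx).symm
  obtain ⟨PC, hPCdef⟩ : ∃ PC : Sylow 2 C, (PC : Subgroup C) = (P : Subgroup M).subgroupOf C :=
    ⟨P.subtype hPC, rfl⟩
  let z : C := ⟨S.z, (hmemC _).2 (Commute.refl _)⟩
  let v : C := ⟨S.v, (hmemC _).2 S.commute_z_v.symm⟩
  have hzc : ∀ x : C, Commute z x := fun x => Subtype.ext ((hmemC _).1 x.2).symm.eq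
  have hzo : orderOf z = 2 := by rw [← Subgroup.orderOf_coe]; exact S.z_order
  have hvo : orderOf v = 2 := by rw [← Subgroup.orderOf_coe]; exact S.v_order
  have hcv : ∀ x : C, Commute x v → (x : M) ∈ S.V := fun x h =>
    S.mem_V_of_commute ((hmemC _).1 x.2) (congrArg Subtype.val h.eq)
  -- the normal subgroup with quaternion Sylow subgroups
  obtain ⟨K, hKn, ⟨a, hKi⟩, hK2, hKq⟩ : ∃ K : Subgroup C, K.Normal ∧ (∃ a : ℕ, K.index = 2 ^ a) ∧
      (∀ H : Subgroup K, H.index ≠ 2) ∧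
      ∀ Q : Sylow 2 K, ∃ m : ℕ, 1 ≤ m ∧ Nonempty ((Q : Subgroup K) ≃* QuaternionGroup (2 ^ m)) := by
    subst hCdef
    obtain ⟨R, -, h, -⟩ := Cfsg.Agent.S1213.result P (Or.inl hQD) S.no_index_two S.z S.z_order
    exact h
  haveI := hKn
  obtain ⟨T, hT⟩ := CfsgLib.Transfer.exists_sylow_eq_subgroupOf PC K
  obtain ⟨m, hm, ⟨eT⟩⟩ := hKq T
  haveI : NeZero (2 ^ m) := ⟨by positivity⟩
  have huniq : ∀ x y : C, x ∈ K → y ∈ K → x ∈ (PC : Subgroup C) → y ∈ (PC : Subgroup C) →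
      orderOf x = 2 → orderOf y = 2 → x = y := by
    intro x y hx hy hxP hyP hxo hyo
    have hx' : (⟨x, hx⟩ : K) ∈ (T : Subgroup K) := by rw [hT]; exact hxP
    have hy' : (⟨y, hy⟩ : K) ∈ (T : Subgroup K) := by rw [hT]; exact hyP
    have key : ∀ w : (T : Subgroup K), orderOf w = 2 → eT w = QuaternionGroup.a ((2 ^ m : ℕ) : ZMod _) :=
      fun w hw => CfsgLib.Transfer.quaternion_eq_of_orderOf_two (by rwa [MulEquiv.orderOf_eq])
    have h1 := key ⟨_, hx'⟩ (by rw [← Subgroup.orderOf_coe, ← Subgroup.orderOf_coe]; exact hxo)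
    have h2 := key ⟨_, hy'⟩ (by rw [← Subgroup.orderOf_coe, ← Subgroup.orderOf_coe]; exact hyo)
    exact congrArg (fun w : (T : Subgroup K) => ((w : K) : C)) (eT.injective (h1.trans h2.symm))
  have hzP : z ∈ (PC : Subgroup C) := hPCdef ▸ mem_subgroupOf.2 (S.Q_le hP S.z_mem_Q)
  have hvP : v ∈ (PC : Subgroup C) := hPCdef ▸ mem_subgroupOf.2 (S.Q_le hP S.v_mem_Q)
  have hcentral : ∀ x : C, x ∈ (PC : Subgroup C) → (∀ y ∈ (PC : Subgroup C), Commute x y) →
      x = 1 ∨ x = z := by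
    intro x hx h
    have hc : ∀ y ∈ (P : Subgroup M), Commute (x : M) y := fun y hy =>
      congrArg Subtype.val (h ⟨y, hPC hy⟩ (hPCdef ▸ mem_subgroupOf.2 hy)).eq
    by_cases h1 : x = 1
    · exact Or.inl h1
    refine Or.inr (Subtype.ext ?_)
    have hV := S.mem_V_of_commute (hc _ (S.Q_le hP S.z_mem_Q)) (hc _ (S.Q_le hP S.v_mem_Q))
    obtain ⟨σ, hσ, e⟩ := hV
    refine S.eq_z_of_central (S.mem_Q_of_range ⟨σ, e⟩ (hc _ (S.Q_le hP S.z_mem_Q))) ?_ fun y hy =>
      hc y (S.Q_le hP hy)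
    refine invol_of_mul_self ?_ fun e1 => h1 (Subtype.ext e1)
    rw [← e, ← map_mul]
    have key : ∀ σ : Perm (Fin 4), (σ = 1 ∨ σ = swap 0 1 * swap 2 3 ∨ σ = swap 0 2 * swap 1 3 ∨
        σ = swap 0 3 * swap 1 2) → σ * σ = 1 := by decide
    rw [key σ (mem_vFour.1 hσ), map_one]
  have hzK : z ∈ K := by
    let K0 : Subgroup (PC : Subgroup C) := K.subgroupOf (PC : Subgroup C)
    haveI : Nontrivial K0 := by
      obtain ⟨w, hw⟩ := exists_ne (α := QuaternionGroup (2 ^ m)) 1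
      refine ⟨⟨⟨((eT.symm w : K) : C), hT.le (eT.symm w).2⟩, (eT.symm w : K).2⟩, 1, fun e => hw ?_⟩
      have e' : eT.symm w = 1 := Subtype.ext (Subtype.ext (congrArg
        (fun y : K0 => ((y : (PC : Subgroup C)) : C)) e))
      simpa using congrArg eT e'
    haveI : Group.IsNilpotent (PC : Subgroup C) := PC.2.isNilpotent
    obtain ⟨⟨c, hcK, hcc⟩, hc1⟩ := Subgroup.ne_bot_iff_exists_ne_one.1
      (CfsgLib.Solvable.normal_inf_center_ne_bot K0 ((Subgroup.nontrivial_iff_ne_bot K0).1 inferInstance))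
    rcases hcentral c c.2 (fun y hy => congrArg Subtype.val (mem_center_iff.1 hcc ⟨y, hy⟩).symm) with
      e | e
    · exact absurd (Subtype.ext (Subtype.ext e)) hc1
    · exact e ▸ hcK
  -- solubility
  have hvK : ∀ x ∈ K, v * x * v⁻¹ ∈ K := fun x hx => hKn.conj_mem x hx v
  let σ : K →* K := MonoidHom.mk' (fun x => ⟨v * x * v⁻¹, hvK x x.2⟩) fun a b => Subtype.ext (by
    show v * ((a : C) * b) * v⁻¹ = v * (a : C) * v⁻¹ * (v * (b : C) * v⁻¹); group)
  have hKsol : Group.IsSolvable K := by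
    refine GenDihedral.isSolvable_of_fix_le_two _ σ (fun x => Subtype.ext ?_) ⟨z, hzK⟩ fun x hx => ?_
    · show v * (v * (x : C) * v⁻¹) * v⁻¹ = x
      rw [invol_inv hvo, show v * (v * (x : C) * v) * v = (v * v) * x * (v * v) by group,
        invol_mul_self hvo, one_mul, mul_one]
    have hxv : Commute (x : C) v := (mul_inv_eq_iff_eq_mul.1 (congrArg Subtype.val hx)).symm
    have hout : ∀ w : C, w ∈ (PC : Subgroup C) → orderOf w = 2 → w ≠ z → w ∉ K := fun w hw ho hne hwK =>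
      hne (huniq w z hwK hzK hw hzP ho hzo)
    rcases S.mem_V_cases (hcv x hxv) with e | e | e | e
    · exact Or.inl (Subtype.ext (Subtype.ext e))
    · exact Or.inr (Subtype.ext (Subtype.ext e))
    · exact absurd x.2 (by
        rw [show (x : C) = v from Subtype.ext e]
        exact hout v hvP hvo fun h => S.v_ne_z (congrArg Subtype.val h))
    · exact absurd x.2 (by
        rw [show (x : C) = v * z from Subtype.ext e]
        refine hout _ (mul_mem hvP hzP) (invol_of_mul_self ?_ fun h => S.v_ne_z ?_) fun h => ?_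
        · rw [(hzc v).mul_mul_mul_comm, invol_mul_self hvo, invol_mul_self hzo, one_mul]
        · have := congrArg Subtype.val (eq_inv_of_mul_eq_one_left h)
          exact this.trans (invol_inv S.z_order)
        · exact invol_ne_one hvo (mul_eq_right.1 h))
  have hCsol : Group.IsSolvable C := by
    have hq : IsPGroup 2 (C ⧸ K) := IsPGroup.of_card (n := a) hKi
    haveI : Group.IsNilpotent (C ⧸ K) := hq.isNilpotent
    haveI := hKsol
    exact Group.isSolvable_of_ker_le_range K.subtype (QuotientGroup.mk' K)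
      (by rw [QuotientGroup.ker_mk', Subgroup.range_subtype])
  -- the factor group
  obtain ⟨O, hO⟩ : ∃ O : Subgroup C, O = Cfsg.pPrimeCore 2 C := ⟨_, rfl⟩
  haveI hOn : O.Normal := hO ▸ CfsgLib.Solvable.pPrimeCore_normal 2 C
  have hOodd : Odd (Nat.card O) := hO ▸ Nat.coprime_two_right.1 (CfsgLib.Solvable.pPrimeCore_coprime 2)
  have hOX : Cfsg.pPrimeCore 2 (C ⧸ O) = ⊥ := by
    subst hO
    exact CfsgLib.Solvable.pPrimeCore_quotient_eq_bot 2
  set f := QuotientGroup.mk' O with hf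
  have hfs : Function.Surjective f := QuotientGroup.mk'_surjective O
  have hfz : orderOf (f z) = 2 := by
    refine invol_of_mul_self (by rw [← map_mul, invol_mul_self hzo, map_one]) fun e => ?_
    exact invol_ne_one hzo (GenDih.eq_one_of_sq
      (GenDih.odd_orderOf_of_mem hOodd ((QuotientGroup.eq_one_iff z).1 e)) (invol_mul_self hzo))
  obtain ⟨U, hU⟩ : ∃ U : Sylow 2 (C ⧸ O), (U : Subgroup (C ⧸ O)) = (PC : Subgroup C).map f :=
    ⟨PC.mapSurjective hfs, rfl⟩
  have hinj : ∀ x ∈ (PC : Subgroup C), f x = 1 → x = 1 := fun x hx he => by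
    obtain ⟨n, hn⟩ := PC.2 ⟨x, hx⟩
    exact orderOf_eq_one_iff.1 (Nat.eq_one_of_dvd_coprimes
      ((Nat.coprime_two_right.2 hOodd).pow_right n)
      (Subgroup.orderOf_dvd_natCard _ ((QuotientGroup.eq_one_iff x).1 he))
      (orderOf_dvd_of_pow_eq_one (congrArg Subtype.val hn :)))
  let eU : (P : Subgroup M) ≃* (U : Subgroup (C ⧸ O)) :=
    MulEquiv.ofBijective (MonoidHom.mk'
      (fun x => ⟨f ⟨x, hPC x.2⟩, hU ▸ mem_map_of_mem f (hPCdef ▸ mem_subgroupOf.2 x.2)⟩)
      fun x y => Subtype.ext (map_mul f ⟨x, hPC x.2⟩ ⟨y, hPC y.2⟩)) ⟨by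
        rw [injective_iff_map_eq_one]
        intro x hx
        exact Subtype.ext (congrArg Subtype.val
          (hinj ⟨x, hPC x.2⟩ (hPCdef ▸ mem_subgroupOf.2 x.2) (congrArg Subtype.val hx)) :), by
        rintro ⟨y, hy⟩
        obtain ⟨x, hx, rfl⟩ := hU ▸ hy
        exact ⟨⟨x, mem_subgroupOf.1 (hPCdef ▸ hx)⟩, rfl⟩⟩
  have hUQD : Cfsg.IsQuasiDihedral (U : Subgroup (C ⧸ O)) := isQuasiDihedral_congr eU hQD
  have hUc : ∀ w ∈ (U : Subgroup (C ⧸ O)), (∀ y ∈ (U : Subgroup (C ⧸ O)), Commute w y) →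
      w = 1 ∨ w = f z := by
    intro w hw h
    obtain ⟨x, hx, rfl⟩ := hU ▸ hw
    have hcomm : ∀ y ∈ (PC : Subgroup C), Commute x y := fun y hy => by
      refine mul_inv_eq_one.1 (hinj _ (mul_mem (mul_mem hx hy) (inv_mem (mul_mem hy hx))) ?_)
      rw [map_mul, map_inv, map_mul, map_mul f y x, (h _ (hU ▸ mem_map_of_mem f hy)).eq, mul_inv_cancel]
    rcases hcentral x hx hcomm with e | e
    · exact Or.inl (by rw [e, map_one])
    · exact Or.inr (by rw [e])
  have hfzc : ∀ w : C ⧸ O, Commute (f z) w := fun w => by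
    obtain ⟨x, rfl⟩ := hfs w
    exact (hzc x).map f
  have hne : (U : Subgroup (C ⧸ O)) ≠ ⊤ := by
    intro htop
    have hX : IsPGroup 2 (C ⧸ O) := fun w => by
      obtain ⟨n, hn⟩ := U.2 ⟨w, htop ▸ mem_top w⟩
      exact ⟨n, congrArg Subtype.val hn⟩
    let g : K →* C ⧸ O := f.comp K.subtype
    haveI : Nontrivial g.range := ⟨⟨f z, ⟨z, hzK⟩, rfl⟩, 1, fun e =>
      invol_ne_one hfz (congrArg Subtype.val e)⟩
    obtain ⟨N, hN⟩ := exists_index_two (hX.to_subgroup g.range)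
    exact hK2 (N.comap g.rangeRestrict)
      (by rw [index_comap_of_surjective _ g.rangeRestrict_surjective, hN])
  have hXsol : Group.IsSolvable (C ⧸ O) := by
    haveI := hCsol
    exact Group.isSolvable_of_surjective hfs
  haveI := hXsol
  obtain ⟨L, hLn, ⟨eL⟩⟩ := Cfsg.Agent.S2879.result hXsol hOX U (Or.inr hUQD) hne (by
    refine ⟨fun w hw y => ?_⟩
    rcases hUc w hw.1 (fun t ht => (mem_centralizer_iff.1 hw.2 t ht).symm) with e | e
    · rw [e, mul_one, mul_inv_cancel]; exact one_mem _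
    · rw [e, ← (hfzc y).eq, mul_inv_cancel_right, ← e]; exact hw)
  -- the quaternion subgroup
  obtain ⟨ι, hι, hιr⟩ := exists_quaternion_sl23
  let j : QuaternionGroup 2 →* C ⧸ O := (L.subtype.comp eL.symm.toMonoidHom).comp ι
  have hj : Function.Injective j := L.subtype_injective.comp (eL.symm.injective.comp hι)
  obtain ⟨Q, hQ⟩ : ∃ Q, Q = j.range := ⟨_, rfl⟩
  have hQmem : ∀ w, w ∈ Q ↔ w ∈ L ∧ w ^ 4 = 1 := by
    intro w
    rw [hQ]
    constructor
    · rintro ⟨q, rfl⟩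
      refine ⟨(eL.symm (ι q)).2, ?_⟩
      rw [← map_pow, show q ^ 4 = 1 from (by decide : ∀ q : QuaternionGroup 2, q ^ 4 = 1) q, map_one]
    · rintro ⟨hw, h4⟩
      obtain ⟨q, hq⟩ := (hιr (eL ⟨w, hw⟩)).1 (by
        rw [← map_pow, show (⟨w, hw⟩ : L) ^ 4 = 1 from Subtype.ext h4, map_one])
      exact ⟨q, by show ((eL.symm (ι q) : L) : C ⧸ O) = w; rw [hq, MulEquiv.symm_apply_apply]⟩
  haveI hQn : Q.Normal := ⟨fun w hw y => (hQmem _).2
    ⟨hLn.conj_mem w ((hQmem w).1 hw).1 y, by rw [conj_pow, ((hQmem w).1 hw).2, mul_one, mul_inv_cancel]⟩⟩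
  let eQ : Q ≃* QuaternionGroup 2 :=
    ((MonoidHom.ofInjective hj).trans (MulEquiv.subgroupCongr hQ.symm)).symm
  have hQ8 : Nat.card Q = 8 := by
    rw [Nat.card_congr eQ.toEquiv, Nat.card_eq_fintype_card, QuaternionGroup.card]
  have hQU : Q ≤ (U : Subgroup (C ⧸ O)) :=
    (CfsgLib.Solvable.le_pCore hQn (IsPGroup.of_card (n := 3) hQ8)).trans
      (CfsgLib.Solvable.pCore_le_sylow U)
  -- the unique involution is the centre
  have hjQ : ∀ p, j p ∈ Q := fun p => by rw [hQ]; exact ⟨p, rfl⟩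
  obtain ⟨c, hc⟩ : ∃ c : C ⧸ O, c = j (QuaternionGroup.a 2) := ⟨_, rfl⟩
  have hcQ : c ∈ Q := hc ▸ hjQ _
  have hQsq : ∀ w ∈ Q, w * w = 1 → w = 1 ∨ w = c := by
    intro w hw h
    obtain ⟨q, rfl⟩ := hQ ▸ hw
    rw [← map_mul] at h
    rcases square_q8 q (hj (h.trans (map_one j).symm)) with e | e
    · exact Or.inl (by rw [e, map_one])
    · exact Or.inr (by rw [hc, e])
  have hc1 : c ≠ 1 := fun e => absurd (hj ((hc.symm.trans e).trans (map_one j).symm)) (by decide)
  have hcc : c * c = 1 := by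
    rw [hc, ← map_mul]
    exact (congrArg j (by decide : (QuaternionGroup.a 2 : QuaternionGroup 2) * .a 2 = 1)).trans (map_one j)
  have hcz : c = f z := by
    refine (hUc c (hQU hcQ) fun y hy => ?_).resolve_left hc1
    rcases hQsq _ (hQn.conj_mem c hcQ y)
        (by rw [show y * c * y⁻¹ * (y * c * y⁻¹) = y * (c * c) * y⁻¹ by group, hcc]; group) with e | e
    · exact absurd (conj_eq_one_iff.1 e) hc1
    · exact (mul_inv_eq_iff_eq_mul.1 e).symm
  -- the centraliser of the quaternion subgroup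
  obtain ⟨Z, hZ⟩ : ∃ Z, Z = centralizer (Q : Set (C ⧸ O)) := ⟨_, rfl⟩
  have hZU : ∀ w ∈ Z, w ∈ (U : Subgroup (C ⧸ O)) → w = 1 ∨ w = f z := by
    intro w hw hwU
    have h := ((Cfsg.Agent.S1191.result hUQD).2 (Q.subgroupOf U)
      ⟨(subgroupOfEquivOfLe hQU).trans eQ⟩).1
    have hw' : (⟨w, hwU⟩ : (U : Subgroup (C ⧸ O))) ∈ centralizer (Q.subgroupOf U : Set _) :=
      mem_centralizer_iff.2 fun y hy => Subtype.ext (mem_centralizer_iff.1
        (show w ∈ centralizer (Q : Set (C ⧸ O)) from hZ ▸ hw) (y : C ⧸ O) hy)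
    rw [h] at hw'
    obtain ⟨⟨q, hq⟩, hqc, e⟩ := hw'
    have e' : (q : C ⧸ O) = w := congrArg Subtype.val e
    obtain ⟨q0, hq0⟩ := hQ ▸ mem_subgroupOf.1 hq
    have hp : ∀ p, p * q0 = q0 * p := fun p => hj (by
      rw [map_mul, map_mul, hq0]
      exact congrArg (fun y : Q.subgroupOf U => ((y : (U : Subgroup (C ⧸ O))) : C ⧸ O))
        (mem_center_iff.1 hqc ⟨⟨j p, hQU (hjQ p)⟩, mem_subgroupOf.2 (hjQ p)⟩))
    rcases center_q8 q0 hp with h0 | h0
    · exact Or.inl (by rw [← e', ← hq0, h0, map_one])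
    · exact Or.inr (by rw [← e', ← hq0, h0, ← hc, hcz])
  have hfzQ : f z ∈ Q := hcz ▸ hcQ
  have hfzZ : f z ∈ Z := hZ ▸ mem_centralizer_iff.2 fun y _ => (hfzc y).eq.symm
  haveI hZn : Z.Normal := hZ ▸ inferInstance
  have hZcases : ∀ w ∈ Z, w = 1 ∨ w = f z := by
    haveI := CfsgLib.Solvable.pPrimeCore_normal 2 Z
    have hOZ : Cfsg.pPrimeCore 2 Z = ⊥ := by
      refine (map_eq_bot_iff_of_injective _ Z.subtype_injective).1 ?_
      rw [← le_bot_iff, ← hOX]
      exact CfsgLib.Solvable.map_pPrimeCore_le 2 Z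
    have hB := CfsgLib.Solvable.centralizer_pCore_le (G := Z) 2 hOZ
    have hBU : ∀ b ∈ Cfsg.pCore 2 Z, (b : C ⧸ O) ∈ (U : Subgroup (C ⧸ O)) := fun b hb =>
      CfsgLib.Solvable.pCore_le_sylow U (CfsgLib.Solvable.map_pCore_le 2 Z ⟨b, hb, rfl⟩)
    intro w hw
    refine hZU w hw (hBU ⟨w, hw⟩ (hB (mem_centralizer_iff.2 fun b hb => Subtype.ext ?_)))
    rcases hZU b b.2 (hBU b hb) with e | e
    · show (b : C ⧸ O) * w = w * b
      rw [e, one_mul, mul_one]
    · show (b : C ⧸ O) * w = w * b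
      rw [e]
      exact (hfzc w).eq
  have hZQ : Z ≤ Q := fun w hw => by
    rcases hZcases w hw with rfl | rfl
    exacts [one_mem Q, hfzQ]
  -- the order
  have hX48 : Nat.card (C ⧸ O) = 48 := by
    let φ : C ⧸ O →* MulAut Q := MulAut.conjNormal
    have hker : φ.ker ≤ Z := fun w hw => hZ ▸ mem_centralizer_iff.2 fun y hy => by
      have := congrArg Subtype.val (DFunLike.congr_fun (MonoidHom.mem_ker.1 hw) ⟨y, hy⟩)
      exact (mul_inv_eq_iff_eq_mul.1 ((MulAut.conjNormal_apply w ⟨y, hy⟩).symm.trans this)).symm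
    have hzker : f z ∈ φ.ker := MonoidHom.mem_ker.2 (MulEquiv.ext fun y => Subtype.ext (by
      rw [MulAut.conjNormal_apply, (hfzc _).eq, mul_inv_cancel_right]; rfl))
    have hk2 : Nat.card φ.ker = 2 := by
      rw [show φ.ker = zpowers (f z) from le_antisymm (fun w hw => by
        rcases hZcases w (hker hw) with rfl | rfl
        exacts [one_mem _, mem_zpowers _]) (zpowers_le.2 hzker), Nat.card_zpowers, hfz]
    have h24 : Nat.card φ.range ∣ 24 := by
      rw [← CfsgLib.InvChar.OctaRecog.card_aut, ← Nat.card_congr (MulAut.congr eQ).toEquiv]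
      exact Subgroup.card_subgroup_dvd_card _
    have hcard := φ.ker.card_mul_index
    rw [index_ker, hk2] at hcard
    have h16 : 16 ∣ Nat.card (C ⧸ O) := by
      have h := S.card_norm_Q ▸ card_dvd_of_le hP
      rw [Nat.card_congr eU.toEquiv] at h
      exact h.trans (card_subgroup_dvd_card _)
    have hnot : Nat.card (C ⧸ O) ≠ 16 := fun h => hne (eq_top_of_le_card _ (by
      rw [h, ← Nat.card_congr eU.toEquiv]
      exact S.card_norm_Q ▸ Nat.le_of_dvd Nat.card_pos (card_dvd_of_le hP)))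
    have hle := Nat.le_of_dvd (by norm_num) h24
    obtain ⟨q, hq⟩ := h16
    have hpos : 0 < Nat.card φ.range := Nat.card_pos
    have hq3 : q ≤ 3 := by omega
    interval_cases q
    · omega
    · omega
    · exfalso
      have : Nat.card φ.range = 16 := by omega
      rw [this] at h24
      norm_num at h24
    · exact hq
  have hvQ : f v ∉ Q := fun h => by
    rcases hQsq _ h (by rw [← map_mul, invol_mul_self hvo, map_one]) with e | e
    · exact invol_ne_one hvo (hinj v hvP e)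
    · rw [hcz] at e
      have h1 := hinj _ (mul_mem hvP hzP) (by rw [map_mul, e, ← map_mul, invol_mul_self hzo, map_one])
      exact S.v_ne_z (congrArg Subtype.val ((eq_inv_of_mul_eq_one_left h1).trans (invol_inv hzo)))
  obtain ⟨eX⟩ := CfsgLib.InvChar.OctaRecog.equiv_gl hX48 Q eQ (hZ ▸ hZQ)
    (by rw [← map_mul, invol_mul_self hvo, map_one]) hvQ
  obtain ⟨Kc⟩ := CfsgLib.GLTwoThree.exists_coord eX
  -- the reflections invert the kernel
  have hinv : ∀ k ∈ O, v * k * v⁻¹ = k⁻¹ := fun k hk =>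
    GenDih.inv_of_fpf hvo (fun y hy => hOn.conj_mem y hy v) (fun y hy hyv => by
      refine GenDih.eq_one_of_sq (GenDih.odd_orderOf_of_mem hOodd hy) (Subtype.ext ?_)
      rcases S.mem_V_cases (hcv y hyv) with e | e | e | e <;>
        (show (y : M) * y = 1; rw [e])
      exacts [one_mul 1, invol_mul_self S.z_order, invol_mul_self S.v_order, by
        rw [S.commute_z_v.mul_mul_mul_comm, invol_mul_self S.v_order, invol_mul_self S.z_order,
          one_mul]]) hk
  have hfo : ∀ x : C, orderOf x = 2 → orderOf (f x) = 2 := fun x hx => by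
    refine invol_of_mul_self (by rw [← map_mul, invol_mul_self hx, map_one]) fun e => invol_ne_one hx ?_
    exact GenDih.eq_one_of_sq (GenDih.odd_orderOf_of_mem hOodd ((QuotientGroup.eq_one_iff x).1 e))
      (invol_mul_self hx)
  have htQ : Kc.c (f z) = CfsgLib.GLTwoThree.tQ := by
    refine CfsgLib.GLTwoThree.tQ_unique _ (Kc.mem_invols hfz) fun r hr => ?_
    obtain ⟨w, rfl⟩ := Kc.surj r hr
    rw [← Kc.map_mul, ← Kc.map_mul, (hfzc w).eq]
  have hrefl : ∀ x : C, Kc.c (f x) ∈ CfsgLib.GLTwoThree.invols → Kc.c (f x) ≠ CfsgLib.GLTwoThree.tQ →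
      x * x = 1 := by
    intro x hx hxt
    obtain ⟨g, hg, e⟩ := reflections_conj _ (Kc.mem_invols (hfo v hvo))
      (fun h => hvQ (Kc.inj (h.trans htQ.symm) ▸ hfzQ)) _ hx hxt
    obtain ⟨g, rfl⟩ := Kc.surj g hg
    obtain ⟨g, rfl⟩ := hfs g
    rw [← Kc.map_mul, ← Kc.map_mul, ← map_mul, ← map_mul] at e
    have hfeq : f (g * v * g⁻¹) = f x := by
      rw [map_mul, map_inv, Kc.inj e, map_mul, mul_inv_cancel_right]
    obtain ⟨k, hk⟩ : ∃ k, k = x * (g * v * g⁻¹)⁻¹ := ⟨_, rfl⟩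
    have hkO : k ∈ O := (QuotientGroup.eq_one_iff k).1 (by
      show f k = 1
      rw [hk, map_mul, map_inv, hfeq, mul_inv_cancel])
    obtain ⟨w, hw⟩ : ∃ w, w = g * v * g⁻¹ := ⟨_, rfl⟩
    have hw2 : w * w = 1 := by
      rw [hw, show g * v * g⁻¹ * (g * v * g⁻¹) = g * (v * v) * g⁻¹ by group, invol_mul_self hvo]
      group
    have hwk : w * k * w⁻¹ = k⁻¹ := by
      have h := hinv _ (hOn.conj_mem k hkO g⁻¹)
      rw [inv_inv] at h
      rw [hw, show g * v * g⁻¹ * k * (g * v * g⁻¹)⁻¹ = g * (v * (g⁻¹ * k * g) * v⁻¹) * g⁻¹ by group, h]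
      group
    rw [show x = k * w by rw [hk, hw, inv_mul_cancel_right]]
    calc k * w * (k * w) = k * (w * k * w⁻¹) * (w * w) := by group
      _ = 1 := by rw [hwk, hw2, mul_inv_cancel, mul_one]
  -- the kernel is trivial
  subst hCdef
  let E : CfsgLib.GLTwoThreeO.Over S.z _ :=
    ⟨f, Kc, hfs, by rw [hf, QuotientGroup.ker_mk']; exact hOodd, hrefl⟩
  have hk := E.ker_eq_bot S.z_order fun s hs => S.one_class _ s S.z_order hs
  exact ⟨(MulEquiv.ofBijective E.π ⟨(MonoidHom.ker_eq_bot_iff E.π).1 hk, hfs⟩).trans eX⟩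

/-- **Semidihedral Sylow two-subgroups give `PSL₃(3)` or `M₁₁`.** -/
theorem classify_semi {P : Sylow 2 M} (hP : normalizer (S.Q : Set M) ≤ (P : Subgroup M))
    (hQD : Cfsg.IsQuasiDihedral (P : Subgroup M)) :
    Nonempty (M ≃* Matrix.ProjectiveSpecialLinearGroup (Fin 3) (ZMod 3)) ∨ Cfsg.Spor.IsoM11 M := by
  haveI := S.isSimple
  haveI : Fact (Nat.Prime 3) := ⟨Nat.prime_three⟩
  rcases Cfsg.Agent.S2916.result (CfsgLib.Invol.pResidual_eq_top_of_no_index_two S.no_index_two)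
    S.z S.z_order (S.centralizer_equiv_gl hP hQD) with ⟨F, _, _, hF, ⟨e⟩⟩ | h
  · exact Or.inl ⟨e.trans (CfsgLib.Geom.Moebius.pslCongr (n := Fin 3) (ZMod.ringEquivOfPrime F Nat.prime_three hF).symm)⟩
  · exact Or.inr h

end SFour

end CfsgLib.Recog.SuborbitThree
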