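import Cfsg.Agent.Lib.Recog.SuborbitThree.SFourDihedral
import Cfsg.Agent.Lib.Recog.SuborbitThree.SFourSemi

/-!
# A self-normalised four-group: the classification
-/

set_option autoImplicit false
set_option linter.unusedSectionVars false

namespace CfsgLib.Recog.SuborbitThree

open Subgroup Equiv

universe u

/-- The three groups with a four-group whose normaliser is `Sym(4)`. -/
theorem SFour.classify {M : Type u} [Group M] [Finite M] (S : SFour M)
    (hmax : (∀ X : Subgroup M, S.φ.range ≤ normalizer (X : Set M) → X ≤ S.φ.range ∨ X = ⊤) ∨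
      ∀ X : Subgroup M, X ≤ centralizer ({S.z} : Set M) →
        centralizer ({S.z} : Set M) ≤ normalizer (X : Set M) → Odd (Nat.card X) → X = ⊥) :
    (16 ∣ Nat.card (centralizer ({S.z} : Set M)) ∧
      ∃ (F : Type) (_ : Field F) (_ : Fintype F), Odd (Fintype.card F) ∧
        Nonempty (M ≃* Matrix.ProjectiveSpecialLinearGroup (Fin 2) F)) ∨
      Nonempty (M ≃* Matrix.ProjectiveSpecialLinearGroup (Fin 3) (ZMod 3)) ∨
      Cfsg.Spor.IsoM11 M := by
  haveI : Fact (Nat.Prime 2) := ⟨Nat.prime_two⟩
  obtain ⟨P, hP⟩ := S.exists_sylow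
  rcases S.shape hP with ⟨n, -, ⟨e⟩⟩ | hQD
  · exact Or.inl (S.classify_dihedral P n e hmax)
  · exact Or.inr (S.classify_semi hP hQD)

end CfsgLib.Recog.SuborbitThree
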