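import Cfsg.Agent.Lib.Coprime.Sylow
import Mathlib.GroupTheory.GroupAction.Primitive
import Mathlib.GroupTheory.Solvable

/-!
# Primitive groups with a suborbit of length three: the abstract setting
-/

set_option autoImplicit false

namespace CfsgLib.Recog.SuborbitThree

open Subgroup

universe u

variable {G : Type u} [Group G]

/-- A core-free maximal subgroup of a group without soluble normal subgroups, whose two-parts are
normalised outside of it. -/
structure Prim (H : Subgroup G) : Prop where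
  coatom : IsCoatom H
  core : ∀ N : Subgroup G, N.Normal → N ≤ H → N = ⊥
  nosol : ∀ N : Subgroup G, N.Normal → Group.IsSolvable N → N = ⊥
  ne_bot : H ≠ ⊥
  insoluble : ¬ Group.IsSolvable G
  move : ∀ Q : Subgroup G, Q ≤ H → Nat.card H = Nat.card Q * 3 →
    ∃ g, g ∉ H ∧ g ∈ normalizer (Q : Set G)

/-- The point stabiliser of a faithful primitive insoluble group with an orbit of length three. -/
theorem prim_of_suborbit {Ω : Type*} [Finite G] [MulAction G Ω] [FaithfulSMul G Ω] [Finite Ω]
    (hsolG : ¬ Group.IsSolvable G) (hprim : MulAction.IsPreprimitive G Ω) (a b : Ω)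
    (h3 : Nat.card (MulAction.orbit (MulAction.stabilizer G a) b) = 3)
    (hH : ∃ k : ℕ, Nat.card (MulAction.stabilizer G a) = 2 ^ k * 3)
    (hHs : Group.IsSolvable (MulAction.stabilizer G a)) :
    Prim (MulAction.stabilizer G a) := by
  classical
  have : MulAction.IsPretransitive G Ω := hprim.toIsPretransitive
  have hab : a ≠ b := by
    rintro rfl
    have : (MulAction.orbit (MulAction.stabilizer G a) a) = {a} := by
      ext x
      refine ⟨?_, fun h => by rw [Set.mem_singleton_iff.1 h]; exact MulAction.mem_orbit_self a⟩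
      rintro ⟨g, rfl⟩
      exact g.2
    rw [this] at h3
    simp at h3
  have : Nontrivial Ω := ⟨⟨a, b, hab⟩⟩
  set H := MulAction.stabilizer G a with hHdef
  have hco : IsCoatom H := by
    rw [hHdef, MulAction.isCoatom_stabilizer_iff_preprimitive]
    exact hprim
  have hcore : ∀ N : Subgroup G, N.Normal → N ≤ H → N = ⊥ := by
    intro N hN hle
    refine eq_bot_iff.2 fun n hn => mem_bot.2 (eq_of_smul_eq_smul (α := Ω) fun x => ?_)
    obtain ⟨g, rfl⟩ := MulAction.exists_smul_eq G a x
    rw [one_smul, smul_smul]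
    have h := hle (hN.conj_mem n hn g⁻¹)
    rw [hHdef, MulAction.mem_stabilizer_iff, inv_inv, mul_smul, mul_smul, inv_smul_eq_iff,
      ← mul_smul] at h
    exact h
  have hne : H ≠ ⊥ := fun e => by
    obtain ⟨k, hk⟩ := hH
    rw [e, card_bot] at hk
    have := Nat.one_le_two_pow (n := k)
    omega
  refine ⟨hco, hcore, fun N hN hNs => ?_, hne, hsolG, ?_⟩
  · by_contra hne'
    have hsup : N ⊔ H = ⊤ := hco.2 _ (lt_of_le_of_ne le_sup_right fun e =>
      hne' (hcore N hN (sup_eq_right.1 e.symm)))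
    apply hsolG
    have : (⊤ : Subgroup G).map (QuotientGroup.mk' N) = H.map (QuotientGroup.mk' N) := by
      rw [← hsup, Subgroup.map_sup, QuotientGroup.map_mk'_self, bot_sup_eq]
    have hQ : Group.IsSolvable (G ⧸ N) := by
      refine Group.isSolvable_of_surjective (f := (QuotientGroup.mk' N).comp H.subtype) fun q => ?_
      have hq : q ∈ H.map (QuotientGroup.mk' N) := this ▸ by
        obtain ⟨g, rfl⟩ := QuotientGroup.mk'_surjective N q
        exact mem_map_of_mem _ (mem_top g)
      obtain ⟨h, hh, rfl⟩ := hq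
      exact ⟨⟨h, hh⟩, rfl⟩
    exact Group.isSolvable_of_ker_le_range N.subtype (QuotientGroup.mk' N)
      (by rw [QuotientGroup.ker_mk', Subgroup.range_subtype])
  · -- the intersection with the stabiliser of `b`
    obtain ⟨g₀, hg₀⟩ := MulAction.exists_smul_eq G a b
    set Q₀ := H ⊓ MulAction.stabilizer G b with hQ₀
    have hidx : Q₀.relIndex H = 3 := by
      rw [← h3, Nat.card_congr (MulAction.orbitEquivQuotientStabilizer H b), ← Subgroup.index_eq_card,
        hQ₀, inf_comm, Subgroup.inf_relIndex_right]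
      exact congrArg Subgroup.index (by ext; rfl)
    obtain ⟨k, hk⟩ := hH
    have hcard : Nat.card Q₀ = 2 ^ k := by
      have h := Subgroup.card_mul_index (Q₀.subgroupOf H)
      rw [← Subgroup.relIndex, hidx, CfsgLib.Coprime.card_subgroupOf (inf_le_left : Q₀ ≤ H), hk] at h
      exact Nat.eq_of_mul_eq_mul_right (by norm_num : 0 < 3) h
    have hfac : (Nat.card H).factorization 2 = k := by
      rw [hk, Nat.factorization_mul (by positivity) (by norm_num), Finsupp.add_apply,
        Nat.Prime.factorization_pow Nat.prime_two, Finsupp.single_eq_same,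
        Nat.factorization_eq_zero_of_not_dvd (by norm_num), add_zero]
    have : Fact (Nat.Prime 2) := ⟨Nat.prime_two⟩
    have syl : ∀ Q : Subgroup G, Q ≤ H → Nat.card Q = 2 ^ k → ∀ Q' : Subgroup G, Q' ≤ H →
        Nat.card Q' = 2 ^ k → ∃ h ∈ H, Q.map (MulAut.conj h).toMonoidHom = Q' := by
      intro Q hQ hQc Q' hQ' hQ'c
      let S : Sylow 2 H := Sylow.ofCard (Q.subgroupOf H)
        (by rw [CfsgLib.Coprime.card_subgroupOf hQ, hQc, hfac])
      let S' : Sylow 2 H := Sylow.ofCard (Q'.subgroupOf H)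
        (by rw [CfsgLib.Coprime.card_subgroupOf hQ', hQ'c, hfac])
      obtain ⟨h, hh⟩ := MulAction.exists_smul_eq H S S'
      refine ⟨h, h.2, ?_⟩
      have h1 : (Q.subgroupOf H).map (MulAut.conj h).toMonoidHom = Q'.subgroupOf H :=
        congrArg (fun T : Sylow 2 H => (T : Subgroup H)) hh
      have h2 := congrArg (Subgroup.map H.subtype) h1
      rwa [CfsgLib.Coprime.map_conj_subtype, subgroupOf_map_subtype, subgroupOf_map_subtype,
        inf_eq_left.2 hQ, inf_eq_left.2 hQ'] at h2
    intro Q hQ hQcard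
    have hQc : Nat.card Q = 2 ^ k := by omega
    set Q₁ := Q₀.map (MulAut.conj g₀⁻¹).toMonoidHom with hQ₁
    have hQ₁H : Q₁ ≤ H := by
      rintro _ ⟨x, hx, rfl⟩
      have hxb : x • b = b := (Subgroup.mem_inf.1 hx).2
      show (g₀⁻¹ * x * g₀⁻¹⁻¹) • a = a
      rw [inv_inv, mul_smul, mul_smul, hg₀, hxb, ← hg₀, inv_smul_smul]
    obtain ⟨h₁, hh₁, e₁⟩ := syl Q hQ hQc Q₀ inf_le_left hcard
    obtain ⟨h₂, hh₂, e₂⟩ := syl Q hQ hQc Q₁ hQ₁H
      (by rw [hQ₁, CfsgLib.Coprime.card_map_conj, hcard])
    refine ⟨h₁⁻¹ * g₀ * h₂, fun hmem => ?_, ?_⟩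
    · have hg : g₀ ∈ H := by
        have := H.mul_mem (H.mul_mem hh₁ hmem) (H.inv_mem hh₂)
        rwa [show h₁ * (h₁⁻¹ * g₀ * h₂) * h₂⁻¹ = g₀ by group] at this
      exact hab ((MulAction.mem_stabilizer_iff.1 hg).symm.trans hg₀)
    · rw [CfsgLib.Coprime.mem_normalizer_iff_map_conj, ← CfsgLib.Coprime.map_conj_conj, e₂, hQ₁,
        CfsgLib.Coprime.map_conj_conj, show h₁⁻¹ * g₀ * g₀⁻¹ = h₁⁻¹ by group, ← e₁,
        CfsgLib.Coprime.map_conj_conj, inv_mul_cancel]
      ext x
      simp

namespace Prim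

variable {H : Subgroup G} (hP : Prim H)

include hP

theorem ne_top : H ≠ ⊤ := hP.coatom.1

theorem sup_eq_top {N : Subgroup G} [hN : N.Normal] (hne : N ≠ ⊥) : N ⊔ H = ⊤ :=
  hP.coatom.2 _ (lt_of_le_of_ne le_sup_right fun e => hne (hP.core N hN (sup_eq_right.1 e.symm)))

theorem eq_top_of_le {K : Subgroup G} (hK : H ≤ K) {x : G} (hx : x ∈ K) (hxH : x ∉ H) : K = ⊤ :=
  hP.coatom.2 _ (lt_of_le_of_ne hK fun e => hxH (e ▸ hx))

theorem normalizer_eq {X : Subgroup G} (hX : X ≠ ⊥) (hXH : X ≤ H)
    (hn : H ≤ normalizer (X : Set G)) : normalizer (X : Set G) = H := by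
  refine le_antisymm (fun g hg => ?_) hn
  by_contra hgH
  exact hX (hP.core X (normalizer_eq_top_iff.1 (hP.eq_top_of_le hn hg hgH)) hXH)

theorem centralizer_le {X : Subgroup G} (hX : X ≠ ⊥) (hXH : X ≤ H)
    (hn : H ≤ normalizer (X : Set G)) : centralizer (X : Set G) ≤ H :=
  (centralizer_le_normalizer _).trans (hP.normalizer_eq hX hXH hn).le

/-- A nontrivial normal subgroup meets the maximal subgroup, given a normal `p`-subgroup of the
latter. -/
theorem inf_ne_bot [Finite G] {p : ℕ} [Fact p.Prime] {R : Subgroup G} (hR : R ≠ ⊥) (hRH : R ≤ H)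
    (hRn : H ≤ normalizer (R : Set G)) (hRp : IsPGroup p R)
    {N : Subgroup G} [hN : N.Normal] (hne : N ≠ ⊥) : N ⊓ H ≠ ⊥ := by
  classical
  intro hbot
  have hnormN : ∀ K : Subgroup G, K ≤ normalizer (N : Set G) := fun K => by
    rw [normalizer_eq_top]; exact le_top
  set C := N ⊓ centralizer (R : Set G) with hCdef
  have hC : C = ⊥ := by
    have hle : C ≤ N ⊓ H :=
      inf_le_inf_left N (hP.centralizer_le hR hRH hRn)
    exact le_bot_iff.1 (hbot ▸ hle)
  have hRsol : Group.IsSolvable R := by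
    have := hRp.isNilpotent
    infer_instance
  -- only the identity of `N` is fixed by `R`
  letI : MulAction R N :=
    { smul := fun r n => ⟨(r : G) * n * (r : G)⁻¹, hN.conj_mem _ n.2 _⟩
      one_smul := fun n => Subtype.ext (by show (1 : G) * n * (1 : G)⁻¹ = n; group)
      mul_smul := fun r s n => Subtype.ext (by
        show ((r * s : R) : G) * n * ((r * s : R) : G)⁻¹ = (r : G) * ((s : G) * n * (s : G)⁻¹) * (r : G)⁻¹
        rw [Subgroup.coe_mul]; group) }
  have hfix : MulAction.fixedPoints R N = {1} := by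
    ext n
    simp only [MulAction.mem_fixedPoints, Set.mem_singleton_iff]
    refine ⟨fun h => Subtype.ext ?_, fun h r => ?_⟩
    · have : (n : G) ∈ C := by
        refine ⟨n.2, mem_centralizer_iff.2 fun r hr => ?_⟩
        have := congrArg Subtype.val (h ⟨r, hr⟩)
        exact mul_inv_eq_iff_eq_mul.1 this
      rw [hC, mem_bot] at this
      exact this
    · subst h
      exact Subtype.ext (show (r : G) * (1 : G) * (r : G)⁻¹ = 1 by group)
  have hmod := hRp.card_modEq_card_fixedPoints N
  rw [hfix] at hmod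
  rw [show Nat.card ({1} : Set N) = 1 from by simp] at hmod
  have hpN : ¬ p ∣ Nat.card N := by
    intro h
    have : Nat.card N % p = 1 % p := hmod
    rw [Nat.mod_eq_zero_of_dvd h, Nat.one_mod_eq_one.2 (Nat.Prime.one_lt Fact.out).ne'] at this
    omega
  have hcop : (Nat.card R).Coprime (Nat.card N) := by
    obtain ⟨n, hn⟩ := IsPGroup.iff_card.1 hRp
    rw [hn]
    exact Nat.Coprime.pow_left _ ((Fact.out : p.Prime).coprime_iff_not_dvd.2 hpN)
  obtain ⟨q, hq, hqN⟩ := Nat.exists_prime_and_dvd (n := Nat.card N) (by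
    rw [Ne, Subgroup.card_eq_one]; exact hne)
  have := Fact.mk hq
  obtain ⟨P, hPn⟩ := CfsgLib.Coprime.exists_invariant_sylow (hnormN R) hcop (Or.inl hRsol) q
  set P' := (P : Subgroup N).map N.subtype with hP'
  -- it is the only invariant one
  have hH : H ≤ normalizer (P' : Set G) := by
    intro h hh
    rw [CfsgLib.Coprime.mem_normalizer_iff_map_conj]
    have hle : P'.map (MulAut.conj h).toMonoidHom ≤ N :=
      CfsgLib.Coprime.map_subtype_le_normalizer_of_conj (map_subtype_le _) (hnormN H) hh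
    let T : Sylow q N := Sylow.ofCard ((P'.map (MulAut.conj h).toMonoidHom).subgroupOf N) (by
      rw [CfsgLib.Coprime.card_subgroupOf hle, CfsgLib.Coprime.card_map_conj, hP',
        card_map_of_injective N.subtype_injective]
      exact P.card_eq_multiplicity)
    have hT : (T : Subgroup N).map N.subtype = P'.map (MulAut.conj h).toMonoidHom := by
      show ((P'.map (MulAut.conj h).toMonoidHom).subgroupOf N).map N.subtype = _
      rw [subgroupOf_map_subtype, inf_eq_left.2 hle]
    have hTn : R ≤ normalizer (((T : Subgroup N).map N.subtype : Subgroup G) : Set G) := by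
      rw [hT]
      intro r hr
      rw [CfsgLib.Coprime.mem_normalizer_iff_map_conj, CfsgLib.Coprime.map_conj_conj]
      have h' : h⁻¹ * r * h ∈ R := (mem_normalizer_iff''.1 (hRn hh) r).1 hr
      have e := CfsgLib.Coprime.map_conj_of_mem_normalizer (hPn h')
      conv_rhs => rw [← e, CfsgLib.Coprime.map_conj_conj]
      congr 3
      group
    obtain ⟨c, hc, hce⟩ := CfsgLib.Coprime.exists_conj_invariant_sylow (hnormN R) hcop
      (Or.inl hRsol) P T hPn hTn
    rw [show N ⊓ centralizer (R : Set G) = ⊥ from hC, mem_bot] at hc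
    subst hc
    rw [← hT, ← hce, map_one]
    ext x; simp [hP']
  have hP'ne : P' ≠ ⊥ := by
    rw [hP', Ne, map_eq_bot_iff_of_injective _ N.subtype_injective]
    exact P.ne_bot_of_dvd_card hqN
  have hP'H : ¬ P' ≤ H := fun h => hP'ne (le_bot_iff.1 (hbot ▸ le_inf (map_subtype_le _) h))
  obtain ⟨x, hx, hxH⟩ := SetLike.not_le_iff_exists.1 hP'H
  refine hP'ne (hP.nosol P' (normalizer_eq_top_iff.1 (hP.eq_top_of_le hH (le_normalizer hx) hxH)) ?_)
  have := (P.2.map N.subtype).isNilpotent
  rw [hP']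
  infer_instance

/-- If every nontrivial normal subgroup contains a generating set of `H`, then `G` is simple. -/
theorem isSimple [Finite G] (h : ∀ N : Subgroup G, N.Normal → N ⊓ H ≠ ⊥ → H ≤ N)
    {p : ℕ} [Fact p.Prime] {R : Subgroup G} (hR : R ≠ ⊥) (hRH : R ≤ H)
    (hRn : H ≤ normalizer (R : Set G)) (hRp : IsPGroup p R) : IsSimpleGroup G := by
  have : Nontrivial G := by
    by_contra hn
    rw [not_nontrivial_iff_subsingleton] at hn
    exact hR (Subsingleton.elim _ _)
  refine ⟨fun N hN => or_iff_not_imp_left.2 fun hne => ?_⟩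
  have := hN
  have hle := h N hN (hP.inf_ne_bot hR hRH hRn hRp hne)
  rw [← hP.sup_eq_top hne, sup_eq_left.2 hle]

end Prim

end CfsgLib.Recog.SuborbitThree
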