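import Cfsg.Agent.Lib.Recog.SuborbitThree.TimesSplit
import Cfsg.Agent.Lib.Recog.SuborbitThree.TimesPSL
import Cfsg.Agent.Lib.Recog.SuborbitThree.SFourBase
import Cfsg.Agent.Lib.Recog.SuborbitThree.PSLFacts
import Cfsg.Agent.Lib.Recog.SymEight.Tools
import Cfsg.Agent.Lib.Comp.Subnormal
import Cfsg.Agent.S2060

/-!
# A stabiliser `Sym(4) × 2`: the subgroup of index two is `PSL(3, 3)`
-/

set_option autoImplicit false
set_option linter.unusedSectionVars false

namespace CfsgLib.Recog.SuborbitThree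

open Subgroup Equiv CfsgLib.Invol

universe u

theorem tZ_tV : (∃ π : Perm (Fin 4), π * tZ * π⁻¹ = tV) ∧ tZ * tV = tV * tZ ∧
    (∀ σ : Perm (Fin 4), σ = 1 ∨ σ = swap 0 1 * swap 2 3 ∨ σ = swap 0 2 * swap 1 3 ∨
      σ = swap 0 3 * swap 1 2 → σ * σ = 1) ∧
    (swap 0 1 * swap 1 2 : Perm (Fin 4)) ^ 3 = 1 ∧ (swap 0 1 * swap 1 2 : Perm (Fin 4)) ≠ 1 := by
  decide +kernel

variable {G : Type u} [Group G] [Finite G] {H : Subgroup G}

/-- A trivial centre of a subgroup of index two gives a trivial centralizer. -/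
theorem conj_ker_bot (hP : Prim H) {M : Subgroup G} [hM : M.Normal]
    (hM2 : M.index = 2) (hc : center M = ⊥) :
    (MulAut.conjNormal : G →* MulAut M).ker = ⊥ := by
  set f := (MulAut.conjNormal : G →* MulAut M)
  have hinf : f.ker ⊓ M = ⊥ := by
    refine eq_bot_iff.2 fun x hx => ?_
    have hxc : (⟨x, hx.2⟩ : M) ∈ center M := by
      refine mem_center_iff.2 fun y => Subtype.ext ?_
      have h := congrArg Subtype.val (DFunLike.congr_fun (MonoidHom.mem_ker.1 hx.1) y)
      simp only [f, MulAut.conjNormal_apply, MulAut.one_apply] at h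
      exact (mul_inv_eq_iff_eq_mul.1 h).symm
    rw [hc, mem_bot] at hxc
    exact mem_bot.2 (congrArg Subtype.val hxc)
  refine hP.nosol f.ker (MonoidHom.normal_ker f) (Group.isSolvable_of_comm fun a b => ?_)
  have hsq : ∀ a : f.ker, a * a = 1 := fun a => by
    have : (a : G) * a ∈ f.ker ⊓ M :=
      ⟨f.ker.mul_mem a.2 a.2, mul_self_mem_of_index_two hM2 (a : G)⟩
    rw [hinf, mem_bot] at this
    exact Subtype.ext this
  have hinv : ∀ a : f.ker, a⁻¹ = a := fun a => inv_eq_of_mul_eq_one_right (hsq a)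
  calc a * b = (a * b)⁻¹ := (hinv _).symm
    _ = b * a := by rw [mul_inv_rev, hinv, hinv]

theorem eq_one_of_odd_invol {A : Type*} [Group A] {x : A} (ho : Odd (orderOf x)) (h : x * x = 1) :
    x = 1 := by
  rcases (Nat.dvd_prime Nat.prime_two).1 (orderOf_dvd_of_pow_eq_one ((pow_two x).trans h)) with e | e
  · exact orderOf_eq_one_iff.1 e
  · rw [e] at ho
    exact absurd ho (by decide)

/-- A subgroup inverted twice. -/
theorem commute_of_inverts {w v x : G} (hw : w * x * w = x⁻¹) (hv : v * w * x * (v * w) = x⁻¹)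
    (hvw : Commute v w) (hvv : v * v = 1) : Commute v x := by
  have h : v * x⁻¹ * v = x⁻¹ := by
    calc v * x⁻¹ * v = v * (w * x * w) * v := by rw [hw]
      _ = v * w * x * (w * v) := by group
      _ = x⁻¹ := by rw [← hvw.eq, hv]
  refine Commute.inv_right_iff.1 (?_ : Commute v x⁻¹)
  calc v * x⁻¹ = v * x⁻¹ * (v * v) := by rw [hvv, mul_one]
    _ = v * x⁻¹ * v * v := by group
    _ = x⁻¹ * v := by rw [h]

namespace TFrame

variable (F : TFrame H) {M : Subgroup G} (hM : M.Normal) (hM2 : M.index = 2) (hwM : F.w ∉ M)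
include hM hM2 hwM

/-- No element of odd order centralising `z` is fixed by a conjugate of `w` centralising `z`. -/
theorem no_fixed {r k : G} (hr : r ∈ M) (ho : Odd (orderOf r)) (hz : Commute r (F.φ tZ))
    (hzt : Commute (F.φ tZ) (k * F.w * k⁻¹)) (hrt : Commute r (k * F.w * k⁻¹)) : r = 1 := by
  have key : ∀ y ∈ M, Commute y (k * F.w * k⁻¹) → ∃ σ, F.φ σ = k⁻¹ * y * k := by
    intro y hy hc
    refine F.mem_range_of_mem hM hM2 hwM ?_ (F.mem_H_iff.2 ?_)
    · have := hM.conj_mem _ hy k⁻¹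
      rwa [inv_inv] at this
    · calc k⁻¹ * y * k * F.w = k⁻¹ * (y * (k * F.w * k⁻¹)) * k := by group
        _ = F.w * (k⁻¹ * y * k) := by rw [hc.eq]; group
  obtain ⟨ρ, hρ⟩ := key r hr hrt
  obtain ⟨τ, hτ⟩ := key _ (F.φ_mem_M hM hM2 hwM tZ) hzt
  obtain ⟨-, -, -, -, hZD, hZ1, -, -, -, -, -, -, hZZ, -⟩ := model_facts
  have hτ2 : τ * τ = 1 := F.inj (by
    rw [map_mul, hτ, map_one, show k⁻¹ * F.φ tZ * k * (k⁻¹ * F.φ tZ * k) =
      k⁻¹ * (F.φ tZ * F.φ tZ) * k by group, ← map_mul, hZZ, map_one, mul_one, inv_mul_cancel])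
  have hτ1 : τ ≠ 1 := fun e => by
    rw [e, map_one] at hτ
    refine hZ1 (F.inj ?_)
    rw [map_one]
    calc F.φ tZ = k * (k⁻¹ * F.φ tZ * k) * k⁻¹ := by group
      _ = 1 := by rw [← hτ]; group
  have hcomm : ρ * τ = τ * ρ := F.inj (by
    rw [map_mul, map_mul, hρ, hτ, show k⁻¹ * r * k * (k⁻¹ * F.φ tZ * k) = k⁻¹ * (r * F.φ tZ) * k by group,
      hz.eq]
    group)
  have hρo : Odd (orderOf ρ) := by
    have e : orderOf (k⁻¹ * r * k) = orderOf r := by
      simpa using orderOf_conj_eq k⁻¹ r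
    rwa [← orderOf_injective F.φ F.inj ρ, hρ, e]
  have hρ3 : ρ * ρ * ρ = 1 := by
    have hd : orderOf ρ ∣ 24 := by
      have := orderOf_dvd_natCard ρ
      rwa [Nat.card_perm, Nat.card_fin] at this
    have h3 : orderOf ρ ∣ 3 :=
      (Nat.Coprime.pow_right 3 hρo.coprime_two_right).dvd_of_dvd_mul_left
        (show orderOf ρ ∣ 2 ^ 3 * 3 from hd)
    rw [← pow_two, ← pow_succ]
    exact orderOf_dvd_iff_pow_eq_one.1 h3
  have hρ1 := (odd_commute ρ hρ3 τ hτ2 hcomm).resolve_left hτ1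
  rw [hρ1, map_one] at hρ
  calc r = k * (k⁻¹ * r * k) * k⁻¹ := by group
    _ = 1 := by rw [← hρ]; group

variable (S : SFour M) (hS : ∀ σ, (S.φ σ : G) = F.φ σ)
include hS

/-- An invariant subgroup of odd order centralising `z` is trivial. -/
theorem odd_free (U : Subgroup G) (hUM : U ≤ M) (hUz : ∀ x ∈ U, Commute x (F.φ tZ))
    (ho : Odd (Nat.card U)) (hw : ∀ x ∈ U, F.w * x * F.w ∈ U)
    (hv : ∀ x ∈ U, F.φ tV * x * F.φ tV ∈ U) : U = ⊥ := by
  obtain ⟨⟨π, hπ⟩, hZV, hsq, -⟩ := tZ_tV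
  have hVV : F.φ tV * F.φ tV = 1 := by
    rw [← map_mul, show tV * tV = 1 by decide +kernel, map_one]
  have hord : ∀ x ∈ U, Odd (orderOf x) := fun x hx =>
    ho.of_dvd_nat (Subgroup.orderOf_dvd_natCard U hx)
  have hvw : Commute (F.φ tV) F.w := (F.w_comm tV).symm
  set t := F.φ tV * F.w with ht
  have htt : t * t = 1 := by rw [ht, F.mul_self_φw, map_mul, hVV]
  have hk : (F.φ π * F.g) * F.w * (F.φ π * F.g)⁻¹ = t := by
    rw [show F.φ π * F.g * F.w * (F.φ π * F.g)⁻¹ = F.φ π * (F.g * F.w * F.g⁻¹) * (F.φ π)⁻¹ by group,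
      F.g_w, mul_assoc, mul_assoc, ← mul_assoc (F.φ tZ), mul_assoc (F.φ tZ),
      (F.w_comm π).inv_right.eq, ← mul_assoc, ← mul_assoc, ← map_inv, ← map_mul, ← map_mul, hπ, ht]
  have hzv : Commute (F.φ tZ) (F.φ tV) := (Commute.map hZV F.φ)
  have hzt : Commute (F.φ tZ) t := hzv.mul_right (F.w_comm tZ).symm
  have i1 := CfsgLib.Recog.SymEight.inverts_of_no_fixed F.w_sq hw fun x hx hc =>
    F.no_fixed hM hM2 hwM (k := 1) (hUM hx) (hord x hx) (hUz x hx)
      (by simpa using (F.w_comm tZ).symm) (by simpa using hc.symm)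
  have i2 := CfsgLib.Recog.SymEight.inverts_of_no_fixed htt (R := U) (fun x hx => by
      rw [ht, show F.φ tV * F.w * x * (F.φ tV * F.w) = F.φ tV * (F.w * x * F.w) * (F.w⁻¹ * F.φ tV * F.w)
        by group, mul_assoc F.w⁻¹, hvw.eq, inv_mul_cancel_left]
      exact hv _ (hw x hx))
    fun x hx hc => F.no_fixed hM hM2 hwM (k := F.φ π * F.g) (hUM hx) (hord x hx) (hUz x hx)
      (by rw [hk]; exact hzt) (by rw [hk]; exact hc.symm)
  refine eq_bot_iff.2 fun x hx => mem_bot.2 (eq_one_of_odd_invol (hord x hx) ?_)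
  have hcv : Commute (F.φ tV) x := commute_of_inverts (i1 x hx) (i2 x hx) hvw hVV
  obtain ⟨σ, hσ, e⟩ := S.mem_V_of_commute (x := ⟨x, hUM hx⟩)
    (Subtype.ext (by simp only [Subgroup.coe_mul, hS]; exact (hUz x hx).eq))
    (Subtype.ext (by simp only [Subgroup.coe_mul, hS]; exact hcv.eq.symm))
  have e' : F.φ σ = x := (hS σ).symm.trans (congrArg Subtype.val e)
  rw [← e', ← map_mul, hsq σ (mem_vFour.1 hσ), map_one]

/-- The odd core of the centralizer of `z` in `M` is trivial. -/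
theorem centralizer_odd_bot (X : Subgroup M) (hX : X ≤ centralizer {S.z})
    (hn : centralizer {S.z} ≤ normalizer (X : Set M)) (ho : Odd (Nat.card X)) : X = ⊥ := by
  set X₀ := X.map M.subtype with hX₀
  set X₁ := X₀.map (MulAut.conj F.w).toMonoidHom with hX₁
  have hz : (S.z : G) = F.φ tZ := hS _
  have hwz : Commute F.w (F.φ tZ) := F.w_comm tZ
  have h0 : ∀ x ∈ X₀, x ∈ M ∧ Commute x (F.φ tZ) := by
    rintro _ ⟨x, hx, rfl⟩
    refine ⟨x.2, ?_⟩
    have h := congrArg Subtype.val (mem_centralizer_singleton_iff.1 (hX hx))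
    simp only [Subgroup.coe_mul, hz] at h
    exact h
  have hn0 : ∀ c ∈ M, Commute c (F.φ tZ) → c ∈ normalizer (X₀ : Set G) := fun c hc hcz =>
    le_normalizer_map M.subtype (mem_map_of_mem _
      (hn (mem_centralizer_singleton_iff.2 (show (⟨c, hc⟩ : M) * S.z = S.z * ⟨c, hc⟩ from
        Subtype.ext (by simp only [Subgroup.coe_mul, hz]; exact hcz.eq)))))
  have hn1 : ∀ c ∈ M, Commute c (F.φ tZ) → c ∈ normalizer (X₁ : Set G) := by
    intro c hc hcz
    have hc' : F.w⁻¹ * c * F.w ∈ M := by simpa using hM.conj_mem _ hc F.w⁻¹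
    have e := CfsgLib.Coprime.map_conj_of_mem_normalizer
      (hn0 _ hc' ((hwz.inv_left.mul_left hcz).mul_left hwz))
    rw [CfsgLib.Coprime.mem_normalizer_iff_map_conj, hX₁, CfsgLib.Coprime.map_conj_conj]
    conv_rhs => rw [← e, CfsgLib.Coprime.map_conj_conj]
    congr 3
    group
  have h1 : ∀ x ∈ X₁, x ∈ M ∧ Commute x (F.φ tZ) := by
    rintro _ ⟨x, hx, rfl⟩
    refine ⟨hM.conj_mem _ (h0 x hx).1 _, ?_⟩
    exact (hwz.mul_left (h0 x hx).2).mul_left hwz.inv_left
  have h10 : X₁ ≤ normalizer (X₀ : Set G) := fun x hx => hn0 x (h1 x hx).1 (h1 x hx).2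
  have hle : X₀ ⊔ X₁ ≤ M ⊓ centralizer ({F.φ tZ} : Set G) :=
    sup_le (fun x hx => ⟨(h0 x hx).1, mem_centralizer_singleton_iff.2 (h0 x hx).2.eq⟩)
      fun x hx => ⟨(h1 x hx).1, mem_centralizer_singleton_iff.2 (h1 x hx).2.eq⟩
  have hodd : Odd (Nat.card (X₀ ⊔ X₁ : Subgroup G)) := by
    have h : Odd (Nat.card X₀) := by rwa [hX₀, card_map_of_injective M.subtype_injective]
    refine (h.mul ?_).of_dvd_nat (CfsgLib.Comp.card_sup_dvd_mul h10)
    rwa [hX₁, CfsgLib.Coprime.card_map_conj]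
  have hww : X₁.map (MulAut.conj F.w).toMonoidHom = X₀ := by
    rw [hX₁, CfsgLib.Coprime.map_conj_conj, F.w_sq]
    exact CfsgLib.Coprime.map_conj_of_mem_normalizer (one_mem _)
  have hw : ∀ x ∈ X₀ ⊔ X₁, F.w * x * F.w ∈ X₀ ⊔ X₁ := fun x hx => by
    have := mem_map_of_mem (MulAut.conj F.w).toMonoidHom hx
    rw [Subgroup.map_sup, ← hX₁, hww, sup_comm] at this
    simpa [F.w_inv] using this
  have hv : ∀ x ∈ X₀ ⊔ X₁, F.φ tV * x * F.φ tV ∈ X₀ ⊔ X₁ := fun x hx => by
    have hc := F.φ_mem_M hM hM2 hwM tV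
    have hcz : Commute (F.φ tV) (F.φ tZ) := (Commute.map tZ_tV.2.1 F.φ).symm
    have := mem_map_of_mem (MulAut.conj (F.φ tV)).toMonoidHom hx
    rw [Subgroup.map_sup, CfsgLib.Coprime.map_conj_of_mem_normalizer (hn0 _ hc hcz),
      CfsgLib.Coprime.map_conj_of_mem_normalizer (hn1 _ hc hcz)] at this
    have hinv : (F.φ tV)⁻¹ = F.φ tV := by
      rw [← map_inv, show tV⁻¹ = tV by decide +kernel]
    simpa [hinv] using this
  have hb := F.odd_free hM hM2 hwM S hS _ (fun x hx => (hle hx).1)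
    (fun x hx => mem_centralizer_singleton_iff.1 (hle hx).2) hodd hw hv
  exact (map_eq_bot_iff_of_injective _ M.subtype_injective).1 (le_bot_iff.1 (hb ▸ le_sup_left))

/-- `M` is not a two-dimensional linear group. -/
theorem not_psl_two (hns : ¬ Group.IsSolvable M) (h16 : 16 ∣ Nat.card (centralizer {S.z}))
    {K : Type} [Field K] [Fintype K] (hodd : Odd (Fintype.card K))
    (e : M ≃* Matrix.ProjectiveSpecialLinearGroup (Fin 2) K) : False := by
  classical
  have := Fact.mk Nat.prime_two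
  have h5 := five_le_card hns hodd e
  have hez : orderOf (e S.z) = 2 := (MulEquiv.orderOf_eq e S.z).trans S.z_order
  have hcard : ∀ x : M, Nat.card (centralizer ({e x} : Set _)) = Nat.card (centralizer ({x} : Set M)) := by
    intro x
    rw [← card_map_of_injective (K := centralizer ({x} : Set M)) (f := e.toMonoidHom) e.injective]
    congr 2
    ext y
    obtain ⟨y, rfl⟩ := e.surjective y
    rw [show e y = e.toMonoidHom y from rfl, mem_map_iff_mem e.injective,
      mem_centralizer_singleton_iff, mem_centralizer_singleton_iff]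
    exact ⟨fun h => e.injective (by simpa using h), fun h => by simp [← map_mul, h]⟩
  -- the centralizer of `z` is a two-group
  obtain ⟨T, hT, hTm⟩ := exists_cyclic_odd_psl (e S.z) (by
    rw [hez]
    exact fun h => Nat.not_even_iff_odd.2 hodd (even_iff_two_dvd.2 h))
  have := hT
  let R : Subgroup M :=
    { carrier := {y | y ∈ centralizer ({S.z} : Set M) ∧ Odd (orderOf y)}
      one_mem' := ⟨one_mem _, by simp⟩
      mul_mem' := fun {a b} ha hb => by
        refine ⟨mul_mem ha.1 hb.1, ?_⟩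
        have hT' : ∀ y, y ∈ centralizer ({S.z} : Set M) → Odd (orderOf y) → e y ∈ T := fun y hy ho =>
          hTm _ (by
            show e y * e S.z = e S.z * e y
            rw [← map_mul, ← map_mul, mem_centralizer_singleton_iff.1 hy])
            (by rwa [MulEquiv.orderOf_eq])
        have hab : Commute a b := e.injective (by
          rw [map_mul, map_mul]
          exact congrArg Subtype.val
            ((IsCyclic.commGroup (α := T)).mul_comm ⟨e a, hT' a ha.1 ha.2⟩ ⟨e b, hT' b hb.1 hb.2⟩))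
        exact (ha.2.mul hb.2).of_dvd_nat (hab.orderOf_mul_dvd_mul_orderOf)
      inv_mem' := fun {a} ha => ⟨inv_mem ha.1, by rw [orderOf_inv]; exact ha.2⟩ }
  have hR : R = ⊥ := by
    refine F.centralizer_odd_bot hM hM2 hwM S hS R (fun y hy => hy.1) (fun c hc => ?_) ?_
    · refine mem_normalizer_of_forall fun y hy => ⟨mul_mem (mul_mem hc hy.1) (inv_mem hc), ?_⟩
      rw [orderOf_conj_eq]
      exact hy.2
    · by_contra h
      obtain ⟨y, hy⟩ := exists_prime_orderOf_dvd_card' 2 (even_iff_two_dvd.1 (Nat.not_odd_iff_even.1 h))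
      have h2 : Odd (orderOf (y : M)) := y.2.2
      rw [Subgroup.orderOf_coe, hy] at h2
      exact absurd h2 (by decide)
  have hpg : IsPGroup 2 (centralizer ({S.z} : Set M)) := fun y => by
    obtain ⟨a, b, hb, hab⟩ := Nat.exists_eq_two_pow_mul_odd (orderOf_pos y).ne'
    refine ⟨a, ?_⟩
    have : ((y ^ 2 ^ a : centralizer ({S.z} : Set M)) : M) ∈ R := by
      refine ⟨(y ^ 2 ^ a).2, ?_⟩
      rw [Subgroup.orderOf_coe, orderOf_pow_of_dvd (by positivity) (hab ▸ dvd_mul_right _ _), hab,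
        Nat.mul_div_cancel_left _ (by positivity)]
      exact hb
    rw [hR, mem_bot] at this
    exact Subtype.ext this
  -- so it has order `16` and `q = 17`
  obtain ⟨P, hP⟩ := F.exists_sylow
  obtain ⟨P', hP'⟩ := (hpg.map M.subtype).exists_le_sylow
  have hP'32 : Nat.card P' = 32 := by
    rw [P'.card_eq_multiplicity, ← P.card_eq_multiplicity, hP, F.card_S]
  have h32 : Nat.card (centralizer ({S.z} : Set M)) = 16 := by
    have hd := card_dvd_of_le hP'
    rw [hP'32, card_map_of_injective M.subtype_injective] at hd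
    obtain ⟨k, hk⟩ := h16
    have hle := Nat.le_of_dvd (by norm_num) hd
    have hpos : 0 < Nat.card (centralizer ({S.z} : Set M)) := Nat.card_pos
    by_contra hne
    have he : (centralizer ({S.z} : Set M)).map M.subtype = P' := eq_of_le_of_card_ge hP' (by
      rw [card_map_of_injective M.subtype_injective, hP'32]; omega)
    obtain ⟨x, hx⟩ := MulAction.exists_smul_eq G P' P
    have hwS : F.w ∈ (P : Subgroup G) := hP ▸ F.P_le_S F.w_mem_P
    rw [← hx, Sylow.coe_subgroup_smul, ← he] at hwS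
    obtain ⟨y, hy, hxy⟩ := hwS
    refine hwM (hxy ▸ ?_)
    exact hM.conj_mem _ (map_subtype_le _ hy) x
  have h17 : Fintype.card K = 17 := by
    rcases card_centralizer_involution_psl hodd (by omega) hez with h | h <;> rw [hcard, h32] at h
    · omega
    · exfalso
      have h15 : Fintype.card K = 15 := by omega
      obtain ⟨p, hp⟩ := CharP.exists K
      obtain ⟨n, hprime, hn⟩ := FiniteField.card K p
      rw [h15] at hn
      have h3 := (Nat.prime_dvd_prime_iff_eq Nat.prime_three hprime).1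
        (Nat.prime_three.dvd_of_dvd_pow (hn ▸ (by norm_num : (3 : ℕ) ∣ 15)))
      have h5' := (Nat.prime_dvd_prime_iff_eq Nat.prime_five hprime).1
        (Nat.prime_five.dvd_of_dvd_pow (hn ▸ (by norm_num : (5 : ℕ) ∣ 15)))
      omega
  -- an element of order nine centralising an element of order three
  obtain ⟨-, -, -, hc3, hc1⟩ := tZ_tV
  set r : M := S.φ (swap 0 1 * swap 1 2) with hr
  have hr3 : orderOf (e r) = 3 := by
    rw [MulEquiv.orderOf_eq, hr, orderOf_injective S.φ S.inj]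
    have := Fact.mk Nat.prime_three
    exact orderOf_eq_prime hc3 hc1
  have hC9 : Nat.card (centralizer ({e r} : Set (Matrix.ProjectiveSpecialLinearGroup (Fin 2) K))) = 9 := by
    obtain ⟨E, _, _, f, hE, hQC⟩ := CfsgLib.Geom.Moebius.exists_quadExt K
    rcases CfsgLib.Geom.Moebius.card_centralizer_cases f hE hQC (by omega) (e r)
      (fun h => by rw [h, orderOf_one] at hr3; omega) with h | ⟨k, hk, h3, -, h⟩
    · have := Subgroup.orderOf_dvd_natCard (s := centralizer ({e r} : Set _)) (x := e r)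
        (mem_centralizer_singleton_iff.2 rfl)
      rw [h, hr3, h17] at this
      omega
    · rw [h17] at hk
      rw [hr3] at h3
      rw [h fun h2 => by
        have := orderOf_dvd_of_pow_eq_one ((pow_two (e r)).trans h2)
        rw [hr3] at this
        omega]
      norm_num at hk
      omega
  obtain ⟨T', hT', hTm'⟩ := exists_cyclic_odd_psl (e r) (by rw [hr3, h17]; norm_num)
  have := hT'
  have hle : centralizer ({e r} : Set _) ≤ T' := fun y hy => hTm' y
    (mem_centralizer_singleton_iff.1 hy)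
    ((by decide : Odd 9).of_dvd_nat (hC9 ▸ Subgroup.orderOf_dvd_natCard _ hy))
  have hcyc : IsCyclic (centralizer ({e r} : Set (Matrix.ProjectiveSpecialLinearGroup (Fin 2) K))) :=
    isCyclic_of_injective (inclusion hle) (inclusion_injective hle)
  obtain ⟨⟨a', ha'⟩, hao⟩ := hcyc.exists_ofOrder_eq_natCard
  rw [Subgroup.orderOf_mk, hC9] at hao
  have hgen : zpowers a' = centralizer ({e r} : Set _) := eq_of_le_of_card_ge (zpowers_le.2 ha')
    (by rw [Nat.card_zpowers, hao, hC9])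
  obtain ⟨a, rfl⟩ := e.surjective a'
  rw [MulEquiv.orderOf_eq] at hao
  have hmem : ∀ y : M, Commute y r → ∃ j : ℕ, (a : G) ^ j = y := by
    intro y hy
    obtain ⟨j, hj⟩ := (Submonoid.mem_powers_iff _ _).1 (mem_powers_iff_mem_zpowers.2
      (hgen.symm ▸ mem_centralizer_singleton_iff.2 (hy.map e).eq : e y ∈ zpowers (e a)))
    refine ⟨j, ?_⟩
    rw [← Subgroup.coe_pow]
    exact congrArg Subtype.val (e.injective (by rw [map_pow, hj]))
  have har : Commute a r := by
    refine e.injective ?_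
    rw [map_mul, map_mul]
    exact mem_centralizer_singleton_iff.1 ha'
  obtain ⟨i, hi⟩ := hmem r (Commute.refl r)
  have hrG : (r : G) = F.φ (swap 0 1 * swap 1 2) := hS _
  have hwr : Commute F.w (r : G) := hrG ▸ F.w_comm _
  obtain ⟨j, hj⟩ := hmem ⟨F.w * a * F.w⁻¹, hM.conj_mem _ a.2 _⟩ (Subtype.ext (by
    exact ((hwr.mul_left (congrArg Subtype.val har.eq)).mul_left hwr.inv_left).eq))
  replace hj : F.w * a * F.w⁻¹ = (a : G) ^ j := hj.symm
  have haG : orderOf (a : G) = 9 := by rw [Subgroup.orderOf_coe, hao]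
  have hij : (a : G) ^ (j * i) = (a : G) ^ i := by
    rw [pow_mul, ← hj, conj_pow, hi, hwr.eq, mul_inv_cancel_right]
  have hjj : (a : G) ^ (j * j) = (a : G) ^ 1 := by
    rw [pow_mul, ← hj, conj_pow, ← hj, show F.w * (F.w * a * F.w⁻¹) * F.w⁻¹ =
      (F.w * F.w) * a * (F.w * F.w)⁻¹ by group, F.w_sq, one_mul, inv_one, mul_one, pow_one]
  rw [pow_eq_pow_iff_modEq, haG, Nat.ModEq] at hij hjj
  have hi0 : i % 9 ≠ 0 := fun h => by
    have h' := pow_mod_orderOf (a : G) i
    rw [haG, h, pow_zero, hi, hrG] at h'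
    exact hc1 (F.inj (h'.symm.trans (map_one F.φ).symm))
  have key : ∀ i < 9, ∀ j < 9, i ≠ 0 → j * i % 9 = i → j * j % 9 = 1 → j = 1 := by decide
  have hj1 := key _ (Nat.mod_lt i (by norm_num)) _ (Nat.mod_lt j (by norm_num)) hi0
    (by rw [← Nat.mul_mod, hij]) (by rw [← Nat.mul_mod, hjj])
  have haw : Commute (a : G) F.w := by
    have h' := pow_mod_orderOf (a : G) j
    rw [haG, hj1, pow_one, ← hj] at h'
    exact (mul_inv_eq_iff_eq_mul.1 h'.symm).symm
  obtain ⟨σ, hσ⟩ := F.mem_range_of_mem hM hM2 hwM a.2 (F.mem_H_iff.2 haw.eq)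
  have hd := orderOf_dvd_natCard σ
  rw [← orderOf_injective F.φ F.inj σ, hσ, haG, Nat.card_perm, Nat.card_fin] at hd
  norm_num [Nat.factorial] at hd

end TFrame

/-- The case of a stabiliser `Sym(4) × 2`, given the classification inside `M`. -/
theorem case_times_of (hP : Prim H) (e : H ≃* Equiv.Perm (Fin 4) × Multiplicative (ZMod 2))
    (hmain : ∀ (M : Subgroup G) (S : SFour M),
      (∀ X : Subgroup M, X ≤ centralizer {S.z} → centralizer {S.z} ≤ normalizer (X : Set M) →
        Odd (Nat.card X) → X = ⊥) →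
      (16 ∣ Nat.card (centralizer {S.z}) ∧ ∃ (K : Type) (_ : Field K) (_ : Fintype K),
          Odd (Fintype.card K) ∧ Nonempty (M ≃* Matrix.ProjectiveSpecialLinearGroup (Fin 2) K)) ∨
        Nonempty (M ≃* Matrix.ProjectiveSpecialLinearGroup (Fin 3) (ZMod 3)) ∨
        Cfsg.Spor.IsoM11 M) :
    ∃ N : Subgroup G, N.Normal ∧ N.index = 2 ∧ Subgroup.centralizer (N : Set G) = ⊥ ∧
      Nonempty (N ≃* Matrix.ProjectiveSpecialLinearGroup (Fin 3) (ZMod 3)) := by
  obtain ⟨F⟩ := exists_timesFrame hP e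
  obtain ⟨M, hM, hM2, hwM⟩ := F.exists_index_two
  obtain ⟨S, hS⟩ := F.exists_sFour_M hM hM2 hwM hP
  have hc : center M = ⊥ :=
    F.sol_bot hM hM2 hwM hP (Group.isSolvable_of_comm fun a b => Subtype.ext (mem_center_iff.1 b.2 a))
  have hker := conj_ker_bot hP hM2 hc
  rcases hmain M S (F.centralizer_odd_bot hM hM2 hwM S hS) with
    ⟨h16, K, _, _, hodd, ⟨e'⟩⟩ | h | ⟨⟨e'⟩⟩
  · refine (F.not_psl_two hM hM2 hwM S hS (fun hs => ?_) h16 hodd e').elim
    have : (⊤ : Subgroup M) = ⊥ := F.sol_bot hM hM2 hwM hP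
      (Group.isSolvable_of_surjective (f := (Subgroup.topEquiv (G := M)).symm.toMonoidHom)
        (MulEquiv.surjective _))
    have hz : S.z ∈ (⊥ : Subgroup M) := this ▸ mem_top _
    exact CfsgLib.Invol.invol_ne_one S.z_order (mem_bot.1 hz)
  · refine ⟨M, hM, hM2, eq_bot_iff.2 fun x hx => ?_, h⟩
    rw [← hker, MonoidHom.mem_ker]
    refine MulEquiv.ext fun y => Subtype.ext ?_
    rw [MulAut.conjNormal_apply, MulAut.one_apply, ← mem_centralizer_iff.1 hx y y.2, mul_inv_cancel_right]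
  · exfalso
    have hfin : Finite (MulAut Cfsg.Spor.M11) := by
      have : Finite Cfsg.Spor.M11 := Finite.of_equiv M e'.toEquiv
      exact Finite.of_injective (fun a : MulAut Cfsg.Spor.M11 => (a : Cfsg.Spor.M11 → Cfsg.Spor.M11))
        DFunLike.coe_injective
    have h1 : Nat.card G ≤ Nat.card (MulAut Cfsg.Spor.M11) :=
      Nat.card_le_card_of_injective (fun x => MulAut.congr e' (MulAut.conjNormal x))
        ((MulAut.congr e').injective.comp ((MonoidHom.ker_eq_bot_iff _).1 hker))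
    have h2 : Nat.card (MulAut Cfsg.Spor.M11) ≤ Nat.card M := by
      have : Finite Cfsg.Spor.M11 := Finite.of_equiv M e'.toEquiv
      rw [Nat.card_congr e'.toEquiv, card_eq_card_quotient_mul_card_subgroup (Cfsg.Inn Cfsg.Spor.M11),
        Cfsg.Agent.S2060.result, one_mul]
      exact Nat.card_le_card_of_surjective _
        (MonoidHom.rangeRestrict_surjective (MulAut.conj : Cfsg.Spor.M11 →* MulAut Cfsg.Spor.M11))
    have h3 := M.index_mul_card
    rw [hM2] at h3
    have : 0 < Nat.card M := Nat.card_pos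
    omega

end CfsgLib.Recog.SuborbitThree
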