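import Cfsg.Agent.Lib.Recog.SuborbitThree.SFour
import Cfsg.Agent.Lib.Coprime.Sylow

/-!
# A stabiliser `Sym(4) × 2`: frames and the Sylow two-subgroup

`w` is the central involution, `D` a dihedral group of order eight of the complement and
`P = D × ⟨w⟩`.  An element `g` outside the stabiliser normalises `P`; it fixes `z`, maps `w` to `w z`
and exchanges the two fours of `D`.
-/

set_option autoImplicit false
set_option linter.unusedSectionVars false

namespace CfsgLib.Recog.SuborbitThree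

open Subgroup Equiv

universe u

def tZ : Perm (Fin 4) := swap 0 1 * swap 2 3
def tV : Perm (Fin 4) := swap 0 2 * swap 1 3
def tC : Perm (Fin 4) := swap 0 1
def tR : Perm (Fin 4) := swap 0 2 * swap 1 3 * swap 0 1

/-- Membership of the dihedral group, decidably. -/
abbrev InD (σ : Perm (Fin 4)) : Prop := σ * tZ = tZ * σ

/-- Words in the generators of the dihedral group. -/
def wd (a b : Perm (Fin 4)) (i j k : Fin 2) : Perm (Fin 4) :=
  a ^ i.val * b ^ j.val * tZ ^ k.val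

theorem word_exists : ∀ σ : Perm (Fin 4), InD σ → ∃ i j k : Fin 2, σ = wd tV tC i j k := by
  decide +kernel

theorem inD_wd : ∀ i j k : Fin 2, InD (wd tV tC i j k) := by decide +kernel

theorem sq_inD : ∀ σ : Perm (Fin 4), InD σ → σ * σ = 1 ∨ σ * σ = tZ := by decide +kernel

theorem center_inD : ∀ σ : Perm (Fin 4), InD σ → σ * tV = tV * σ → σ * tC = tC * σ →
    σ = 1 ∨ σ = tZ := by decide +kernel

theorem invol_inD : ∀ σ : Perm (Fin 4), InD σ → σ * σ = 1 →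
    σ = 1 ∨ σ = tZ ∨ σ = tV ∨ σ = tV * tZ ∨ σ = tC ∨ σ = tC * tZ := by decide +kernel

theorem model_facts : tR * tR = tZ ∧ InD tR ∧ InD tV ∧ InD tC ∧ InD tZ ∧ tZ ≠ 1 ∧ tV ≠ 1 ∧ tV ≠ tZ ∧
    tC * tV * tC⁻¹ = tV * tZ ∧ tV * tC ≠ tC * tV ∧ tV * tV = 1 ∧ tC * tC = 1 ∧ tZ * tZ = 1 ∧
    Perm.sign tV = 1 ∧ Perm.sign tZ = 1 ∧ Perm.sign tC = -1 := by decide +kernel

theorem odd_commute : ∀ σ : Perm (Fin 4), σ * σ * σ = 1 → ∀ τ : Perm (Fin 4), τ * τ = 1 → σ * τ = τ * σ → τ = 1 ∨ σ = 1 := by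
  decide +kernel

/-- The image of the dihedral group under the outer element, given the square. -/
abbrev img (δ : Perm (Fin 4)) (i j k : Fin 2) : Perm (Fin 4) := wd tC (δ * tV * δ⁻¹) i j k

theorem no_twist : ∀ i j k : Fin 2,
    img (wd tV tC i j k) i j k * tZ ≠ wd tV tC i j k := by decide +kernel

set_option maxRecDepth 10000 in
theorem one_coset : ∀ a b c i j k i' j' k' : Fin 2,
    img (wd tV tC a b c) a b c = wd tV tC a b c →
    img (wd tV tC a b c) i j k * wd tV tC a b c * wd tV tC i j k = 1 →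
    tZ * (img (wd tV tC a b c) i' j' k' * wd tV tC a b c * wd tV tC i' j' k') ≠ 1 := by decide +kernel

set_option maxRecDepth 10000 in
theorem fixed_invol : ∀ a b c s t u i j k : Fin 2, ∀ e : Fin 2,
    wd tV tC i j k * wd tV tC i j k = 1 →
    (∀ i' j' k' : Fin 2, wd tV tC i' j' k' =
        wd tV tC s t u * wd tV tC i j k * (wd tV tC s t u)⁻¹ →
      img (wd tV tC a b c) i' j' k' * tZ ^ e.val = wd tV tC i j k) →
    (wd tV tC i j k = 1 ∨ wd tV tC i j k = tZ) ∧ e = 0 := by decide +kernel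

variable {G : Type u} [Group G]

theorem sq_one_pow {w : G} (h : w * w = 1) (e : ℕ) : w ^ e = 1 ∨ w ^ e = w := by
  induction e with
  | zero => exact Or.inl (pow_zero w)
  | succ n ih => rcases ih with h' | h' <;> rw [pow_succ, h'] <;> simp [h]

/-- A subgroup with an element normalising it whose square lies in it. -/
def ext2 (D : Subgroup G) (a : G) (hn : a ∈ normalizer (D : Set G)) (hs : a * a ∈ D) : Subgroup G where
  carrier := {y | y ∈ D ∨ a⁻¹ * y ∈ D}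
  one_mem' := Or.inl D.one_mem
  mul_mem' := by
    intro x y hx hy
    rcases hx with hx | hx <;> rcases hy with hy | hy
    · exact Or.inl (D.mul_mem hx hy)
    · refine Or.inr ?_
      have h := D.mul_mem ((mem_normalizer_iff''.1 hn x).1 hx) hy
      simpa [mul_assoc] using h
    · exact Or.inr (by simpa [mul_assoc] using D.mul_mem hx hy)
    · refine Or.inl ?_
      have h := D.mul_mem (D.mul_mem hs ((mem_normalizer_iff''.1 hn _).1 hx)) hy
      simpa [mul_assoc] using h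
  inv_mem' := by
    intro x hx
    rcases hx with hx | hx
    · exact Or.inl (D.inv_mem hx)
    · refine Or.inr ?_
      have h := (mem_normalizer_iff.1 hn _).1 (D.inv_mem hx)
      have h2 := D.mul_mem (D.inv_mem hs) h
      simpa [mul_assoc] using h2

theorem mem_ext2 {D : Subgroup G} {a : G} {hn : a ∈ normalizer (D : Set G)} {hs : a * a ∈ D} {y : G} :
    y ∈ ext2 D a hn hs ↔ y ∈ D ∨ a⁻¹ * y ∈ D := Iff.rfl

theorem le_ext2 {D : Subgroup G} {a : G} (hn : a ∈ normalizer (D : Set G)) (hs : a * a ∈ D) :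
    D ≤ ext2 D a hn hs := fun _ h => Or.inl h

theorem self_mem_ext2 {D : Subgroup G} {a : G} (hn : a ∈ normalizer (D : Set G)) (hs : a * a ∈ D) :
    a ∈ ext2 D a hn hs := Or.inr (by simp [D.one_mem])

theorem card_ext2 [Finite G] {D : Subgroup G} {a : G} (hn : a ∈ normalizer (D : Set G))
    (hs : a * a ∈ D) (ha : a ∉ D) : Nat.card (ext2 D a hn hs) = 2 * Nat.card D := by
  classical
  let f : D × Bool → ext2 D a hn hs := fun q =>
    if q.2 then ⟨a * q.1, Or.inr (by simp)⟩ else ⟨q.1, Or.inl q.1.2⟩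
  have hf : Function.Bijective f := by
    constructor
    · rintro ⟨x, b⟩ ⟨x', b'⟩ h
      have h' := congrArg Subtype.val h
      cases b <;> cases b' <;> simp [f] at h'
      · exact Prod.ext h' rfl
      · exact absurd (by simpa [h'] using D.mul_mem x.2 (D.inv_mem x'.2)) ha
      · exact absurd (by simpa [← h'] using D.mul_mem x'.2 (D.inv_mem x.2)) ha
      · exact Prod.ext h' rfl
    · rintro ⟨y, hy | hy⟩
      · exact ⟨(⟨y, hy⟩, false), rfl⟩
      · exact ⟨(⟨_, hy⟩, true), Subtype.ext (by simp [f])⟩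
  rw [← Nat.card_congr (Equiv.ofBijective f hf), Nat.card_prod, Nat.card_eq_fintype_card (α := Bool),
    Fintype.card_bool, mul_comm]

theorem mem_normalizer_of_forall [Finite G] {D : Subgroup G} {a : G}
    (h : ∀ x ∈ D, a * x * a⁻¹ ∈ D) : a ∈ normalizer (D : Set G) := by
  rw [CfsgLib.Coprime.mem_normalizer_iff_map_conj]
  refine Subgroup.eq_of_le_of_card_ge ?_ ?_
  · rintro _ ⟨x, hx, rfl⟩
    exact h x hx
  · rw [CfsgLib.Coprime.card_map_conj]

/-- The data of a stabiliser isomorphic to `Sym(4) × 2`. -/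
structure TBase (H : Subgroup G) where
  φ : Perm (Fin 4) →* G
  inj : Function.Injective φ
  w : G
  w_sq : w * w = 1
  w_comm : ∀ σ, Commute w (φ σ)
  w_notMem : ∀ σ, φ σ ≠ w
  mem_H : ∀ y, y ∈ H ↔ ∃ σ, y = φ σ ∨ y = φ σ * w
  cent : centralizer ({w} : Set G) = H

namespace TBase

variable {H : Subgroup G} (B : TBase H)

theorem w_inv : B.w⁻¹ = B.w := inv_eq_of_mul_eq_one_right B.w_sq

theorem w_ne_one : B.w ≠ 1 := fun h => B.w_notMem 1 (by rw [map_one, h])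

theorem mul_w_ne (σ τ : Perm (Fin 4)) : B.φ σ * B.w ≠ B.φ τ := fun h =>
  B.w_notMem (σ⁻¹ * τ) (by rw [map_mul, map_inv, ← h, inv_mul_cancel_left])

theorem φ_mem (σ : Perm (Fin 4)) : B.φ σ ∈ H := (B.mem_H _).2 ⟨σ, Or.inl rfl⟩

theorem w_mem : B.w ∈ H := (B.mem_H _).2 ⟨1, Or.inr (by rw [map_one, one_mul])⟩

theorem mem_H_iff {y : G} : y ∈ H ↔ y * B.w = B.w * y := by
  exact (SetLike.ext_iff.1 B.cent y).symm.trans mem_centralizer_singleton_iff

/-- The dihedral group of the complement. -/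
def D : Subgroup G := dFour.map B.φ

theorem mem_D {y : G} : y ∈ B.D ↔ ∃ σ, InD σ ∧ B.φ σ = y :=
  ⟨fun ⟨σ, h, e⟩ => ⟨σ, mem_dFour.1 h, e⟩, fun ⟨σ, h, e⟩ => ⟨σ, mem_dFour.2 h, e⟩⟩

theorem φ_mem_D {σ : Perm (Fin 4)} (h : InD σ) : B.φ σ ∈ B.D := B.mem_D.2 ⟨σ, h, rfl⟩

theorem card_D : Nat.card B.D = 8 := by rw [D, card_map_of_injective B.inj, card_dFour]

theorem w_notMem_D : B.w ∉ B.D := fun h => by
  obtain ⟨σ, -, e⟩ := B.mem_D.1 h
  exact B.w_notMem σ e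

theorem w_norm : B.w ∈ normalizer (B.D : Set G) := by
  refine centralizer_le_normalizer _ (mem_centralizer_iff.2 fun y hy => ?_)
  obtain ⟨σ, -, rfl⟩ := B.mem_D.1 hy
  exact (B.w_comm σ).eq.symm

/-- The Sylow two-subgroup of the stabiliser. -/
def P : Subgroup G := ext2 B.D B.w B.w_norm (by rw [B.w_sq]; exact B.D.one_mem)

theorem card_P [Finite G] : Nat.card B.P = 16 := by
  rw [P, card_ext2 _ _ B.w_notMem_D, B.card_D]

theorem mem_P {y : G} : y ∈ B.P ↔ ∃ σ, InD σ ∧ (y = B.φ σ ∨ y = B.φ σ * B.w) := by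
  rw [P, mem_ext2, B.w_inv]
  constructor
  · rintro (h | h) <;> obtain ⟨σ, hσ, e⟩ := B.mem_D.1 h
    · exact ⟨σ, hσ, Or.inl e.symm⟩
    · refine ⟨σ, hσ, Or.inr ?_⟩
      rw [← (B.w_comm σ).eq, e, ← mul_assoc, B.w_sq, one_mul]
  · rintro ⟨σ, hσ, rfl | rfl⟩
    · exact Or.inl (B.φ_mem_D hσ)
    · refine Or.inr ?_
      rw [← (B.w_comm σ).eq, ← mul_assoc, B.w_sq, one_mul]
      exact B.φ_mem_D hσ

theorem P_le : B.P ≤ H := fun y hy => by
  obtain ⟨σ, -, h⟩ := B.mem_P.1 hy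
  exact (B.mem_H y).2 ⟨σ, h⟩

theorem φ_mem_P {σ : Perm (Fin 4)} (h : InD σ) : B.φ σ ∈ B.P := B.mem_P.2 ⟨σ, h, Or.inl rfl⟩

theorem φw_mem_P {σ : Perm (Fin 4)} (h : InD σ) : B.φ σ * B.w ∈ B.P :=
  B.mem_P.2 ⟨σ, h, Or.inr rfl⟩

theorem w_mem_P : B.w ∈ B.P := B.mem_P.2 ⟨1, by decide +kernel, Or.inr (by rw [map_one, one_mul])⟩

theorem mul_self_φw (σ : Perm (Fin 4)) : B.φ σ * B.w * (B.φ σ * B.w) = B.φ (σ * σ) := by
  rw [(B.w_comm σ).eq.symm, map_mul, show B.w * B.φ σ * (B.w * B.φ σ) = B.w * (B.φ σ * B.w) * B.φ σ by group,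
    ← (B.w_comm σ).eq, ← mul_assoc B.w B.w, B.w_sq, one_mul]

theorem mem_P_of_commute_z {y : G} (hy : y ∈ H) (hz : y * B.φ tZ = B.φ tZ * y) : y ∈ B.P := by
  obtain ⟨σ, hσ⟩ := (B.mem_H y).1 hy
  refine B.mem_P.2 ⟨σ, B.inj ?_, hσ⟩
  rcases hσ with rfl | rfl
  · rw [map_mul, map_mul, hz]
  · rw [map_mul, map_mul]
    rw [mul_assoc (B.φ σ) B.w, (B.w_comm tZ).eq, ← mul_assoc, ← mul_assoc (B.φ tZ)] at hz
    exact mul_right_cancel hz

/-- An element normalising `P` fixes `z` and maps `w` to `w` or `w z`. -/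
theorem conj_zw {x : G} (hzw : ¬ IsConj (B.φ tZ) B.w) (hx : ∀ y ∈ B.P, x * y * x⁻¹ ∈ B.P)
    (hsurj : ∀ y ∈ B.P, ∃ y' ∈ B.P, x * y' * x⁻¹ = y) :
    x * B.φ tZ * x⁻¹ = B.φ tZ ∧ (x * B.w * x⁻¹ = B.w ∨ x * B.w * x⁻¹ = B.φ tZ * B.w) := by
  obtain ⟨hRR, hRD, hVD, hCD, hZD, hZ1, -⟩ := model_facts
  have hz : x * B.φ tZ * x⁻¹ = B.φ tZ := by
    have h2 : x * B.φ tZ * x⁻¹ = (x * B.φ tR * x⁻¹) * (x * B.φ tR * x⁻¹) := by
      rw [← hRR, map_mul]; group
    obtain ⟨σ, hσ, e⟩ := B.mem_P.1 (hx _ (B.φ_mem_P hRD))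
    have h3 : x * B.φ tZ * x⁻¹ = B.φ (σ * σ) := by
      rcases e with e | e <;> rw [h2, e]
      · rw [map_mul]
      · exact B.mul_self_φw σ
    rcases sq_inD σ hσ with h | h <;> rw [h] at h3
    · rw [map_one, conj_eq_one_iff] at h3
      exact absurd (B.inj (h3.trans (map_one B.φ).symm)) hZ1
    · exact h3
  refine ⟨hz, ?_⟩
  have hcent : ∀ y ∈ B.P, Commute (x * B.w * x⁻¹) y := by
    intro y hy
    obtain ⟨y', hy', rfl⟩ := hsurj y hy
    refine (Commute.conj_iff x).2 ?_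
    obtain ⟨σ, -, rfl | rfl⟩ := B.mem_P.1 hy'
    · exact B.w_comm σ
    · exact (B.w_comm σ).mul_right (Commute.refl _)
  obtain ⟨σ, hσ, e⟩ := B.mem_P.1 (hx _ B.w_mem_P)
  have hcomm : ∀ τ, InD τ → σ * τ = τ * σ := by
    intro τ hτ
    refine B.inj ?_
    have h := hcent _ (B.φ_mem_P hτ)
    rcases e with e | e <;> rw [e] at h <;> rw [map_mul, map_mul]
    · exact h.eq
    · have h' := h.eq
      rw [mul_assoc, (B.w_comm τ).eq, ← mul_assoc, ← mul_assoc] at h'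
      exact mul_right_cancel h'
  rcases center_inD σ hσ (hcomm _ hVD) (hcomm _ hCD) with rfl | rfl <;> rcases e with e | e
  · rw [map_one, conj_eq_one_iff] at e
    exact absurd e B.w_ne_one
  · exact Or.inl (by rw [e, map_one, one_mul])
  · exact absurd (isConj_iff.2 ⟨x, e⟩).symm hzw
  · exact Or.inr e

end TBase

/-- A base with the outer element. -/
structure TFrame (H : Subgroup G) extends TBase H where
  g : G
  g_notMem : g ∉ H
  g_z : g * φ tZ * g⁻¹ = φ tZ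
  g_w : g * w * g⁻¹ = φ tZ * w
  g_v : g * φ tV * g⁻¹ = φ tC
  δ : Perm (Fin 4)
  δ_mem : InD δ
  g_sq : g * g = φ δ
  no_invol : ∀ σ, InD σ → g * φ σ * (g * φ σ) ≠ 1

theorem exists_timesBase [Finite G] {H : Subgroup G} (hP : Prim H)
    (e : H ≃* Perm (Fin 4) × Multiplicative (ZMod 2)) : Nonempty (TBase H) := by
  let ψ : Perm (Fin 4) × Multiplicative (ZMod 2) →* G := H.subtype.comp e.symm.toMonoidHom
  have hinj : Function.Injective ψ := H.subtype_injective.comp e.symm.injective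
  have hmem : ∀ y, y ∈ H ↔ ∃ x, y = ψ x := fun y =>
    ⟨fun hy => ⟨e ⟨y, hy⟩, by simp [ψ]⟩, fun ⟨x, hx⟩ => hx ▸ (e.symm x).2⟩
  set a : Multiplicative (ZMod 2) := Multiplicative.ofAdd 1 with ha
  have hall : ∀ i : Multiplicative (ZMod 2), i = 1 ∨ i = a := by rw [ha]; decide
  have haa : a * a = 1 ∧ a ≠ 1 := by rw [ha]; decide
  set w := ψ (1, a) with hw
  have hcomm : ∀ x, Commute w (ψ x) := fun x => by
    refine Commute.map ?_ ψ
    exact Prod.ext (by simp) (mul_comm _ _)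
  have hwH : H ≤ centralizer ({w} : Set G) := fun y hy => by
    obtain ⟨x, rfl⟩ := (hmem y).1 hy
    exact mem_centralizer_singleton_iff.2 (hcomm x).eq.symm
  have hw1 : w ≠ 1 := fun h => haa.2 (congrArg Prod.snd (hinj (h.trans (map_one ψ).symm)))
  refine ⟨⟨ψ.comp (MonoidHom.inl _ _), hinj.comp (fun x y h => congrArg Prod.fst h), w,
    ?_, fun σ => hcomm _, fun σ h => haa.2 (congrArg Prod.snd (hinj h)).symm, fun y => ?_, ?_⟩⟩
  · rw [hw, ← map_mul, show ((1, a) : Perm (Fin 4) × Multiplicative (ZMod 2)) * (1, a) = 1 from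
      Prod.ext (one_mul _) haa.1, map_one]
  · rw [hmem]
    constructor
    · rintro ⟨⟨σ, i⟩, rfl⟩
      refine ⟨σ, ?_⟩
      rcases hall i with rfl | rfl
      · exact Or.inl rfl
      · refine Or.inr ?_
        show _ = ψ (σ, 1) * ψ (1, a)
        rw [← map_mul]; simp
    · rintro ⟨σ, rfl | rfl⟩
      · exact ⟨(σ, 1), rfl⟩
      · exact ⟨(σ, 1) * (1, a), (map_mul ψ _ _).symm⟩
  · refine le_antisymm (fun x hx => ?_) hwH
    by_contra hxH
    have htop := hP.eq_top_of_le hwH hx hxH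
    have hz : zpowers w ≤ H := zpowers_le.2 ((hmem w).2 ⟨_, rfl⟩)
    have hn : (zpowers w).Normal := by
      refine ⟨fun y hy g => ?_⟩
      obtain ⟨i, rfl⟩ := hy
      have : Commute g w := mem_centralizer_singleton_iff.1 (htop ▸ mem_top g)
      show g * w ^ i * g⁻¹ ∈ zpowers w
      rw [(this.zpow_right i).eq, mul_inv_cancel_right]
      exact zpow_mem (mem_zpowers w) i
    exact hw1 (mem_bot.1 (hP.core _ hn hz ▸ mem_zpowers w))

/-- Multiplying the odd permutations by `w` gives another base. -/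
def TBase.twist {H : Subgroup G} (B : TBase H) : TBase H :=
  { φ := MonoidHom.mk' (fun σ => B.φ σ * if Perm.sign σ = 1 then 1 else B.w) fun σ τ => by
      rcases Int.units_eq_one_or (Perm.sign σ) with hs | hs <;>
        rcases Int.units_eq_one_or (Perm.sign τ) with ht | ht <;>
        simp only [map_mul, hs, ht, if_true, one_mul, mul_one, show ((-1 : ℤˣ) = 1) = False from
          eq_false (by decide), if_false, show (-1 : ℤˣ) * -1 = 1 from by decide]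
      · group
      · rw [mul_assoc (B.φ σ), mul_assoc (B.φ σ), (B.w_comm τ).eq]
      · rw [show B.φ σ * B.w * (B.φ τ * B.w) = B.φ σ * (B.w * B.φ τ) * B.w by group, (B.w_comm τ).eq,
          show B.φ σ * (B.φ τ * B.w) * B.w = B.φ σ * B.φ τ * (B.w * B.w) by group, B.w_sq, mul_one]
    inj := by
      intro σ τ h
      simp only [MonoidHom.mk'_apply] at h
      split_ifs at h
      · exact B.inj (by simpa using h)
      · exact absurd h.symm (by simpa using B.mul_w_ne τ σ)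
      · exact absurd h (by simpa using B.mul_w_ne σ τ)
      · exact B.inj (mul_right_cancel h)
    w := B.w
    w_sq := B.w_sq
    w_comm := fun σ => by
      simp only [MonoidHom.mk'_apply]
      exact (B.w_comm σ).mul_right (by split_ifs <;> simp)
    w_notMem := fun σ => by
      simp only [MonoidHom.mk'_apply]
      split_ifs with hs
      · simpa using B.w_notMem σ
      · intro h
        have : B.φ σ = 1 := mul_eq_right.1 h
        exact hs (by rw [B.inj (this.trans (map_one B.φ).symm), map_one])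
    mem_H := fun y => by
      rw [B.mem_H]
      simp only [MonoidHom.mk'_apply]
      refine exists_congr fun σ => ?_
      split_ifs
      · rw [mul_one]
      · rw [mul_assoc, B.w_sq, mul_one, or_comm]
    cent := B.cent }

theorem TBase.twist_apply {H : Subgroup G} (B : TBase H) (σ : Perm (Fin 4)) :
    B.twist.φ σ = B.φ σ * if Perm.sign σ = 1 then 1 else B.w := rfl

theorem exists_timesFrame [Finite G] {H : Subgroup G} (hP : Prim H)
    (e : H ≃* Perm (Fin 4) × Multiplicative (ZMod 2)) : Nonempty (TFrame H) := by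
  obtain ⟨B₀⟩ := exists_timesBase hP e
  obtain ⟨-, -, hVD, hCD, hZD, hZ1, hV1, hVZ, hCV, hVC, hVV, hCC, hZZ, hsV, hsZ, hsC⟩ := model_facts
  have hcardH : Nat.card H = Nat.card B₀.P * 3 := by
    rw [B₀.card_P, Nat.card_congr e.toEquiv, Nat.card_prod, Nat.card_perm, Nat.card_fin,
      Nat.card_eq_fintype_card]
    rfl
  obtain ⟨g₀, hg₀, hgn⟩ := hP.move B₀.P B₀.P_le hcardH
  have hnot : ¬ IsConj (B₀.φ tZ) B₀.w → g₀ * B₀.w * g₀⁻¹ = B₀.φ tZ * B₀.w ∧
      g₀ * B₀.φ tZ * g₀⁻¹ = B₀.φ tZ := fun hzw => by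
    obtain ⟨h1, h2⟩ := B₀.conj_zw hzw (fun y hy => (mem_normalizer_iff.1 hgn y).1 hy)
      (fun y hy => ⟨_, (mem_normalizer_iff''.1 hgn y).1 hy, by group⟩)
    exact ⟨h2.resolve_left fun h => hg₀ (B₀.mem_H_iff.2 (mul_inv_eq_iff_eq_mul.1 h)), h1⟩
  have hz : g₀ * B₀.φ tZ * g₀⁻¹ = B₀.φ tZ ∧ g₀ * B₀.w * g₀⁻¹ = B₀.φ tZ * B₀.w := by
    -- `z` is a square of an element of `P`; central elements go to central elements
    obtain ⟨hRR, hRD, -⟩ := model_facts
    have hgP : ∀ y ∈ B₀.P, g₀ * y * g₀⁻¹ ∈ B₀.P := fun y hy => (mem_normalizer_iff.1 hgn y).1 hy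
    have h2 : g₀ * B₀.φ tZ * g₀⁻¹ = (g₀ * B₀.φ tR * g₀⁻¹) * (g₀ * B₀.φ tR * g₀⁻¹) := by
      rw [← hRR, map_mul]; group
    obtain ⟨σ, hσ, e'⟩ := B₀.mem_P.1 (hgP _ (B₀.φ_mem_P hRD))
    have h3 : g₀ * B₀.φ tZ * g₀⁻¹ = B₀.φ (σ * σ) := by
      rcases e' with e' | e' <;> rw [h2, e']
      · rw [map_mul]
      · exact B₀.mul_self_φw σ
    have hgz : g₀ * B₀.φ tZ * g₀⁻¹ = B₀.φ tZ := by
      rcases sq_inD σ hσ with h | h <;> rw [h] at h3
      · rw [map_one, conj_eq_one_iff] at h3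
        exact absurd (B₀.inj (h3.trans (map_one B₀.φ).symm)) hZ1
      · exact h3
    refine ⟨hgz, ?_⟩
    obtain ⟨τ, hτ, e''⟩ := B₀.mem_P.1 (hgP _ B₀.w_mem_P)
    have hcomm : ∀ π, InD π → τ * π = π * τ := by
      intro π hπ
      refine B₀.inj ?_
      obtain ⟨y', hy', hye⟩ : ∃ y' ∈ B₀.P, g₀ * y' * g₀⁻¹ = B₀.φ π :=
        ⟨_, (mem_normalizer_iff''.1 hgn _).1 (B₀.φ_mem_P hπ), by group⟩
      have h : Commute (g₀ * B₀.w * g₀⁻¹) (B₀.φ π) := by
        rw [← hye]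
        refine (Commute.conj_iff g₀).2 ?_
        obtain ⟨ρ, -, rfl | rfl⟩ := B₀.mem_P.1 hy'
        · exact B₀.w_comm ρ
        · exact (B₀.w_comm ρ).mul_right (Commute.refl _)
      rcases e'' with e'' | e'' <;> rw [e''] at h <;> rw [map_mul, map_mul]
      · exact h.eq
      · have h' := h.eq
        rw [mul_assoc, (B₀.w_comm π).eq, ← mul_assoc, ← mul_assoc] at h'
        exact mul_right_cancel h'
    rcases center_inD τ hτ (hcomm _ hVD) (hcomm _ hCD) with rfl | rfl <;> rcases e'' with e'' | e''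
    · rw [map_one, conj_eq_one_iff] at e''
      exact absurd e'' B₀.w_ne_one
    · rw [map_one, one_mul] at e''
      exact absurd (B₀.mem_H_iff.2 (mul_inv_eq_iff_eq_mul.1 e'')) hg₀
    · exact absurd (mul_left_cancel (mul_right_cancel (e''.trans hgz.symm))).symm (B₀.w_notMem tZ)
    · exact e''
  obtain ⟨hgz, hgw⟩ := hz
  clear hnot
  -- the image of `v` lies outside the four-group and its centraliser
  obtain ⟨σ, hσ, hgv⟩ := B₀.mem_P.1 ((mem_normalizer_iff.1 hgn _).1 (B₀.φ_mem_P hVD))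
  have hσ2 : σ * σ = 1 := by
    refine B₀.inj ?_
    have h : g₀ * B₀.φ tV * g₀⁻¹ * (g₀ * B₀.φ tV * g₀⁻¹) = 1 := by
      rw [conj_mul, ← map_mul, hVV, map_one, mul_one, mul_inv_cancel]
    rw [map_one, ← h]
    rcases hgv with e' | e' <;> rw [e']
    · rw [map_mul]
    · exact (B₀.mul_self_φw σ).symm
  have hσC : σ = tC ∨ σ = tC * tZ := by
    have hnE : σ ≠ 1 ∧ σ ≠ tZ ∧ σ ≠ tV ∧ σ ≠ tV * tZ := by
      have key : ¬ (σ = 1 ∨ σ = tZ ∨ σ = tV ∨ σ = tV * tZ) := fun hcase => by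
        set X := vFour.map B₀.φ ⊔ zpowers B₀.w with hX
        have hwX : B₀.w ∈ X := mem_sup_right (mem_zpowers _)
        have hφX : ∀ τ, τ ∈ vFour → B₀.φ τ ∈ X := fun τ hτ => mem_sup_left (mem_map_of_mem _ hτ)
        have hσX : B₀.φ σ ∈ X := hφX σ (by
          rcases hcase with rfl | rfl | rfl | rfl <;> rw [mem_vFour] <;> decide)
        have hgvX : g₀ * B₀.φ tV * g₀⁻¹ ∈ X := by
          rcases hgv with e' | e' <;> rw [e']
          exacts [hσX, X.mul_mem hσX hwX]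
        have hgzX : g₀ * B₀.φ tZ * g₀⁻¹ ∈ X := by rw [hgz]; exact hφX tZ (Or.inr (Or.inl rfl))
        have hle : X.map (MulAut.conj g₀).toMonoidHom ≤ X := by
          rw [hX, Subgroup.map_sup, sup_le_iff, MonoidHom.map_zpowers, zpowers_le, ← hX]
          refine ⟨?_, ?_⟩
          · rintro _ ⟨_, ⟨τ, hτ, rfl⟩, rfl⟩
            show g₀ * B₀.φ τ * g₀⁻¹ ∈ X
            rcases hτ with rfl | rfl | rfl | rfl
            · simp [X.one_mem]
            · exact hgzX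
            · exact hgvX
            · have := X.mul_mem hgzX hgvX
              rwa [conj_mul, ← map_mul, show tZ * tV = swap 0 3 * swap 1 2 by decide] at this
          · show g₀ * B₀.w * g₀⁻¹ ∈ X
            rw [hgw]
            exact X.mul_mem (hφX _ (Or.inr (Or.inl rfl))) hwX
        have hgN : g₀ ∈ normalizer (X : Set G) := by
          rw [CfsgLib.Coprime.mem_normalizer_iff_map_conj]
          exact Subgroup.eq_of_le_of_card_ge hle (by rw [CfsgLib.Coprime.card_map_conj])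
        refine hg₀ ((hP.normalizer_eq ?_ ?_ ?_).le hgN)
        · exact fun h => B₀.w_ne_one (mem_bot.1 (h ▸ hwX))
        · exact sup_le (fun y ⟨τ, _, e'⟩ => e' ▸ B₀.φ_mem τ) (zpowers_le.2 B₀.w_mem)
        · intro y hy
          refine mem_normalizer_of_forall fun x hx => ?_
          suffices hyle : X.map (MulAut.conj y).toMonoidHom ≤ X from hyle ⟨x, hx, rfl⟩
          rw [hX, Subgroup.map_sup, sup_le_iff, MonoidHom.map_zpowers, zpowers_le, ← hX]
          refine ⟨?_, ?_⟩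
          · rintro _ ⟨_, ⟨τ, hτ, rfl⟩, rfl⟩
            show y * B₀.φ τ * y⁻¹ ∈ X
            have hconj : ∀ π τ : Perm (Fin 4),
                (τ = 1 ∨ τ = swap 0 1 * swap 2 3 ∨ τ = swap 0 2 * swap 1 3 ∨ τ = swap 0 3 * swap 1 2) →
                (π * τ * π⁻¹ = 1 ∨ π * τ * π⁻¹ = swap 0 1 * swap 2 3 ∨
                  π * τ * π⁻¹ = swap 0 2 * swap 1 3 ∨ π * τ * π⁻¹ = swap 0 3 * swap 1 2) := by decide +kernel
            obtain ⟨π, rfl | rfl⟩ := (B₀.mem_H y).1 hy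
            · rw [← map_inv, ← map_mul, ← map_mul]; exact hφX _ (hconj π τ hτ)
            · rw [show B₀.φ π * B₀.w * B₀.φ τ * (B₀.φ π * B₀.w)⁻¹ =
                B₀.φ π * (B₀.w * B₀.φ τ * B₀.w⁻¹) * (B₀.φ π)⁻¹ by group, (B₀.w_comm τ).eq,
                mul_inv_cancel_right, ← map_inv, ← map_mul, ← map_mul]
              exact hφX _ (hconj π τ hτ)
          · show y * B₀.w * y⁻¹ ∈ X
            rw [B₀.mem_H_iff.1 hy, mul_inv_cancel_right]; exact hwX
      exact ⟨fun h => key (Or.inl h), fun h => key (Or.inr (Or.inl h)),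
        fun h => key (Or.inr (Or.inr (Or.inl h))), fun h => key (Or.inr (Or.inr (Or.inr h)))⟩
    rcases invol_inD σ hσ hσ2 with h | h | h | h | h | h
    exacts [absurd h hnE.1, absurd h hnE.2.1, absurd h hnE.2.2.1, absurd h hnE.2.2.2, Or.inl h, Or.inr h]
  -- normalise `g`
  obtain ⟨g₁, hg₁, hg₁z, hg₁w, hg₁v⟩ : ∃ g₁, g₁ ∉ H ∧ g₁ * B₀.φ tZ * g₁⁻¹ = B₀.φ tZ ∧
      g₁ * B₀.w * g₁⁻¹ = B₀.φ tZ * B₀.w ∧
      (g₁ * B₀.φ tV * g₁⁻¹ = B₀.φ tC ∨ g₁ * B₀.φ tV * g₁⁻¹ = B₀.φ tC * B₀.w) := by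
    rcases hσC with rfl | rfl
    · exact ⟨g₀, hg₀, hgz, hgw, hgv⟩
    refine ⟨g₀ * B₀.φ tC, fun h => hg₀ ((H.mul_mem_cancel_right (B₀.φ_mem _)).1 h), ?_, ?_, ?_⟩
    · rw [show g₀ * B₀.φ tC * B₀.φ tZ * (g₀ * B₀.φ tC)⁻¹ =
        g₀ * (B₀.φ tC * B₀.φ tZ * (B₀.φ tC)⁻¹) * g₀⁻¹ by group, ← map_inv, ← map_mul, ← map_mul,
        show tC * tZ * tC⁻¹ = tZ by decide +kernel, hgz]
    · rw [show g₀ * B₀.φ tC * B₀.w * (g₀ * B₀.φ tC)⁻¹ =
        g₀ * (B₀.φ tC * B₀.w * (B₀.φ tC)⁻¹) * g₀⁻¹ by group, ← (B₀.w_comm tC).eq, mul_inv_cancel_right, hgw]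
    · have hh : g₀ * B₀.φ tC * B₀.φ tV * (g₀ * B₀.φ tC)⁻¹ = (g₀ * B₀.φ tV * g₀⁻¹) * B₀.φ tZ := by
        rw [show g₀ * B₀.φ tC * B₀.φ tV * (g₀ * B₀.φ tC)⁻¹ =
          g₀ * (B₀.φ tC * B₀.φ tV * (B₀.φ tC)⁻¹) * g₀⁻¹ by group, ← map_inv, ← map_mul, ← map_mul, hCV,
          map_mul, ← conj_mul, hgz]
      rw [hh]
      rcases hgv with e' | e' <;> rw [e']
      · exact Or.inl (by rw [← map_mul, mul_assoc, hZZ, mul_one])
      · refine Or.inr ?_
        rw [mul_assoc, (B₀.w_comm tZ).eq, ← mul_assoc, ← map_mul, mul_assoc tC, hZZ, mul_one]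
  -- normalise `φ`
  obtain ⟨B, hBz, hBw, hBv⟩ : ∃ B : TBase H, g₁ * B.φ tZ * g₁⁻¹ = B.φ tZ ∧
      g₁ * B.w * g₁⁻¹ = B.φ tZ * B.w ∧ g₁ * B.φ tV * g₁⁻¹ = B.φ tC := by
    rcases hg₁v with h | h
    · exact ⟨B₀, hg₁z, hg₁w, h⟩
    · refine ⟨B₀.twist, ?_, ?_, ?_⟩ <;>
        simp only [TBase.twist_apply, hsV, hsZ, hsC, if_true, mul_one,
          show ((-1 : ℤˣ) = 1) = False from eq_false (by decide), if_false]
      · exact hg₁z
      · exact hg₁w
      · exact h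
  have hsq : ∀ x : G, g₁ * g₁ * x * (g₁ * g₁)⁻¹ = g₁ * (g₁ * x * g₁⁻¹) * g₁⁻¹ := fun x => by group
  have hg2z : g₁ * g₁ * B.φ tZ * (g₁ * g₁)⁻¹ = B.φ tZ := by rw [hsq, hBz, hBz]
  have hg2w : g₁ * g₁ * B.w * (g₁ * g₁)⁻¹ = B.w := by
    rw [hsq, hBw, ← conj_mul, hBz, hBw, ← mul_assoc, ← map_mul, hZZ, map_one, one_mul]
  obtain ⟨δ, hδ, hd⟩ := B.mem_P.1 (B.mem_P_of_commute_z (B.mem_H_iff.2 (mul_inv_eq_iff_eq_mul.1 hg2w))
    (mul_inv_eq_iff_eq_mul.1 hg2z))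
  have hg2v : g₁ * B.φ tC * g₁⁻¹ = B.φ (δ * tV * δ⁻¹) := by
    rw [← hBv, ← hsq, map_mul, map_mul, map_inv]
    rcases hd with hd | hd <;> rw [hd]
    rw [show B.φ δ * B.w * B.φ tV * (B.φ δ * B.w)⁻¹ = B.φ δ * (B.w * B.φ tV * B.w⁻¹) * (B.φ δ)⁻¹ by group,
      (B.w_comm tV).eq, mul_inv_cancel_right]
  have himg : ∀ i j k, g₁ * B.φ (wd tV tC i j k) * g₁⁻¹ = B.φ (img δ i j k) := by
    intro i j k
    show g₁ * B.φ (wd tV tC i j k) * g₁⁻¹ = B.φ (wd tC (δ * tV * δ⁻¹) i j k)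
    unfold wd
    simp only [map_mul, map_pow]
    rw [← conj_mul, ← conj_mul, ← conj_pow, ← conj_pow, ← conj_pow, hBv, hg2v, hBz, map_mul, map_mul, map_inv]
  obtain ⟨a, b, c, rfl⟩ := word_exists δ hδ
  have hd1 : g₁ * g₁ = B.φ (wd tV tC a b c) := by
    refine hd.resolve_right fun hd => no_twist a b c (B.inj ?_)
    have h : g₁ * (g₁ * g₁) * g₁⁻¹ = g₁ * g₁ := by group
    rw [hd, ← conj_mul, himg, hBw, ← mul_assoc, ← map_mul] at h
    exact mul_right_cancel h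
  have hfixδ : img (wd tV tC a b c) a b c = wd tV tC a b c := B.inj (by
    rw [← himg, ← hd1]; group)
  -- one of `g`, `g w` has no involution in its coset of `D`
  by_cases hinv : ∀ σ, InD σ → g₁ * B.φ σ * (g₁ * B.φ σ) ≠ 1
  · exact ⟨⟨B, g₁, hg₁, hBz, hBw, hBv, _, hδ, hd1, hinv⟩⟩
  push Not at hinv
  obtain ⟨σ₁, hσ₁, hinv⟩ := hinv
  obtain ⟨i, j, k, rfl⟩ := word_exists σ₁ hσ₁
  have hrel : ∀ i j k, g₁ * B.φ (wd tV tC i j k) * (g₁ * B.φ (wd tV tC i j k)) =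
      B.φ (img (wd tV tC a b c) i j k * wd tV tC a b c * wd tV tC i j k) := fun i j k => by
    rw [map_mul, map_mul, ← himg, ← hd1]; group
  rw [hrel] at hinv
  have hone := B.inj (hinv.trans (map_one B.φ).symm)
  refine ⟨⟨B, g₁ * B.w, fun h => hg₁ ((H.mul_mem_cancel_right B.w_mem).1 h), ?_, ?_, ?_,
    tZ * wd tV tC a b c, ?_, ?_, fun σ hσ h => ?_⟩⟩
  · rw [show g₁ * B.w * B.φ tZ * (g₁ * B.w)⁻¹ = g₁ * (B.w * B.φ tZ * B.w⁻¹) * g₁⁻¹ by group,
      (B.w_comm tZ).eq, mul_inv_cancel_right, hBz]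
  · rw [show g₁ * B.w * B.w * (g₁ * B.w)⁻¹ = g₁ * B.w * g₁⁻¹ by group, hBw]
  · rw [show g₁ * B.w * B.φ tV * (g₁ * B.w)⁻¹ = g₁ * (B.w * B.φ tV * B.w⁻¹) * g₁⁻¹ by group,
      (B.w_comm tV).eq, mul_inv_cancel_right, hBv]
  · exact (show ∀ x, InD x → InD (tZ * x) by decide +kernel) _ hδ
  · rw [map_mul, ← hd1, show g₁ * B.w * (g₁ * B.w) = (g₁ * B.w * g₁⁻¹) * (g₁ * g₁) * B.w by group, hBw,
      hd1, mul_assoc (B.φ tZ) B.w, (B.w_comm _).eq, ← mul_assoc, mul_assoc _ B.w B.w, B.w_sq, mul_one]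
  · obtain ⟨i', j', k', rfl⟩ := word_exists σ hσ
    refine one_coset a b c i j k i' j' k' hfixδ hone (B.inj ?_)
    generalize hσ' : wd tV tC i' j' k' = σ at h
    generalize hd' : wd tV tC a b c = d at hd1
    rw [map_one, ← h, map_mul, map_mul, map_mul]
    rw [show g₁ * B.w * B.φ σ * (g₁ * B.w * B.φ σ) =
      (g₁ * B.w * g₁⁻¹) * (g₁ * B.φ σ * g₁⁻¹) * (g₁ * g₁) * (B.w * B.φ σ) by
        rw [show g₁ * B.w * B.φ σ * (g₁ * B.w * B.φ σ) = g₁ * (B.w * B.φ σ) * g₁ * (B.w * B.φ σ) by group]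
        group,
      hBw, ← hσ', himg, hd', hd1,
      show B.φ tZ * B.w * B.φ (img d i' j' k') * B.φ d * (B.w * B.φ (wd tV tC i' j' k')) =
        B.φ tZ * (B.w * (B.φ (img d i' j' k') * B.φ d) * B.w) * B.φ (wd tV tC i' j' k') by group,
      ← map_mul B.φ (img d i' j' k') d, (B.w_comm _).eq,
      mul_assoc (B.φ (img d i' j' k' * d)) B.w, B.w_sq, mul_one, map_mul, mul_assoc (B.φ tZ)]

end CfsgLib.Recog.SuborbitThree
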