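import Cfsg.Agent.Lib.Recog.SuborbitThree.Times
import Cfsg.Agent.Lib.Recog.SuborbitThree.SFourMain

/-!
# A stabiliser `Sym(4) × 2`: conclusion
-/

set_option autoImplicit false

namespace CfsgLib.Recog.SuborbitThree

universe u

/-- A point stabiliser `Sym(4) × 2` forces `PSL(3, 3)` with index two. -/
theorem case_times {G : Type u} [Group G] [Finite G] {H : Subgroup G} (hP : Prim H)
    (e : H ≃* Equiv.Perm (Fin 4) × Multiplicative (ZMod 2)) :
    ∃ N : Subgroup G, N.Normal ∧ N.index = 2 ∧ Subgroup.centralizer (N : Set G) = ⊥ ∧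
      Nonempty (N ≃* Matrix.ProjectiveSpecialLinearGroup (Fin 3) (ZMod 3)) :=
  case_times_of hP e fun _ S h => S.classify (Or.inr h)

end CfsgLib.Recog.SuborbitThree
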