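import Cfsg.Agent.Lib.Recog.SuborbitThree.Twelve

/-!
# The dihedral stabiliser of order twelve: two classes of involutions
-/

set_option autoImplicit false

namespace CfsgLib.Recog.SuborbitThree

open Subgroup DihedralGroup

universe u

variable {G : Type u} [Group G] [Finite G]

/-- The image of a soluble normal subgroup of a subgroup of index two generates a soluble normal
subgroup, when the latter is a two-group. -/
theorem eq_bot_of_index_two {H : Subgroup G} (hP : Prim H) {M : Subgroup G} [hM : M.Normal]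
    (hM2 : M.index = 2) {z : G} (hz : z ∉ M) {N : Subgroup M} [hN : N.Normal] (hp : IsPGroup 2 N) :
    N = ⊥ := by
  set N₀ := N.map M.subtype with hN₀
  set N₁ := N₀.map (MulAut.conj z).toMonoidHom with hN₁
  have h0 : N₀ ≤ M := map_subtype_le _
  have h1 : N₁ ≤ M := by
    rintro _ ⟨x, hx, rfl⟩
    exact hM.conj_mem _ (h0 hx) z
  have hn0 : M ≤ normalizer (N₀ : Set G) := by
    have := le_normalizer_map (H := N) M.subtype
    rwa [normalizer_eq_top, ← MonoidHom.range_eq_map, Subgroup.range_subtype] at this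
  have hn1 : M ≤ normalizer (N₁ : Set G) := by
    intro m hm
    rw [CfsgLib.Coprime.mem_normalizer_iff_map_conj, hN₁, CfsgLib.Coprime.map_conj_conj]
    have e := CfsgLib.Coprime.map_conj_of_mem_normalizer
      (hn0 (by simpa using hM.conj_mem _ hm z⁻¹ : z⁻¹ * m * z ∈ M))
    conv_rhs => rw [← e, CfsgLib.Coprime.map_conj_conj]
    congr 3
    group
  have hz1 : N₁.map (MulAut.conj z).toMonoidHom = N₀ := by
    rw [hN₁, CfsgLib.Coprime.map_conj_conj]
    refine CfsgLib.Coprime.map_conj_of_mem_normalizer (hn0 ?_)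
    exact mul_self_mem_of_index_two hM2 z
  have hp1 : IsPGroup 2 N₁ := (hp.map _).map _
  have hp01 : IsPGroup 2 (N₀ ⊔ N₁ : Subgroup G) :=
    (hp.map _).to_sup_of_normal_left' hp1 (h1.trans hn0)
  have hnorm : (N₀ ⊔ N₁).Normal := by
    rw [← normalizer_eq_top_iff, eq_top_iff]
    intro g _
    rw [CfsgLib.Coprime.mem_normalizer_iff_map_conj, Subgroup.map_sup]
    by_cases hg : g ∈ M
    · rw [CfsgLib.Coprime.map_conj_of_mem_normalizer (hn0 hg),
        CfsgLib.Coprime.map_conj_of_mem_normalizer (hn1 hg)]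
    · have hm : g * z⁻¹ ∈ M := (mul_mem_iff_of_index_two hM2).2
        (iff_of_false hg fun h => hz (by simpa using M.inv_mem h))
      have e : ∀ K : Subgroup G, K.map (MulAut.conj g).toMonoidHom =
          (K.map (MulAut.conj z).toMonoidHom).map (MulAut.conj (g * z⁻¹)).toMonoidHom := fun K => by
        rw [CfsgLib.Coprime.map_conj_conj, inv_mul_cancel_right]
      rw [e N₀, e N₁, hz1, ← hN₁, CfsgLib.Coprime.map_conj_of_mem_normalizer (hn0 hm),
        CfsgLib.Coprime.map_conj_of_mem_normalizer (hn1 hm), sup_comm]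
  have := hp01.isNilpotent
  have hb := hP.nosol _ hnorm inferInstance
  have : N₀ = ⊥ := le_bot_iff.1 (hb ▸ le_sup_left)
  exact (map_eq_bot_iff_of_injective _ M.subtype_injective).1 this

/-- A group containing `M` with index two and trivial centralizer embeds in `Aut M`. -/
theorem equiv_mulAut {H : Subgroup G} (hP : Prim H) {M : Subgroup G} [hM : M.Normal]
    (hM2 : M.index = 2) (hc : center M = ⊥)
    (hcard : Nat.card (MulAut M) = 2 * Nat.card M) : Nonempty (G ≃* MulAut M) := by
  set f := (MulAut.conjNormal : G →* MulAut M)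
  have hker : f.ker = ⊥ := by
    have hinf : f.ker ⊓ M = ⊥ := by
      refine eq_bot_iff.2 fun x hx => ?_
      have hxc : (⟨x, hx.2⟩ : M) ∈ center M := by
        refine mem_center_iff.2 fun y => Subtype.ext ?_
        have h := congrArg Subtype.val (DFunLike.congr_fun (MonoidHom.mem_ker.1 hx.1) y)
        simp only [f, MulAut.conjNormal_apply, MulAut.one_apply] at h
        exact (mul_inv_eq_iff_eq_mul.1 h).symm
      rw [hc, mem_bot] at hxc
      exact mem_bot.2 (congrArg Subtype.val hxc)
    refine hP.nosol f.ker (MonoidHom.normal_ker f) (Group.isSolvable_of_comm fun a b => ?_)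
    have hsq : ∀ a : f.ker, a * a = 1 := fun a => by
      have h := mul_self_mem_of_index_two hM2 (a : G)
      have : (a : G) * a ∈ f.ker ⊓ M := ⟨f.ker.mul_mem a.2 a.2, h⟩
      rw [hinf, mem_bot] at this
      exact Subtype.ext this
    have hinv : ∀ a : f.ker, a⁻¹ = a := fun a => inv_eq_of_mul_eq_one_right (hsq a)
    calc a * b = (a * b)⁻¹ := (hinv _).symm
      _ = b * a := by rw [mul_inv_rev, hinv, hinv]
  have : Finite (MulAut M) := Finite.of_injective (fun a : MulAut M => (a : M → M)) DFunLike.coe_injective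
  refine ⟨MulEquiv.ofBijective f ((Nat.bijective_iff_injective_and_card f).2
    ⟨(MonoidHom.ker_eq_bot_iff f).1 hker, ?_⟩)⟩
  rw [hcard, ← M.index_mul_card, hM2]

theorem center_eq_bot_of_equiv {X Y : Type*} [Group X] [Group Y] [IsSimpleGroup Y] (e : X ≃* Y)
    (hna : ∃ a b : Y, a * b ≠ b * a) : center X = ⊥ := by
  rcases (inferInstance : (center Y).Normal).eq_bot_or_eq_top with h | h
  · refine eq_bot_iff.2 fun x hx => ?_
    have : e x ∈ center Y := mem_center_iff.2 fun y => by
      obtain ⟨w, rfl⟩ := e.surjective y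
      rw [← map_mul, ← map_mul, mem_center_iff.1 hx w]
    rw [h, mem_bot] at this
    exact mem_bot.2 (e.injective (this.trans (map_one e).symm))
  · obtain ⟨a, b, hab⟩ := hna
    exact absurd (mem_center_iff.1 (h ▸ mem_top b) a) hab

namespace Frame

variable {H : Subgroup G} (F : Frame H) (hP : Prim H)

local notation "zz" => F.φ dZ
local notation "ss" => F.φ dS
local notation "uu" => F.φ dU
local notation "rr" => F.φ dR

include hP in
/-- If the two classes do not fuse, `G` is `Sym(5)` or `PGL(2, 7)`. -/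
theorem split (hzu : ¬ IsConj zz uu) :
    Nonempty (G ≃* Equiv.Perm (Fin 5)) ∨
      Nonempty (G ≃* GL (Fin 2) (ZMod 7) ⧸ Subgroup.center (GL (Fin 2) (ZMod 7))) := by
  classical
  have := Fact.mk Nat.prime_two
  have hgs : F.g * ss * F.g⁻¹ = zz := by
    rcases F.g_zsu with h | h
    · exact h
    · exfalso
      exact hzu ((isConj_iff.2 ⟨F.g, F.g_z⟩).trans (isConj_iff.2 ⟨F.g, h⟩))
  have hsz : IsConj zz ss := isConj_iff.2 ⟨F.g, F.g_z⟩
  -- a two-group containing the four-group and moving it
  set T := F.V ⊔ zpowers F.g with hT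
  have hgV : zpowers F.g ≤ normalizer (F.V : Set G) := zpowers_le.2 F.g_norm
  have hg2 : F.g * F.g ∈ F.V := by
    refine F.cent_pair hP ?_ ?_
    · have : F.g * F.g * zz * (F.g * F.g)⁻¹ = zz := by
        calc F.g * F.g * zz * (F.g * F.g)⁻¹ = F.g * (F.g * zz * F.g⁻¹) * F.g⁻¹ := by group
          _ = zz := by rw [F.g_z, hgs]
      exact mul_inv_eq_iff_eq_mul.1 this
    · have : F.g * F.g * ss * (F.g * F.g)⁻¹ = ss := by
        calc F.g * F.g * ss * (F.g * F.g)⁻¹ = F.g * (F.g * ss * F.g⁻¹) * F.g⁻¹ := by group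
          _ = ss := by rw [hgs, F.g_z]
      exact mul_inv_eq_iff_eq_mul.1 this
  have hgp : IsPGroup 2 (zpowers F.g) := by
    refine IsPGroup.iff_card.2 ?_
    have h4 : F.g ^ 4 = 1 := by
      have := F.mem_V.1 hg2
      have hsq : (F.g * F.g) * (F.g * F.g) = 1 := by
        obtain ⟨x, hx, e⟩ := hg2
        rw [← e, ← map_mul, sq_dV hx, map_one]
      rw [show F.g ^ 4 = F.g * F.g * (F.g * F.g) by simp [pow_succ, mul_assoc]]
      exact hsq
    obtain ⟨k, -, hk⟩ := (Nat.dvd_prime_pow Nat.prime_two (m := 2)).1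
      (orderOf_dvd_of_pow_eq_one h4)
    exact ⟨k, by rw [Nat.card_zpowers, hk]⟩
  have hVp : IsPGroup 2 F.V := IsPGroup.of_card (n := 2) (by rw [F.card_V]; norm_num)
  have hTp : IsPGroup 2 T := hVp.to_sup_of_normal_left' hgp hgV
  obtain ⟨S, hTS⟩ := hTp.exists_le_sylow
  have hgS : F.g ∈ (S : Subgroup G) := hTS (mem_sup_right (mem_zpowers _))
  have hVS : F.V ≤ (S : Subgroup G) := le_sup_left.trans hTS
  have hzS : zz ∈ (S : Subgroup G) := hVS (F.mem_V.2 (Or.inr (Or.inl rfl)))
  have hsS : ss ∈ (S : Subgroup G) := hVS (F.mem_V.2 (Or.inr (Or.inr (Or.inl rfl))))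
  -- the centraliser of `z` in `S` is the four-group
  have hCS : ∀ a ∈ (S : Subgroup G), a * zz = zz * a → a ∈ F.V := by
    intro a ha hc
    have hle : F.V ≤ (S : Subgroup G) ⊓ H := le_inf hVS F.V_le
    have hp : IsPGroup 2 ((S : Subgroup G) ⊓ H : Subgroup G) := S.2.to_le inf_le_left
    obtain ⟨m, hm⟩ := IsPGroup.iff_card.1 hp
    have hd : 2 ^ m ∣ 12 := by
      rw [← hm, show 12 = Nat.card (DihedralGroup 6) by rw [DihedralGroup.nat_card],
        show Nat.card (DihedralGroup 6) = Nat.card H by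
          rw [← F.range_eq]; exact Nat.card_congr (MonoidHom.ofInjective F.inj).toEquiv]
      exact card_dvd_of_le inf_le_right
    have h4 : 2 ^ m ≤ Nat.card F.V := by
      rw [F.card_V]
      have := Nat.le_of_dvd (by norm_num) hd
      have hm3 : m ≤ 3 := by
        by_contra h
        have := Nat.pow_le_pow_right (show 1 ≤ 2 by norm_num) (show 4 ≤ m by omega)
        omega
      interval_cases m <;> omega
    rw [eq_of_le_of_card_ge hle (hm ▸ h4)]
    refine ⟨ha, ?_⟩
    rw [← F.cent_z hP]
    exact mem_centralizer_singleton_iff.2 hc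
  have hcardC : Nat.card (centralizer ({(⟨zz, hzS⟩ : (S : Subgroup G))} : Set (S : Subgroup G))) = 4 := by
    have e : centralizer ({(⟨zz, hzS⟩ : (S : Subgroup G))} : Set (S : Subgroup G)) =
        F.V.subgroupOf (S : Subgroup G) := by
      ext a
      rw [mem_centralizer_singleton_iff, mem_subgroupOf]
      constructor
      · intro h; exact hCS a a.2 (congrArg Subtype.val h)
      · intro h
        obtain ⟨x, hx, e⟩ := h
        refine Subtype.ext ?_
        show (a : G) * zz = zz * a
        rw [← e, ← map_mul, ← map_mul, commute_dZ]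
    rw [e, CfsgLib.Coprime.card_subgroupOf hVS, F.card_V]
  have hz2 : orderOf (⟨zz, hzS⟩ : (S : Subgroup G)) = 2 := by
    rw [Subgroup.orderOf_mk]; exact F.orderOf_two (by decide) (by decide)
  have hgV' : F.g ∉ F.V := fun h => F.g_notMem (F.V_le h)
  have hS4 : Nat.card (S : Subgroup G) ≠ 4 := by
    intro h
    exact hgV' (eq_of_le_of_card_ge hVS (by rw [F.card_V, h]) ▸ hgS)
  obtain ⟨c, hc⟩ := exists_cyclic_index_two (by
    rcases Cfsg.Agent.S3224.result S.2 _ hz2 hcardC with h | h | h
    · exact Or.inl h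
    · exact Or.inr h
    · exact absurd h hS4)
  set Q := zpowers (c : G) with hQ
  have hQS : Q ≤ (S : Subgroup G) := zpowers_le.2 c.2
  have hQi : Q.relIndex (S : Subgroup G) = 2 := by
    refine (congrArg Subgroup.index (?_ : Q.subgroupOf (S : Subgroup G) = zpowers c)).trans hc
    ext a
    rw [mem_subgroupOf, hQ]
    constructor
    · rintro ⟨k, hk⟩; exact ⟨k, Subtype.ext (by simpa using hk)⟩
    · rintro ⟨k, rfl⟩; exact ⟨k, by simp⟩
  -- the involution of the cyclic subgroup is `u`
  obtain ⟨w, hwQ, hw2, hw1⟩ : ∃ w ∈ Q, w * w = 1 ∧ w ≠ 1 := by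
    have hdvd : 2 ∣ Nat.card Q := by
      have h := relIndex_mul_relIndex (⊥ : Subgroup G) Q (S : Subgroup G) bot_le hQS
      rw [relIndex_bot_left, relIndex_bot_left, hQi] at h
      obtain ⟨m, hm⟩ := IsPGroup.iff_card.1 (S.2.to_le hQS)
      rw [hm]
      refine dvd_pow_self 2 fun hm0 => ?_
      rw [hm, hm0] at h
      have h4 : F.V ≤ (S : Subgroup G) := hVS
      have := card_le_of_le h4
      rw [F.card_V] at this
      omega
    obtain ⟨⟨w, hw⟩, hwo⟩ := exists_prime_orderOf_dvd_card' 2 hdvd
    rw [Subgroup.orderOf_mk] at hwo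
    refine ⟨w, hw, by rw [← pow_two, ← hwo, pow_orderOf_eq_one], fun h => ?_⟩
    rw [h, orderOf_one] at hwo; omega
  have hcentral : ∀ a ∈ (S : Subgroup G), a * w * a⁻¹ = w := by
    intro a ha
    have hm : a * w * a⁻¹ ∈ Q := by
      have hn : (zpowers (c : (S : Subgroup G))).Normal := normal_of_index_eq_two hc
      obtain ⟨k, hk⟩ := hwQ
      obtain ⟨l, hl⟩ := hn.conj_mem _ (⟨k, rfl⟩ : c ^ k ∈ zpowers c) ⟨a, ha⟩
      refine ⟨l, ?_⟩
      have h' := congrArg Subtype.val hl
      simp only [SubgroupClass.coe_zpow, Subgroup.coe_mul, InvMemClass.coe_inv] at h'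
      show (c : G) ^ l = _
      rw [h', show (c : G) ^ k = w from hk]
    refine eq_of_mem_zpowers hm hwQ ?_ hw2 (fun h => hw1 (conj_eq_one_iff.1 h)) hw1
    rw [show a * w * a⁻¹ * (a * w * a⁻¹) = a * (w * w) * a⁻¹ by group, hw2, mul_one, mul_inv_cancel]
  have hwu : w = uu := by
    have hwV : w ∈ F.V := hCS w (hQS hwQ) ((mul_inv_eq_iff_eq_mul.1 (hcentral zz hzS)).symm)
    rcases F.mem_V.1 hwV with h | h | h | h
    · exact absurd h hw1
    · exfalso
      have := hcentral F.g hgS
      rw [h, F.g_z] at this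
      exact absurd (F.inj this) (by decide)
    · exfalso
      have := hcentral F.g hgS
      rw [h, hgs] at this
      exact absurd (F.inj this) (by decide)
    · exact h
  obtain ⟨M, hMn, hM2, hzM⟩ : ∃ M : Subgroup G, M.Normal ∧ M.index = 2 ∧ zz ∉ M := by
    rcases CfsgLib.Transfer.thompson_transfer_involution S hQS hQi
      (u := zz) (by rw [pow_two]; exact F.sq dZ (by decide)) hzS with h | ⟨a, ha⟩
    · exact h
    · exfalso
      refine hzu (isConj_iff.2 ⟨a, ?_⟩)
      rw [← hwu]
      refine eq_of_mem_zpowers ha hwQ ?_ hw2 (fun h => F.ne_one (x := dZ) (by decide) (conj_eq_one_iff.1 h)) hw1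
      rw [show a * zz * a⁻¹ * (a * zz * a⁻¹) = a * (zz * zz) * a⁻¹ by group, F.sq dZ (by decide),
        mul_one, mul_inv_cancel]
  have := hMn
  have hsM : ss ∉ M := fun h => hzM (by
    obtain ⟨a, ha⟩ := isConj_iff.1 hsz.symm
    exact ha ▸ hMn.conj_mem _ h a)
  have huM : uu ∈ M := by
    rw [show uu = zz * ss by rw [← map_mul, refl_dR.2.2]]
    exact (mul_mem_iff_of_index_two hM2).2 (iff_of_false hzM hsM)
  have hrM : rr ∈ M := by
    have h3 : rr * rr * rr = 1 := by
      rw [← map_mul, ← map_mul, show dR * dR * dR = 1 by decide, map_one]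
    have := mul_self_mem_of_index_two hM2 (rr * rr)
    rwa [show rr * rr * (rr * rr) = rr * rr * rr * rr by group, h3, one_mul] at this
  -- the order three subgroup is self-centralising in `M`
  let r' : M := ⟨rr, hrM⟩
  have hr3 : orderOf r' = 3 := by
    rw [Subgroup.orderOf_mk, orderOf_injective _ F.inj]
    exact orderOf_eq_prime (by decide) (by decide)
  have hX : Nat.card (zpowers r') = 3 := by rw [Nat.card_zpowers, hr3]
  have hXc : centralizer (zpowers r' : Set M) = zpowers r' := by
    refine le_antisymm (fun a ha => ?_) (fun a ha => mem_centralizer_iff.2 fun b hb => ?_)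
    · have hc : rr * (a : G) = a * rr := congrArg Subtype.val (mem_centralizer_iff.1 ha r' (mem_zpowers _))
      have haH : (a : G) ∈ H := by
        rw [← F.norm_r hP, CfsgLib.Coprime.mem_normalizer_iff_map_conj, MonoidHom.map_zpowers]
        show zpowers ((a : G) * rr * (a : G)⁻¹) = _
        rw [← hc, mul_inv_cancel_right]
      obtain ⟨x, hx⟩ := F.exists_eq haH
      rw [← hx, ← map_mul, ← map_mul] at hc
      have hxM : F.φ x ∈ M := hx ▸ a.2
      rcases cent_dR x (F.inj hc) with rfl | rfl | rfl | rfl | rfl | rfl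
      · rw [show a = 1 from Subtype.ext (by rw [← hx, map_one]; rfl)]; exact one_mem _
      · rw [show a = r' from Subtype.ext hx.symm]; exact mem_zpowers _
      · rw [show a = r' ^ 2 from Subtype.ext (by rw [← hx, map_pow]; rfl)]
        exact pow_mem (mem_zpowers _) 2
      · exact absurd hxM hzM
      · rw [map_mul] at hxM
        exact absurd ((M.mul_mem_cancel_right hrM).1 hxM) hzM
      · rw [map_mul, map_pow] at hxM
        exact absurd ((M.mul_mem_cancel_right (pow_mem hrM 2)).1 hxM) hzM
    · obtain ⟨i, rfl⟩ := ha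
      obtain ⟨j, rfl⟩ := hb
      exact ((Commute.refl r').zpow_zpow j i).eq
  have hMns : ¬ Group.IsSolvable M := by
    intro hs
    apply hP.insoluble
    have hq : Group.IsSolvable (G ⧸ M) := by
      have hc : Nat.card (G ⧸ M) = 2 := by rw [← index_eq_card, hM2]
      have := Fact.mk Nat.prime_two
      have := isCyclic_of_prime_card hc
      exact Group.isSolvable_of_comm fun a b => IsCyclic.commGroup.mul_comm a b
    exact Group.isSolvable_of_ker_le_range M.subtype (QuotientGroup.mk' M)
      (by rw [QuotientGroup.ker_mk', Subgroup.range_subtype])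
  rcases CfsgLib.Recog.SelfCentThree.main _ hX hXc with ⟨N, hN, hnil, -, hq⟩ | ⟨N, hN, -, hel, hq⟩ | hq
  · exfalso
    apply hMns
    have hq' : Group.IsSolvable (M ⧸ N) := by
      rcases hq with hq | ⟨⟨q⟩⟩
      · exact isSolvable_of_card_three hq
      · have := isSolvable_perm_three
        exact Group.isSolvable_of_isSolvable_injective (f := q.toMonoidHom) q.injective
    exact Group.isSolvable_of_ker_le_range N.subtype (QuotientGroup.mk' N)
      (by rw [QuotientGroup.ker_mk', Subgroup.range_subtype])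
  · left
    have hN2 : IsPGroup 2 N := fun n => ⟨1, Subtype.ext (by simpa using hel n n.2)⟩
    have hNb := eq_bot_of_index_two hP hM2 hzM hN2
    subst hNb
    obtain ⟨q⟩ := hq
    let e : M ≃* alternatingGroup (Fin 5) := QuotientGroup.quotientBot.symm.trans q
    have := isSimpleGroup_altFive
    obtain ⟨a⟩ := mulAut_altFive_equiv
    have hcard : Nat.card (MulAut M) = 2 * Nat.card M := by
      rw [Nat.card_congr (MulAut.congr e).toEquiv, Nat.card_congr a.toEquiv, Nat.card_congr e.toEquiv,
        Nat.card_perm, nat_card_alternatingGroup, Nat.card_fin]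
      decide
    obtain ⟨g⟩ := equiv_mulAut hP hM2 (center_eq_bot_of_equiv e altFive_noncomm) hcard
    exact ⟨(g.trans (MulAut.congr e)).trans a⟩
  · right
    obtain ⟨e⟩ := hq
    haveI : Fact (Nat.Prime 7) := ⟨by norm_num⟩
    have h7 : Fintype.card (ZMod 7) = 7 := ZMod.card 7
    have := CfsgLib.ClassK.isSimpleGroup_psl_two (F := ZMod 7) (by omega)
    obtain ⟨a⟩ := mulAut_pslSeven_equiv
    have hpsl : Nat.card (Matrix.ProjectiveSpecialLinearGroup (Fin 2) (ZMod 7)) = 168 :=
      CfsgLib.Classical.card_psl_two_eq h7 168 (by norm_num)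
    have hcard : Nat.card (MulAut M) = 2 * Nat.card M := by
      rw [Nat.card_congr (MulAut.congr e).toEquiv, CfsgLib.KnownC.card_mulAut_psl le_rfl, if_pos rfl,
        one_mul, Nat.card_unique (α := ZMod 7 ≃+* ZMod 7), one_mul, Nat.card_congr e.toEquiv, hpsl,
        CfsgLib.Geom.Moebius.card_pgl_two, h7]
    have hnc : ∃ a b : Matrix.ProjectiveSpecialLinearGroup (Fin 2) (ZMod 7), a * b ≠ b * a := by
      by_contra h
      push Not at h
      apply hMns
      exact Group.isSolvable_of_comm fun a b => e.injective (by rw [map_mul, map_mul, h])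
    obtain ⟨g⟩ := equiv_mulAut hP hM2 (center_eq_bot_of_equiv e hnc) hcard
    exact ⟨(g.trans (MulAut.congr e)).trans a⟩
where
  isSimpleGroup_altFive : IsSimpleGroup (alternatingGroup (Fin 5)) := inferInstance
  altFive_noncomm : ∃ a b : alternatingGroup (Fin 5), a * b ≠ b * a := by
    refine ⟨⟨Equiv.swap 0 1 * Equiv.swap 1 2, ?_⟩, ⟨Equiv.swap 2 3 * Equiv.swap 3 4, ?_⟩, ?_⟩
    · rw [Equiv.Perm.mem_alternatingGroup]; decide
    · rw [Equiv.Perm.mem_alternatingGroup]; decide
    · intro h
      have := congrArg Subtype.val h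
      revert this
      decide

end Frame

/-- The dihedral stabiliser of order twelve. -/
theorem case_twelve {H : Subgroup G} (hP : Prim H) (e : H ≃* DihedralGroup 6) :
    Nonempty (G ≃* Equiv.Perm (Fin 5)) ∨
      Nonempty (G ≃* GL (Fin 2) (ZMod 7) ⧸ Subgroup.center (GL (Fin 2) (ZMod 7))) ∨
      Nonempty (G ≃* Matrix.ProjectiveSpecialLinearGroup (Fin 2) (ZMod 11)) ∨
      Nonempty (G ≃* Matrix.ProjectiveSpecialLinearGroup (Fin 2) (ZMod 13)) := by
  obtain ⟨F⟩ := exists_frame hP e
  by_cases h : IsConj (F.φ dZ) (F.φ dU)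
  · exact Or.inr (Or.inr (F.fused hP h))
  · rcases F.split hP h with h' | h'
    · exact Or.inl h'
    · exact Or.inr (Or.inl h')

end CfsgLib.Recog.SuborbitThree
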