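import Cfsg.Agent.Lib.Recog.SuborbitThree.TimesFrame
import Cfsg.Agent.Lib.Recog.SuborbitThree.TwelveSplit
import Cfsg.Agent.Lib.Comp.Subnormal
import Cfsg.Agent.Lib.Invol.Basic
import Cfsg.Agent.Lib.Transfer.Thompson

/-!
# A stabiliser `Sym(4) × 2`: the subgroup of index two

`z` is not conjugate to `w`, `S = P⟨g⟩` is a Sylow two-subgroup and `Q = D⟨g⟩` contains no conjugate
of `w`.  So `w` lies outside a normal subgroup `M` of index two, which meets the stabiliser in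
`Sym(4)` and gives an `SFour` setting.
-/

set_option autoImplicit false
set_option linter.unusedSectionVars false

namespace CfsgLib.Recog.SuborbitThree

open Subgroup Equiv CfsgLib.Invol

universe u

theorem img_inD : ∀ a b c i j k : Fin 2, InD (img (wd tV tC a b c) i j k) := by decide +kernel

theorem invol_conj_tV : ∀ σ : Perm (Fin 4), InD σ → σ * σ = 1 → σ ≠ 1 →
    (∃ π : Perm (Fin 4), π * tZ * π⁻¹ = σ) ∨ (∃ π : Perm (Fin 4), π * tC * π⁻¹ = σ) := by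
  decide +kernel

theorem more_facts : (∃ π : Perm (Fin 4), π * tZ * π⁻¹ = tV) ∧
    (∃ π : Perm (Fin 4), π * π = tV) ∧
    (∀ π : Perm (Fin 4), InD π → π ∈ dFour) := by
  refine ⟨by decide +kernel, by decide +kernel, fun π h => mem_dFour.2 h⟩

theorem swap_conj : ∀ x y : Fin 4, x ≠ y → ∃ π : Perm (Fin 4), π * tC * π⁻¹ = swap x y := by
  decide +kernel

theorem vFour_conj : ∀ π τ : Perm (Fin 4),
    (τ = 1 ∨ τ = swap 0 1 * swap 2 3 ∨ τ = swap 0 2 * swap 1 3 ∨ τ = swap 0 3 * swap 1 2) →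
    (π * τ * π⁻¹ = 1 ∨ π * τ * π⁻¹ = swap 0 1 * swap 2 3 ∨
      π * τ * π⁻¹ = swap 0 2 * swap 1 3 ∨ π * τ * π⁻¹ = swap 0 3 * swap 1 2) := by decide +kernel

variable {G : Type u} [Group G] [Finite G] {H : Subgroup G} (F : TFrame H)

namespace TFrame

theorem g_c : F.g * F.φ tC * F.g⁻¹ = F.φ (F.δ * tV * F.δ⁻¹) := by
  rw [← F.g_v, show F.g * (F.g * F.φ tV * F.g⁻¹) * F.g⁻¹ = (F.g * F.g) * F.φ tV * (F.g * F.g)⁻¹ by group,
    F.g_sq, ← map_inv, ← map_mul, ← map_mul]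

theorem g_img (i j k : Fin 2) : F.g * F.φ (wd tV tC i j k) * F.g⁻¹ = F.φ (img F.δ i j k) := by
  show _ = F.φ (wd tC (F.δ * tV * F.δ⁻¹) i j k)
  unfold wd
  simp only [map_mul, map_pow]
  rw [← conj_mul, ← conj_mul, ← conj_pow, ← conj_pow, ← conj_pow, F.g_v, F.g_c, F.g_z, map_mul, map_mul]

theorem g_D {y : G} (hy : y ∈ F.D) : F.g * y * F.g⁻¹ ∈ F.D := by
  obtain ⟨σ, hσ, rfl⟩ := F.mem_D.1 hy
  obtain ⟨i, j, k, rfl⟩ := word_exists σ hσ
  obtain ⟨a, b, c, h⟩ := word_exists F.δ F.δ_mem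
  rw [F.g_img, h]
  exact F.φ_mem_D (img_inD a b c i j k)

theorem g_P {y : G} (hy : y ∈ F.P) : F.g * y * F.g⁻¹ ∈ F.P := by
  obtain ⟨σ, hσ, rfl | rfl⟩ := F.mem_P.1 hy
  · obtain ⟨τ, hτ, e⟩ := F.mem_D.1 (F.g_D (F.φ_mem_D hσ))
    exact e ▸ F.φ_mem_P hτ
  · obtain ⟨τ, hτ, e⟩ := F.mem_D.1 (F.g_D (F.φ_mem_D hσ))
    rw [← conj_mul, ← e, F.g_w]
    exact F.P.mul_mem (F.φ_mem_P hτ) (F.P.mul_mem (F.φ_mem_P (show InD tZ by decide +kernel)) F.w_mem_P)

theorem g_normP : F.g ∈ normalizer (F.P : Set G) := mem_normalizer_of_forall fun _ => F.g_P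

theorem g_normD : F.g ∈ normalizer (F.D : Set G) := mem_normalizer_of_forall fun _ => F.g_D

/-- The subgroup `D⟨g⟩`. -/
def Q : Subgroup G := ext2 F.D F.g F.g_normD (by rw [F.g_sq]; exact F.φ_mem_D F.δ_mem)

/-- The subgroup `P⟨g⟩`. -/
def S : Subgroup G := ext2 F.P F.g F.g_normP (by rw [F.g_sq]; exact F.φ_mem_P F.δ_mem)

theorem g_notMem_P : F.g ∉ F.P := fun h => F.g_notMem (F.P_le h)

theorem g_notMem_D : F.g ∉ F.D := fun h => by
  obtain ⟨σ, -, e⟩ := F.mem_D.1 h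
  exact F.g_notMem (e ▸ F.φ_mem σ)

theorem card_S : Nat.card F.S = 32 := by rw [S, card_ext2 _ _ F.g_notMem_P, F.card_P]

theorem card_Q : Nat.card F.Q = 16 := by rw [Q, card_ext2 _ _ F.g_notMem_D, F.card_D]

theorem D_le_P : F.D ≤ F.P := le_ext2 _ _

theorem P_le_S : F.P ≤ F.S := le_ext2 _ _

theorem g_mem_S : F.g ∈ F.S := self_mem_ext2 _ _

theorem g_mem_Q : F.g ∈ F.Q := self_mem_ext2 _ _

theorem Q_le_S : F.Q ≤ F.S := by
  rintro y (h | h)
  · exact Or.inl (F.D_le_P h)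
  · exact Or.inr (F.D_le_P h)

theorem relIndex_Q : F.Q.relIndex F.S = 2 := by
  have h := (F.Q.subgroupOf F.S).card_mul_index
  rw [Nat.card_congr (subgroupOfEquivOfLe F.Q_le_S).toEquiv, F.card_Q, F.card_S] at h
  show (F.Q.subgroupOf F.S).index = 2
  omega

theorem commute_z {y : G} (hy : y ∈ F.S) : y * F.φ tZ = F.φ tZ * y := by
  have hP : ∀ p ∈ F.P, p * F.φ tZ = F.φ tZ * p := by
    intro p hp
    obtain ⟨σ, hσ, rfl | rfl⟩ := F.mem_P.1 hp
    · rw [← map_mul, ← map_mul, hσ]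
    · rw [mul_assoc, (F.w_comm tZ).eq, ← mul_assoc, ← map_mul, hσ, map_mul, mul_assoc]
  have hg : F.g * F.φ tZ = F.φ tZ * F.g := mul_inv_eq_iff_eq_mul.1 F.g_z
  rcases hy with hy | hy
  · exact hP y hy
  · have h : Commute (F.g * (F.g⁻¹ * y)) (F.φ tZ) := Commute.mul_left hg (hP _ hy)
    rw [mul_inv_cancel_left] at h
    exact h.eq

theorem not_conj : ¬ IsConj (F.φ tZ) F.w := by
  intro h
  obtain ⟨x, hx⟩ := isConj_iff.1 h
  have hle : F.S ≤ centralizer ({F.φ tZ} : Set G) := fun y hy =>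
    mem_centralizer_singleton_iff.2 (F.commute_z hy)
  have hmap : (centralizer ({F.φ tZ} : Set G)).map (MulAut.conj x).toMonoidHom ≤ H := by
    rintro _ ⟨y, hy, rfl⟩
    have hc : Commute (x * y * x⁻¹) (x * F.φ tZ * x⁻¹) :=
      (Commute.conj_iff x).2 (mem_centralizer_singleton_iff.1 hy)
    rw [hx] at hc
    exact F.mem_H_iff.2 hc.eq
  have h1 := card_dvd_of_le hle
  have h2 := card_dvd_of_le hmap
  rw [CfsgLib.Coprime.card_map_conj] at h2
  have h3 : Nat.card H = 48 := by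
    have hH : H = ext2 (F.φ.range) F.w (by
        refine centralizer_le_normalizer _ (mem_centralizer_iff.2 ?_)
        rintro _ ⟨σ, rfl⟩
        exact (F.w_comm σ).eq.symm) (by rw [F.w_sq]; exact one_mem _) := by
      ext y
      rw [F.mem_H, mem_ext2, F.w_inv]
      constructor
      · rintro ⟨σ, rfl | rfl⟩
        · exact Or.inl ⟨σ, rfl⟩
        · exact Or.inr ⟨σ, by rw [← mul_assoc, (F.w_comm σ).eq, mul_assoc, F.w_sq, mul_one]⟩
      · rintro (⟨σ, rfl⟩ | ⟨σ, e⟩)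
        · exact ⟨σ, Or.inl rfl⟩
        · refine ⟨σ, Or.inr ?_⟩
          rw [← (F.w_comm σ).eq, e, ← mul_assoc, F.w_sq, one_mul]
    rw [hH, card_ext2 _ _ (fun h => let ⟨σ, e⟩ := MonoidHom.mem_range.1 h; F.w_notMem σ e),
      ← Nat.card_congr (MonoidHom.ofInjective F.inj).toEquiv, Nat.card_perm, Nat.card_fin]
    rfl
  have h4 := h1.trans h2
  rw [F.card_S, h3] at h4
  norm_num at h4

/-- An element outside `P` only centralises `1` and `z` among the involutions of `P`. -/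
theorem fixed_invol_P {y a : G} (hy : y ∈ F.S) (hyP : y ∉ F.P) (ha : a ∈ F.P) (haa : a * a = 1)
    (hc : y * a = a * y) : a = 1 ∨ a = F.φ tZ := by
  classical
  have hyP' : F.g⁻¹ * y ∈ F.P := hy.resolve_left hyP
  obtain ⟨π, hπ, hπe⟩ := F.mem_P.1 hyP'
  obtain ⟨σ, hσ, hσe⟩ := F.mem_P.1 ha
  obtain ⟨p, q, r, hδe⟩ := word_exists F.δ F.δ_mem
  obtain ⟨s, t, u, rfl⟩ := word_exists π hπ
  obtain ⟨i, j, k, rfl⟩ := word_exists σ hσ
  have hσ2 : wd tV tC i j k * wd tV tC i j k = 1 := F.inj (by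
    rw [map_one, ← haa]
    rcases hσe with h | h <;> rw [h]
    · exact map_mul _ _ _
    · exact (F.mul_self_φw _).symm)
  have hfix : F.g * (F.g⁻¹ * y * a * (F.g⁻¹ * y)⁻¹) * F.g⁻¹ = a := by
    rw [show F.g * (F.g⁻¹ * y * a * (F.g⁻¹ * y)⁻¹) * F.g⁻¹ = y * a * y⁻¹ by group, hc, mul_inv_cancel_right]
  -- conjugation by an element of `P`
  have hpconj : F.g⁻¹ * y * a * (F.g⁻¹ * y)⁻¹ =
      F.φ (wd tV tC s t u * wd tV tC i j k * (wd tV tC s t u)⁻¹) *
        F.w ^ (if a = F.φ (wd tV tC i j k) then 0 else 1) := by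
    have hw : ∀ σ : Perm (Fin 4), F.φ σ * F.w * F.φ (wd tV tC i j k) * (F.φ σ * F.w)⁻¹ =
        F.φ (σ * wd tV tC i j k * σ⁻¹) := fun σ => by
      rw [show F.φ σ * F.w * F.φ (wd tV tC i j k) * (F.φ σ * F.w)⁻¹ =
        F.φ σ * (F.w * F.φ (wd tV tC i j k) * F.w⁻¹) * (F.φ σ)⁻¹ by group, (F.w_comm _).eq,
        mul_inv_cancel_right, map_mul, map_mul, map_inv]
    have hww : ∀ x : G, Commute F.w x → x * F.w * x⁻¹ = F.w := fun x h => by
      rw [← h.eq, mul_inv_cancel_right]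
    rcases hσe with h | h <;> rcases hπe with h' | h' <;> rw [h', h]
    · rw [if_pos rfl, pow_zero, mul_one, map_mul, map_mul, map_inv]
    · rw [if_pos rfl, pow_zero, mul_one, hw]
    · rw [if_neg (F.mul_w_ne _ _), pow_one, ← conj_mul, hww _ (F.w_comm _), map_mul, map_mul, map_inv]
    · rw [if_neg (F.mul_w_ne _ _), pow_one, ← conj_mul, hw,
        hww _ ((F.w_comm _).mul_right (Commute.refl _))]
  set e : Fin 2 := if a = F.φ (wd tV tC i j k) then 0 else 1 with he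
  have hew : F.w ^ (if a = F.φ (wd tV tC i j k) then (0 : ℕ) else 1) = F.w ^ e.val := by
    rw [he]; split_ifs <;> rfl
  rw [hew] at hpconj
  have hae : a = F.φ (wd tV tC i j k) * F.w ^ e.val := by
    rw [he]
    rcases hσe with h | h
    · rw [if_pos h]; simp [← h]
    · rw [if_neg (h ▸ F.mul_w_ne _ _)]; simp [← h]
  have key := fixed_invol p q r s t u i j k e hσ2 fun i' j' k' h' => by
    refine F.inj ?_
    rw [hpconj, ← h', ← conj_mul, F.g_img, hδe, ← conj_pow, F.g_w] at hfix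
    rw [(show Commute (F.φ tZ) F.w from (F.w_comm tZ).symm).mul_pow, ← mul_assoc, ← map_pow, ← map_mul] at hfix
    exact mul_right_cancel (hfix.trans hae)
  rw [hae, key.2]
  rcases key.1 with h | h <;> rw [h] <;> simp

theorem isPGroup_S : IsPGroup 2 F.S := IsPGroup.of_card (n := 5) (by rw [F.card_S]; rfl)

/-- `S` is a Sylow two-subgroup. -/
theorem exists_sylow : ∃ T : Sylow 2 G, (T : Subgroup G) = F.S := by
  classical
  have := Fact.mk Nat.prime_two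
  obtain ⟨T, hle⟩ := F.isPGroup_S.exists_le_sylow
  refine ⟨T, le_antisymm ?_ hle⟩
  by_contra hne
  have hlt : F.S.subgroupOf (T : Subgroup G) < ⊤ := lt_top_iff_ne_top.2 fun e =>
    hne (subgroupOf_eq_top.1 e)
  have := T.2.isNilpotent
  obtain ⟨⟨x, hxT⟩, hx, hxS⟩ := SetLike.exists_of_lt (Group.normalizerCondition_of_isNilpotent _ hlt)
  replace hx : x ∈ normalizer (F.S : Set G) := by
    have h := le_normalizer_map (T : Subgroup G).subtype (mem_map_of_mem _ hx)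
    rwa [subgroupOf_map_subtype, inf_eq_left.2 hle] at h
  apply hxS
  rw [mem_subgroupOf]
  show x ∈ F.S
  -- `x` normalises `P`
  have hxS' : ∀ y ∈ F.S, x * y * x⁻¹ ∈ F.S := fun y hy => (mem_normalizer_iff.1 hx y).1 hy
  set w' := x * F.w * x⁻¹ with hw'
  have hw'S : w' ∈ F.S := hxS' _ (F.P_le_S F.w_mem_P)
  have hw'w : w' * w' = 1 := by rw [hw', conj_mul, F.w_sq, mul_one, mul_inv_cancel]
  have hw'z : w' ≠ F.φ tZ := fun e => F.not_conj (isConj_iff.2 ⟨x, e⟩).symm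
  have hw'1 : w' ≠ 1 := fun e => F.w_ne_one (conj_eq_one_iff.1 e)
  have hcomm : ∀ y ∈ F.P, (x * y * x⁻¹) * w' = w' * (x * y * x⁻¹) := fun y hy =>
    ((Commute.conj_iff x).2 (show Commute y F.w from F.mem_H_iff.1 (F.P_le hy))).eq
  have hxP : ∀ y ∈ F.P, x * y * x⁻¹ ∈ F.P := by
    intro y hy
    by_contra hout
    by_cases hw'P : w' ∈ F.P
    · rcases F.fixed_invol_P (hxS' _ (F.P_le_S hy)) hout hw'P hw'w (hcomm y hy) with h | h
      exacts [hw'1 h, hw'z h]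
    -- the intersection with the image has index two in `P`
    set P' := F.P.map (MulAut.conj x).toMonoidHom with hP'
    have hP'S : P' ≤ F.S := by
      rintro _ ⟨q, hq, rfl⟩
      exact hxS' _ (F.P_le_S hq)
    have hhalf : ∀ a ∈ F.P, ∀ b ∈ F.P, a ∉ P' → b ∉ P' → a * b ∈ P' := by
      intro a ha b hb ha' hb'
      have hi : (P'.subgroupOf F.S).index = 2 := by
        have h := (P'.subgroupOf F.S).card_mul_index
        have hc : Nat.card P' = 16 := by rw [hP', CfsgLib.Coprime.card_map_conj, F.card_P]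
        rw [Nat.card_congr (subgroupOfEquivOfLe hP'S).toEquiv, hc, F.card_S] at h
        omega
      have := (mul_mem_iff_of_index_two hi (a := ⟨a, F.P_le_S ha⟩) (b := ⟨b, F.P_le_S hb⟩)).2
        (iff_of_false (fun h => ha' (mem_subgroupOf.1 h)) fun h => hb' (mem_subgroupOf.1 h))
      exact mem_subgroupOf.1 this
    have hVD : InD tV := by decide +kernel
    have hone : F.w ∈ P' ∨ F.φ tV ∈ P' ∨ F.φ tV * F.w ∈ P' := by
      by_contra h
      push Not at h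
      exact h.2.2 (hhalf _ (F.φ_mem_P hVD) _ F.w_mem_P h.2.1 h.1)
    have hno : ∀ a ∈ F.P, a * a = 1 → a ≠ 1 → a ≠ F.φ tZ → a ∉ P' := by
      rintro a ha haa ha1 haz ⟨q, hq, rfl⟩
      rcases F.fixed_invol_P hw'S hw'P ha haa (hcomm q hq).symm with h | h
      exacts [ha1 h, haz h]
    obtain ⟨-, -, -, -, -, -, hV1, hVZ, -, -, hVV, -⟩ := model_facts
    rcases hone with h | h | h
    · exact hno _ F.w_mem_P F.w_sq F.w_ne_one (fun e => F.w_notMem tZ e.symm) h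
    · exact hno _ (F.φ_mem_P hVD) (by rw [← map_mul, hVV, map_one])
        (fun e => hV1 (F.inj (e.trans (map_one F.φ).symm))) (fun e => hVZ (F.inj e)) h
    · exact hno _ (F.φw_mem_P hVD) (by rw [F.mul_self_φw, hVV, map_one])
        (fun e => F.mul_w_ne _ 1 (e.trans (map_one F.φ).symm)) (F.mul_w_ne _ _) h
  obtain ⟨hz, hw⟩ := F.conj_zw F.not_conj hxP (fun y hy => by
    have hn := mem_normalizer_of_forall hxP
    exact ⟨_, (mem_normalizer_iff''.1 hn y).1 hy, by group⟩)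
  rcases hw with hw | hw
  · exact F.P_le_S (F.mem_P_of_commute_z (F.mem_H_iff.2 (mul_inv_eq_iff_eq_mul.1 hw))
      (mul_inv_eq_iff_eq_mul.1 hz))
  · refine Or.inr (F.mem_P_of_commute_z (F.mem_H_iff.2 ?_) ?_)
    · refine mul_inv_eq_iff_eq_mul.1 ?_
      rw [show F.g⁻¹ * x * F.w * (F.g⁻¹ * x)⁻¹ = F.g⁻¹ * (x * F.w * x⁻¹) * F.g by group, hw, ← F.g_w]
      group
    · refine mul_inv_eq_iff_eq_mul.1 ?_
      rw [show F.g⁻¹ * x * F.φ tZ * (F.g⁻¹ * x)⁻¹ = F.g⁻¹ * (x * F.φ tZ * x⁻¹) * F.g by group, hz]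
      conv_lhs => rw [← F.g_z]
      group

/-- Transfer: a normal subgroup of index two avoiding `w`. -/
theorem exists_index_two : ∃ M : Subgroup G, M.Normal ∧ M.index = 2 ∧ F.w ∉ M := by
  obtain ⟨T, hT⟩ := F.exists_sylow
  have h := CfsgLib.Transfer.thompson_transfer_involution T (Q := F.Q) (hT ▸ F.Q_le_S)
    (hT ▸ F.relIndex_Q) (u := F.w) (by rw [pow_two, F.w_sq]) (hT ▸ F.P_le_S F.w_mem_P)
  refine h.resolve_right ?_
  rintro ⟨x, hx⟩
  set y := x * F.w * x⁻¹ with hy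
  have hyy : y * y = 1 := by rw [hy, conj_mul, F.w_sq, mul_one, mul_inv_cancel]
  rcases hx with hx | hx
  · obtain ⟨σ, hσ, hσe⟩ := F.mem_D.1 hx
    have hσ1 : σ ≠ 1 := fun e => F.w_ne_one (conj_eq_one_iff.1 (by rw [← hy, ← hσe, e, map_one]))
    have hσ2 : σ * σ = 1 := F.inj (by rw [map_mul, hσe, hyy, map_one])
    have hzy : IsConj (F.φ tZ) y := by
      rcases invol_conj_tV σ hσ hσ2 hσ1 with ⟨π, hπ⟩ | ⟨π, hπ⟩
      · exact isConj_iff.2 ⟨F.φ π, by rw [← map_inv, ← map_mul, ← map_mul, hπ, hσe]⟩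
      · obtain ⟨ρ, hρ⟩ := more_facts.1
        refine isConj_iff.2 ⟨F.φ π * F.g * F.φ ρ, ?_⟩
        rw [show F.φ π * F.g * F.φ ρ * F.φ tZ * (F.φ π * F.g * F.φ ρ)⁻¹ =
          F.φ π * (F.g * (F.φ ρ * F.φ tZ * (F.φ ρ)⁻¹) * F.g⁻¹) * (F.φ π)⁻¹ by group,
          ← map_inv F.φ ρ, ← map_mul, ← map_mul, hρ, F.g_v, ← map_inv, ← map_mul, ← map_mul, hπ, hσe]
    exact F.not_conj (hzy.trans (isConj_iff.2 ⟨x, hy.symm⟩).symm)
  · obtain ⟨σ, hσ, hσe⟩ := F.mem_D.1 hx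
    refine F.no_invol σ hσ ?_
    rw [hσe, mul_inv_cancel_left, hyy]

variable {M : Subgroup G} (hM : M.Normal) (hM2 : M.index = 2) (hwM : F.w ∉ M)
include hM hM2 hwM

theorem φ_mem_M (σ : Perm (Fin 4)) : F.φ σ ∈ M := by
  obtain ⟨-, π, hπ⟩ := (⟨more_facts.1, more_facts.2.1⟩ : _ ∧ _)
  have hV : F.φ tV ∈ M := by rw [← hπ, map_mul]; exact mul_self_mem_of_index_two hM2 _
  have hC : F.φ tC ∈ M := by rw [← F.g_v]; exact hM.conj_mem _ hV _
  induction σ using Equiv.Perm.swap_induction_on with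
  | one => rw [map_one]; exact M.one_mem
  | swap_mul f x y hxy ih =>
    obtain ⟨ρ, hρ⟩ := swap_conj x y hxy
    rw [map_mul, ← hρ, map_mul, map_mul, map_inv]
    exact M.mul_mem (hM.conj_mem _ hC _) ih

theorem mem_range_of_mem {y : G} (hy : y ∈ M) (hyH : y ∈ H) : ∃ σ, F.φ σ = y := by
  obtain ⟨σ, rfl | rfl⟩ := (F.mem_H y).1 hyH
  · exact ⟨σ, rfl⟩
  · exact absurd ((M.mul_mem_cancel_left (F.φ_mem_M hM hM2 hwM σ)).1 hy) hwM

/-- A soluble normal subgroup of `M` is trivial. -/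
theorem sol_bot (hP : Prim H) {N : Subgroup M} [hN : N.Normal] (hs : Group.IsSolvable N) : N = ⊥ := by
  set N₀ := N.map M.subtype with hN₀
  set N₁ := N₀.map (MulAut.conj F.w).toMonoidHom with hN₁
  have h0 : N₀ ≤ M := map_subtype_le _
  have h1 : N₁ ≤ M := by
    rintro _ ⟨x, hx, rfl⟩
    exact hM.conj_mem _ (h0 hx) _
  have hn0 : M ≤ normalizer (N₀ : Set G) := by
    have := le_normalizer_map (H := N) M.subtype
    rwa [normalizer_eq_top, ← MonoidHom.range_eq_map, Subgroup.range_subtype] at this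
  have hn1 : M ≤ normalizer (N₁ : Set G) := by
    intro m hm
    rw [CfsgLib.Coprime.mem_normalizer_iff_map_conj, hN₁, CfsgLib.Coprime.map_conj_conj]
    have e := CfsgLib.Coprime.map_conj_of_mem_normalizer
      (hn0 (by simpa using hM.conj_mem _ hm F.w⁻¹ : F.w⁻¹ * m * F.w ∈ M))
    conv_rhs => rw [← e, CfsgLib.Coprime.map_conj_conj]
    congr 3
    group
  have hz1 : N₁.map (MulAut.conj F.w).toMonoidHom = N₀ := by
    rw [hN₁, CfsgLib.Coprime.map_conj_conj]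
    refine CfsgLib.Coprime.map_conj_of_mem_normalizer (hn0 ?_)
    exact mul_self_mem_of_index_two hM2 _
  have hs0 : Group.IsSolvable N₀ :=
    Group.isSolvable_of_surjective (f := M.subtype.subgroupMap N) (MonoidHom.subgroupMap_surjective _ _)
  have hs1 : Group.IsSolvable N₁ :=
    Group.isSolvable_of_surjective (f := (MulAut.conj F.w).toMonoidHom.subgroupMap N₀)
      (MonoidHom.subgroupMap_surjective _ _)
  have hs01 := CfsgLib.Comp.isSolvable_sup (h1.trans hn0) hs0 hs1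
  have hnorm : (N₀ ⊔ N₁).Normal := by
    rw [← normalizer_eq_top_iff, eq_top_iff]
    intro x _
    rw [CfsgLib.Coprime.mem_normalizer_iff_map_conj, Subgroup.map_sup]
    by_cases hx : x ∈ M
    · rw [CfsgLib.Coprime.map_conj_of_mem_normalizer (hn0 hx),
        CfsgLib.Coprime.map_conj_of_mem_normalizer (hn1 hx)]
    · have hm : x * F.w⁻¹ ∈ M := (mul_mem_iff_of_index_two hM2).2
        (iff_of_false hx fun h => hwM (by simpa using M.inv_mem h))
      have e : ∀ K : Subgroup G, K.map (MulAut.conj x).toMonoidHom =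
          (K.map (MulAut.conj F.w).toMonoidHom).map (MulAut.conj (x * F.w⁻¹)).toMonoidHom := fun K => by
        rw [CfsgLib.Coprime.map_conj_conj, inv_mul_cancel_right]
      rw [e N₀, e N₁, hz1, ← hN₁, CfsgLib.Coprime.map_conj_of_mem_normalizer (hn0 hm),
        CfsgLib.Coprime.map_conj_of_mem_normalizer (hn1 hm), sup_comm]
  have hb := hP.nosol _ hnorm hs01
  have : N₀ = ⊥ := le_bot_iff.1 (hb ▸ le_sup_left)
  exact (map_eq_bot_iff_of_injective _ M.subtype_injective).1 this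

/-- The setting inside `M`. -/
theorem exists_sFour_M (hP : Prim H) : ∃ S : SFour M, ∀ σ, (S.φ σ : G) = F.φ σ := by
  let φM : Perm (Fin 4) →* M := F.φ.codRestrict M (F.φ_mem_M hM hM2 hwM)
  have hmap : ∀ K : Subgroup (Perm (Fin 4)), (K.map φM).map M.subtype = K.map F.φ := fun K => by
    rw [Subgroup.map_map]; rfl
  obtain ⟨h, hhM, hhH, hhD⟩ : ∃ h, h ∈ M ∧ h ∉ H ∧ ∀ y ∈ F.D, h * y * h⁻¹ ∈ F.D := by
    by_cases hg : F.g ∈ M
    · exact ⟨F.g, hg, F.g_notMem, fun y => F.g_D⟩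
    · refine ⟨F.g * F.w, (mul_mem_iff_of_index_two hM2).2 (iff_of_false hg hwM),
        fun h => F.g_notMem ((H.mul_mem_cancel_right F.w_mem).1 h), fun y hy => ?_⟩
      obtain ⟨σ, hσ, rfl⟩ := F.mem_D.1 hy
      rw [show F.g * F.w * F.φ σ * (F.g * F.w)⁻¹ = F.g * (F.w * F.φ σ * F.w⁻¹) * F.g⁻¹ by group,
        (F.w_comm σ).eq, mul_inv_cancel_right]
      exact F.g_D (F.φ_mem_D hσ)
  have hn : vFour.Normal := ⟨fun x hx y => vFour_conj y x hx⟩
  refine ⟨⟨φM, fun a b e => F.inj (congrArg Subtype.val e), le_antisymm ?_ ?_, ⟨h, hhM⟩, ?_, ?_,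
    fun N hN => F.sol_bot hM hM2 hwM hP (hN := hN), ?_⟩, fun σ => rfl⟩
  · intro x hx
    have hx' : (x : G) ∈ normalizer ((vFour.map F.φ : Subgroup G) : Set G) := by
      rw [← hmap]
      exact le_normalizer_map M.subtype (mem_map_of_mem _ hx)
    have hle : vFour.map F.φ ≤ H := by
      rintro _ ⟨σ, -, rfl⟩
      exact F.φ_mem σ
    have hHn : H ≤ normalizer ((vFour.map F.φ : Subgroup G) : Set G) := by
      intro y hy
      refine mem_normalizer_of_forall ?_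
      rintro _ ⟨τ, hτ, rfl⟩
      obtain ⟨π, rfl | rfl⟩ := (F.mem_H y).1 hy
      · exact ⟨π * τ * π⁻¹, vFour_conj π τ hτ, by rw [map_mul, map_mul, map_inv]⟩
      · refine ⟨π * τ * π⁻¹, vFour_conj π τ hτ, ?_⟩
        rw [show F.φ π * F.w * F.φ τ * (F.φ π * F.w)⁻¹ = F.φ π * (F.w * F.φ τ * F.w⁻¹) * (F.φ π)⁻¹ by group,
          (F.w_comm τ).eq, mul_inv_cancel_right, map_mul, map_mul, map_inv]
    have hne : vFour.map F.φ ≠ ⊥ := by
      rw [Ne, map_eq_bot_iff_of_injective _ F.inj]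
      intro e
      have := card_vFour
      rw [e, card_bot] at this
      omega
    obtain ⟨σ, hσ⟩ := F.mem_range_of_mem hM hM2 hwM x.2 ((hP.normalizer_eq hne hle hHn).le hx')
    exact ⟨σ, Subtype.ext hσ⟩
  · rw [MonoidHom.range_eq_map]
    refine le_trans ?_ (le_normalizer_map _)
    rw [normalizer_eq_top]
  · rintro ⟨σ, e⟩
    exact hhH (by rw [← show F.φ σ = h from congrArg Subtype.val e]; exact F.φ_mem σ)
  · refine mem_normalizer_of_forall ?_
    rintro _ ⟨σ, hσ, rfl⟩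
    obtain ⟨τ, hτ, e⟩ := F.mem_D.1 (hhD _ (F.φ_mem_D (mem_dFour.1 hσ)))
    exact ⟨τ, more_facts.2.2 τ hτ, Subtype.ext e⟩
  · intro N hN hle
    set N₀ := N.map M.subtype with hN₀
    have hn0 : M ≤ normalizer (N₀ : Set G) := by
      have := le_normalizer_map (H := N) M.subtype
      rwa [normalizer_eq_top, ← MonoidHom.range_eq_map, Subgroup.range_subtype] at this
    set K := N₀ ⊓ N₀.map (MulAut.conj F.w).toMonoidHom with hK
    have hφK : ∀ σ, F.φ σ ∈ K := fun σ => by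
      have hσ : F.φ σ ∈ N₀ := ⟨φM σ, hle ⟨σ, rfl⟩, rfl⟩
      refine ⟨hσ, F.φ σ, hσ, ?_⟩
      show F.w * F.φ σ * F.w⁻¹ = F.φ σ
      rw [(F.w_comm σ).eq, mul_inv_cancel_right]
    have hcj : ∀ m ∈ M, ∀ y ∈ N₀, m * y * m⁻¹ ∈ N₀ := fun m hm y hy =>
      (mem_normalizer_iff.1 (hn0 hm) y).1 hy
    have hKM : ∀ m ∈ M, ∀ y ∈ K, m * y * m⁻¹ ∈ K := by
      intro m hm y hy
      obtain ⟨hy0, y', hy', e⟩ := hy
      refine ⟨hcj m hm y hy0, (F.w⁻¹ * m * F.w) * y' * (F.w⁻¹ * m * F.w)⁻¹,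
        hcj _ (by simpa using hM.conj_mem _ hm F.w⁻¹) _ hy', ?_⟩
      rw [← e]
      show F.w * (F.w⁻¹ * m * F.w * y' * (F.w⁻¹ * m * F.w)⁻¹) * F.w⁻¹ = m * (F.w * y' * F.w⁻¹) * m⁻¹
      group
    have hKw : ∀ y ∈ K, F.w * y * F.w⁻¹ ∈ K := by
      intro y hy
      obtain ⟨hy0, y', hy', e⟩ := hy
      refine ⟨?_, ⟨y, hy0, rfl⟩⟩
      rw [show y = F.w * y' * F.w⁻¹ from e.symm,
        show F.w * (F.w * y' * F.w⁻¹) * F.w⁻¹ = (F.w * F.w) * y' * (F.w * F.w)⁻¹ by group, F.w_sq]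
      simpa using hy'
    have hKn : K.Normal := by
      refine ⟨fun y hy x => ?_⟩
      by_cases hx : x ∈ M
      · exact hKM x hx y hy
      · have hm : x * F.w⁻¹ ∈ M := (mul_mem_iff_of_index_two hM2).2
          (iff_of_false hx fun h => hwM (by simpa using M.inv_mem h))
        have := hKM _ hm _ (hKw y hy)
        rwa [show x * F.w⁻¹ * (F.w * y * F.w⁻¹) * (x * F.w⁻¹)⁻¹ = x * y * x⁻¹ by group] at this
    have hKne : K ≠ ⊥ := fun e => by
      have h := hφK tZ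
      rw [e, mem_bot] at h
      exact model_facts.2.2.2.2.2.1 (F.inj (h.trans (map_one F.φ).symm))
    refine eq_top_iff.2 fun x _ => ?_
    have hx : (x : G) ∈ K ⊔ H := by rw [hP.sup_eq_top hKne]; exact mem_top _
    obtain ⟨k, hk, y, hy, e⟩ := Subgroup.mem_sup_of_normal_left.1 hx
    have hkM : k ∈ M := map_subtype_le _ hk.1
    have hyM : y ∈ M := (M.mul_mem_cancel_left hkM).1 (e ▸ x.2)
    obtain ⟨σ, rfl⟩ := F.mem_range_of_mem hM hM2 hwM hyM hy
    obtain ⟨x', hx', ex⟩ : (x : G) ∈ N₀ := e ▸ N₀.mul_mem hk.1 (hφK σ).1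
    rwa [← show x' = x from Subtype.ext ex]

end TFrame

end CfsgLib.Recog.SuborbitThree
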