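import Cfsg.Agent.Lib.Recog.SuborbitThree.TwelveFrame
import Cfsg.Agent.Lib.Recog.SuborbitThree.Small
import Cfsg.Agent.Lib.Recog.SelfCentThree.Final
import Cfsg.Agent.Lib.InvChar.BSWDihedral
import Cfsg.Agent.Lib.Transfer.Thompson
import Cfsg.Agent.Lib.Invol.ZStar
import Cfsg.Agent.Lib.Geom.DicksonPSL
import Cfsg.Agent.Lib.Block.SmallHalfTheorem
import Cfsg.Agent.S3224
import Cfsg.Agent.Lib.Recog.SuborbitThree.PSLFacts
import Cfsg.Agent.S0205

/-!
# A stabiliser isomorphic to the dihedral group of order twelve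
-/

set_option autoImplicit false

namespace CfsgLib.Recog.SuborbitThree

open Subgroup DihedralGroup

universe u

variable {G : Type u} [Group G] [Finite G]

theorem mem_zpowers_of_sq {x y : G} (hx : x ∈ zpowers y) (hy : y * y = 1) : x = 1 ∨ x = y := by
  obtain ⟨k, rfl⟩ := hx
  rcases Int.even_or_odd k with ⟨m, rfl⟩ | ⟨m, rfl⟩
  · left
    show y ^ (m + m) = 1
    rw [← two_mul, zpow_mul, zpow_two, hy, one_zpow]
  · right
    show y ^ (2 * m + 1) = y
    rw [zpow_add_one, zpow_mul, zpow_two, hy, one_zpow, one_mul]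

/-- A cyclic subgroup of index two in a dihedral or quasi-dihedral group. -/
theorem exists_cyclic_index_two {S : Type*} [Group S] [Finite S]
    (h : (∃ n : ℕ, Nonempty (S ≃* DihedralGroup n)) ∨ Cfsg.IsQuasiDihedral S) :
    ∃ c : S, (zpowers c).index = 2 := by
  suffices ∃ c : S, 2 * orderOf c = Nat.card S by
    obtain ⟨c, hc⟩ := this
    refine ⟨c, ?_⟩
    have h1 := Subgroup.index_mul_card (zpowers c)
    rw [Nat.card_zpowers, ← hc] at h1
    exact Nat.eq_of_mul_eq_mul_right (orderOf_pos c) h1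
  rcases h with ⟨n, ⟨e⟩⟩ | ⟨n, -, hc, x, -, hx, -, -⟩
  · refine ⟨e.symm (r 1), ?_⟩
    rw [MulEquiv.orderOf_eq, DihedralGroup.orderOf_r_one, Nat.card_congr e.toEquiv,
      DihedralGroup.nat_card]
  · exact ⟨x, by rw [hx, hc]; ring⟩

/-- An involution in a cyclic subgroup is its only one. -/
theorem eq_of_mem_zpowers {x a b : G} (ha : a ∈ zpowers x) (hb : b ∈ zpowers x)
    (ha2 : a * a = 1) (hb2 : b * b = 1) (ha1 : a ≠ 1) (hb1 : b ≠ 1) : a = b := by
  classical
  have := Fintype.ofFinite (zpowers x)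
  by_contra hne
  have hb' := IsCyclic.card_pow_eq_one_le (α := zpowers x) (n := 2) (by norm_num)
  have hsub : ({1, ⟨a, ha⟩, ⟨b, hb⟩} : Finset (zpowers x)) ⊆
      Finset.univ.filter (fun w : zpowers x => w ^ 2 = 1) := by
    intro w hw
    simp only [Finset.mem_insert, Finset.mem_singleton] at hw
    rcases hw with rfl | rfl | rfl
    · simp
    · exact Finset.mem_filter.2 ⟨Finset.mem_univ _, Subtype.ext (by
        rw [SubmonoidClass.coe_pow, pow_two]; exact ha2)⟩
    · exact Finset.mem_filter.2 ⟨Finset.mem_univ _, Subtype.ext (by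
        rw [SubmonoidClass.coe_pow, pow_two]; exact hb2)⟩
  have := (Finset.card_le_card hsub).trans hb'
  rw [Finset.card_eq_three.2 ⟨1, ⟨a, ha⟩, ⟨b, hb⟩, fun e => ha1 (congrArg Subtype.val e).symm,
    fun e => hb1 (congrArg Subtype.val e).symm, fun e => hne (congrArg Subtype.val e), rfl⟩] at this
  omega

namespace Frame

variable {H : Subgroup G} (F : Frame H) (hP : Prim H)

/-- The central involution. -/
local notation "zz" => F.φ dZ
local notation "ss" => F.φ dS
local notation "uu" => F.φ dU
local notation "rr" => F.φ dR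

theorem sq (x : DihedralGroup 6) (hx : x * x = 1) : F.φ x * F.φ x = 1 := by
  rw [← map_mul, hx, map_one]

theorem ne_one {x : DihedralGroup 6} (hx : x ≠ 1) : F.φ x ≠ 1 := fun h =>
  hx (F.inj (h.trans (map_one _).symm))

theorem orderOf_two {x : DihedralGroup 6} (hx : x * x = 1) (hx1 : x ≠ 1) : orderOf (F.φ x) = 2 :=
  orderOf_eq_prime (by rw [pow_two]; exact F.sq x hx) (F.ne_one hx1)

include hP in
theorem cent_z : centralizer ({zz} : Set G) = H := by
  refine le_antisymm ?_ fun y hy => ?_
  · rw [← centralizer_closure, ← zpowers_eq_closure]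
    refine hP.centralizer_le ?_ (zpowers_le.2 (F.mem dZ)) ?_
    · rw [Ne, zpowers_eq_bot]; exact F.ne_one (by decide)
    · intro a ha
      obtain ⟨x, rfl⟩ := F.exists_eq ha
      rw [CfsgLib.Coprime.mem_normalizer_iff_map_conj, MonoidHom.map_zpowers]
      show zpowers (F.φ x * zz * (F.φ x)⁻¹) = _
      rw [← map_inv, ← map_mul, ← map_mul, ← commute_dZ x, mul_inv_cancel_right]
  · obtain ⟨x, rfl⟩ := F.exists_eq hy
    exact mem_centralizer_singleton_iff.2 (by rw [← map_mul, ← map_mul, commute_dZ])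

include hP in
theorem cent_pair {y : G} (hz : y * zz = zz * y) (hs : y * ss = ss * y) : y ∈ F.V := by
  obtain ⟨x, rfl⟩ := F.exists_eq ((F.cent_z hP) ▸ mem_centralizer_singleton_iff.2 hz)
  rw [← map_mul, ← map_mul] at hs
  have h := cent_dV x (F.inj hs).symm
  simp only [Finset.mem_insert, Finset.mem_singleton] at h
  exact ⟨x, h, rfl⟩

include hP in
theorem norm_r : normalizer (zpowers rr : Set G) = H := by
  refine hP.normalizer_eq ?_ (zpowers_le.2 (F.mem dR)) fun a ha => ?_
  · rw [Ne, zpowers_eq_bot]; exact F.ne_one (by decide)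
  · obtain ⟨x, rfl⟩ := F.exists_eq ha
    rw [CfsgLib.Coprime.mem_normalizer_iff_map_conj, MonoidHom.map_zpowers]
    show zpowers (F.φ x * rr * (F.φ x)⁻¹) = _
    rw [← map_inv, ← map_mul, ← map_mul]
    rcases norm_dR x with h | h <;> rw [h]
    rw [map_inv, zpowers_inv]

theorem g_zsu : F.g * ss * F.g⁻¹ = zz ∨ F.g * ss * F.g⁻¹ = uu := by
  have hm := (mem_normalizer_iff.1 F.g_norm ss).1 (F.mem_V.2 (Or.inr (Or.inr (Or.inl rfl))))
  rcases F.mem_V.1 hm with h | h | h | h
  · exact absurd (conj_eq_one_iff.1 h) (F.ne_one (by decide))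
  · exact Or.inl h
  · exact absurd (F.inj (conj_injective (h.trans F.g_z.symm))) (by decide)
  · exact Or.inr h
where
  conj_injective {a b : G} (h : F.g * a * F.g⁻¹ = F.g * b * F.g⁻¹) : a = b :=
    mul_left_cancel (mul_right_cancel h)

/-- The stabiliser is generated by its involutions, which are conjugate to those of `V`. -/
theorem le_of_invol {N : Subgroup G} [hN : N.Normal] (hz : zz ∈ N) (hu : uu ∈ N) : H ≤ N := by
  have hs : ss ∈ N := by
    rw [show ss = zz * uu by rw [← map_mul]; exact congrArg F.φ (by decide)]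
    exact N.mul_mem hz hu
  have hinv : ∀ x : DihedralGroup 6, x * x = 1 → F.φ x ∈ N := by
    intro x hx
    by_cases hx1 : x = 1
    · rw [hx1, map_one]; exact one_mem _
    obtain ⟨a, ha⟩ := invol_conj x hx hx1
    have key : ∀ y : DihedralGroup 6, a * x * a⁻¹ = y → F.φ y ∈ N → F.φ x ∈ N := by
      intro y hy hyN
      have := hN.conj_mem _ hyN (F.φ a)⁻¹
      rwa [← hy, inv_inv, ← map_inv, ← map_mul, ← map_mul, show a⁻¹ * (a * x * a⁻¹) * a = x by group] at this
    rcases ha with h | h | h
    · exact key _ h hz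
    · exact key _ h hs
    · exact key _ h hu
  intro y hy
  obtain ⟨x, rfl⟩ := F.exists_eq hy
  obtain ⟨a, b, c, ha, hb, hc, rfl⟩ := gen_invol x
  rw [map_mul, map_mul]
  exact N.mul_mem (N.mul_mem (hinv a ha) (hinv b hb)) (hinv c hc)

include hP in
/-- If the two classes fuse, the four-group is a Sylow subgroup and `G` is `PSL(2, 11)` or
`PSL(2, 13)`. -/
theorem fused (hzu : IsConj zz uu) :
    Nonempty (G ≃* Matrix.ProjectiveSpecialLinearGroup (Fin 2) (ZMod 11)) ∨
      Nonempty (G ≃* Matrix.ProjectiveSpecialLinearGroup (Fin 2) (ZMod 13)) := by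
  classical
  have := Fact.mk Nat.prime_two
  have hconjV : ∀ v ∈ F.V, v ≠ 1 → IsConj zz v := by
    intro v hv h1
    rcases F.mem_V.1 hv with h | h | h | h
    · exact absurd h h1
    · rw [h]
    · rw [h]; exact isConj_iff.2 ⟨F.g, F.g_z⟩
    · rw [h]; exact hzu
  have hVp : IsPGroup 2 F.V := IsPGroup.of_card (n := 2) (by rw [F.card_V]; norm_num)
  obtain ⟨S, hVS⟩ := hVp.exists_le_sylow
  -- the four-group is a Sylow subgroup
  have hSV : (S : Subgroup G) = F.V := by
    refine le_antisymm ?_ hVS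
    by_contra hne
    have hlt : F.V.subgroupOf (S : Subgroup G) < ⊤ := lt_top_iff_ne_top.2 fun e =>
      hne (subgroupOf_eq_top.1 e)
    have := S.2.isNilpotent
    set T := (normalizer ((F.V.subgroupOf (S : Subgroup G)) : Set (S : Subgroup G))).map
      (S : Subgroup G).subtype with hT
    have hTS : T ≤ (S : Subgroup G) := map_subtype_le _
    have hTp : IsPGroup 2 T := S.2.to_le hTS
    have hTn : T ≤ normalizer (F.V : Set G) := by
      refine (le_normalizer_map _).trans ?_
      rw [subgroupOf_map_subtype, inf_eq_left.2 hVS]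
    have hVT : F.V < T := by
      have h := (Subgroup.map_lt_map_iff_of_injective (S : Subgroup G).subtype_injective).2
        (Group.normalizerCondition_of_isNilpotent _ hlt)
      rwa [subgroupOf_map_subtype, inf_eq_left.2 hVS] at h
    letI : MulAction T F.V :=
      { smul := fun a v => ⟨(a : G) * v * (a : G)⁻¹,
          (mem_normalizer_iff.1 (hTn a.2) _).1 v.2⟩
        one_smul := fun v => Subtype.ext (show (1 : G) * v * (1 : G)⁻¹ = v by group)
        mul_smul := fun a b v => Subtype.ext (by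
          show ((a * b : T) : G) * v * ((a * b : T) : G)⁻¹ =
            (a : G) * ((b : G) * v * (b : G)⁻¹) * (a : G)⁻¹
          rw [Subgroup.coe_mul]; group) }
    obtain ⟨v, hv, hv1⟩ := hTp.exists_fixed_point_of_prime_dvd_card_of_fixed_point F.V
      (by rw [F.card_V]; norm_num) (a := (1 : F.V))
      (fun a => Subtype.ext (show (a : G) * (1 : G) * (a : G)⁻¹ = 1 by group))
    have hTC : T ≤ centralizer ({(v : G)} : Set G) := fun a ha => by
      have := congrArg Subtype.val (hv ⟨a, ha⟩)
      exact mem_centralizer_singleton_iff.2 (mul_inv_eq_iff_eq_mul.1 this)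
    obtain ⟨c, hc⟩ := isConj_iff.1 (hconjV v v.2 fun e => hv1 (Subtype.ext e.symm))
    have hTH : T.map (MulAut.conj c⁻¹).toMonoidHom ≤ H := by
      rw [← F.cent_z hP]
      rintro _ ⟨a, ha, rfl⟩
      refine mem_centralizer_singleton_iff.2 ?_
      show c⁻¹ * a * c⁻¹⁻¹ * zz = zz * (c⁻¹ * a * c⁻¹⁻¹)
      have h := mem_centralizer_singleton_iff.1 (hTC ha)
      rw [← hc] at h
      calc c⁻¹ * a * c⁻¹⁻¹ * zz = c⁻¹ * (a * (c * zz * c⁻¹)) * c := by group
        _ = c⁻¹ * (c * zz * c⁻¹ * a) * c := by rw [h]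
        _ = zz * (c⁻¹ * a * c⁻¹⁻¹) := by group
    obtain ⟨m, hm⟩ := IsPGroup.iff_card.1 hTp
    have hd : 2 ^ m ∣ 12 := by
      rw [← hm, ← CfsgLib.Coprime.card_map_conj c⁻¹ T,
        show 12 = Nat.card (DihedralGroup 6) by rw [DihedralGroup.nat_card],
        show Nat.card (DihedralGroup 6) = Nat.card H by
          rw [← F.range_eq]; exact Nat.card_congr (MonoidHom.ofInjective F.inj).toEquiv]
      exact card_dvd_of_le hTH
    have h4 : 4 < 2 ^ m := by
      rw [← hm, ← F.card_V]
      exact (Set.toFinite (T : Set G)).card_lt_card hVT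
    have hm2 : m ≤ 3 := by
      by_contra h
      have := Nat.le_of_dvd (by norm_num) hd
      have := Nat.pow_le_pow_right (show 1 ≤ 2 by norm_num) (show 4 ≤ m by omega)
      omega
    interval_cases m <;> omega
  have hconj : ∀ a : G, orderOf a = 2 → IsConj zz a := by
    intro a ha
    obtain ⟨T, hT⟩ := (IsPGroup.of_card (p := 2) (n := 1)
      (G := zpowers a) (by rw [Nat.card_zpowers, ha, pow_one])).exists_le_sylow
    obtain ⟨c, hc⟩ := MulAction.exists_smul_eq G T S
    have hm : c * a * c⁻¹ ∈ F.V := by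
      rw [← hSV, ← hc, Sylow.coe_subgroup_smul]
      exact ⟨a, hT (mem_zpowers a), rfl⟩
    refine (hconjV _ hm fun e => ?_).trans (isConj_iff.2 ⟨c⁻¹, by group⟩)
    rw [conj_eq_one_iff.1 e, orderOf_one] at ha
    omega
  have hsimple : IsSimpleGroup G := by
    have : Nontrivial G := ⟨⟨zz, 1, F.ne_one (by decide)⟩⟩
    refine ⟨fun N hN => or_iff_not_imp_left.2 fun hne => ?_⟩
    have heven : Even (Nat.card N) := by
      rw [← Nat.not_odd_iff_even]
      exact fun h => hne (hP.nosol N hN (Cfsg.Agent.S0205.result h))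
    obtain ⟨a, ha⟩ := exists_prime_orderOf_dvd_card' 2 (even_iff_two_dvd.1 heven)
    have hall : ∀ v : G, orderOf v = 2 → v ∈ N := by
      intro v hv
      obtain ⟨c, hc⟩ := isConj_iff.1
        ((hconj (a : G) (by rw [Subgroup.orderOf_coe, ha])).symm.trans (hconj v hv))
      exact hc ▸ hN.conj_mem _ a.2 c
    have hle := F.le_of_invol (hall zz (F.orderOf_two (by decide) (by decide)))
      (hall uu (F.orderOf_two (by decide) (by decide)))
    by_contra htop
    rcases lt_or_eq_of_le hle with hlt | heq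
    · exact htop (hP.coatom.2 _ hlt)
    · exact hP.ne_bot (hP.core N hN heq.ge ▸ heq)
  -- the recognition
  have hSk : IsKleinFour (S : Subgroup G) := by rw [hSV]; exact F.isKleinFour_V
  set O := (Cfsg.oddCore (centralizer ({zz} : Set G))).map (centralizer ({zz} : Set G)).subtype
    with hO
  have hOle : O ≤ zpowers rr := by
    rintro _ ⟨⟨y, hy⟩, hyO, rfl⟩
    obtain ⟨x, rfl⟩ := F.exists_eq (F.cent_z hP ▸ hy)
    have hodd := (CfsgLib.Invol.odd_card_oddCore (centralizer ({zz} : Set G))).of_dvd_nat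
      (orderOf_dvd_natCard _ hyO)
    rw [Subgroup.orderOf_mk, orderOf_injective _ F.inj] at hodd
    have key : ∀ x : DihedralGroup 6, x ^ 3 = 1 ∨ x ^ 2 = 1 ∨ x ^ 6 = 1 ∧ x ^ 3 ≠ 1 ∧ x ^ 2 ≠ 1 := by
      decide
    have hx3 : x ^ 3 = 1 := by
      rcases key x with h | h | ⟨h6, h3, h2⟩
      · exact h
      · have := Nat.eq_one_of_dvd_coprimes (Nat.coprime_two_left.2 hodd) (orderOf_dvd_of_pow_eq_one h) dvd_rfl
        rw [orderOf_eq_one_iff.1 this]; simp
      · exfalso
        exact h3 (orderOf_dvd_iff_pow_eq_one.1 ((Nat.coprime_two_right.2 hodd).dvd_of_dvd_mul_left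
          (show orderOf x ∣ 2 * 3 from orderOf_dvd_of_pow_eq_one h6)))
    have key2 : ∀ x : DihedralGroup 6, x ^ 3 = 1 → x = 1 ∨ x = dR ∨ x = dR ^ 2 := by decide
    rcases key2 x hx3 with h | h | h <;> subst h
    · simp [one_mem]
    · exact mem_zpowers _
    · show F.φ (dR ^ 2) ∈ zpowers rr
      rw [map_pow]; exact pow_mem (mem_zpowers _) 2
  have hrO : rr ∈ O := by
    have hrH : rr ∈ centralizer ({zz} : Set G) := (F.cent_z hP).symm ▸ F.mem dR
    let N : Subgroup (centralizer ({zz} : Set G)) := (zpowers rr).subgroupOf (centralizer ({zz} : Set G))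
    have hN : N.Normal := CfsgLib.Coprime.normal_subgroupOf_of_le_normalizer
      (((F.cent_z hP).trans (F.norm_r hP).symm).le)
    refine ⟨⟨rr, hrH⟩, CfsgLib.Invol.le_oddCore hN ?_ (mem_subgroupOf.2 (mem_zpowers _)), rfl⟩
    rw [CfsgLib.Coprime.card_subgroupOf (zpowers_le.2 hrH), Nat.card_zpowers,
      orderOf_injective _ F.inj, orderOf_eq_prime (p := 3) (x := dR) (by decide) (by decide)]
    decide
  have hOeq : O = zpowers rr := le_antisymm hOle (zpowers_le.2 hrO)
  have hsz : (S : Subgroup G) ⊓ centralizer (O : Set G) = zpowers zz := by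
    apply le_antisymm
    · rintro v ⟨hv, hvc⟩
      have hv' : v * rr = rr * v := (mem_centralizer_iff.1 hvc rr hrO).symm
      rw [SetLike.mem_coe, hSV] at hv
      obtain ⟨x, hx, rfl⟩ := hv
      rw [← map_mul, ← map_mul] at hv'
      have hv'' := F.inj hv'
      rcases hx with rfl | rfl | rfl | rfl
      · rw [map_one]; exact one_mem _
      · exact mem_zpowers _
      · exact absurd hv'' (by decide)
      · exact absurd hv'' (by decide)
    · refine zpowers_le.2 ⟨hSV ▸ F.mem_V.2 (Or.inr (Or.inl rfl)), mem_centralizer_iff.2 fun y hy => ?_⟩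
      rw [SetLike.mem_coe, hOeq] at hy
      obtain ⟨k, rfl⟩ := hy
      exact ((show Commute rr zz by
        show rr * zz = zz * rr
        rw [← map_mul, ← map_mul, commute_dZ]).zpow_left k).eq
  obtain ⟨K, _, _, hodd, ⟨f⟩⟩ := CfsgLib.InvChar.BSW.psl_of_dihedral (G := G) S 2 le_rfl
    IsKleinFour.nonempty_mulEquiv zz (F.orderOf_two (by decide) (by decide))
    (hSV ▸ F.mem_V.2 (Or.inr (Or.inl rfl)))
    (fun v hv => by
      obtain ⟨x, -, rfl⟩ := hSV ▸ hv
      rw [← map_mul, ← map_mul, commute_dZ])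
    O hO
    (fun _ => by
      rw [hsz]
      refine ⟨inferInstance, ?_⟩
      have hle : zpowers zz ≤ (S : Subgroup G) := hsz ▸ inf_le_left
      have h := relIndex_mul_relIndex (⊥ : Subgroup G) (zpowers zz) (S : Subgroup G) bot_le hle
      rw [relIndex_bot_left, relIndex_bot_left, Nat.card_zpowers,
        F.orderOf_two (x := dZ) (by decide) (by decide), hSV, F.card_V] at h
      rw [hSV]; omega)
    (fun v hv hvc y hy => by
      rw [hSV] at hv
      rw [hOeq] at hy hvc
      obtain ⟨k, rfl⟩ := hy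
      have hinv : v * rr * v⁻¹ = rr⁻¹ := by
        obtain ⟨x, hx, rfl⟩ := hv
        have hbad : ∀ y : DihedralGroup 6, y * dR = dR * y → F.φ y ∈ centralizer (zpowers rr : Set G) := by
          intro y hy
          refine mem_centralizer_iff.2 fun w hw => ?_
          obtain ⟨j, rfl⟩ := hw
          exact ((show Commute rr (F.φ y) by
            show rr * F.φ y = F.φ y * rr
            rw [← map_mul, ← map_mul, hy]).zpow_left j).eq
        rw [← map_inv, ← map_inv, ← map_mul, ← map_mul]
        rcases hx with rfl | rfl | rfl | rfl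
        · exact absurd (hbad 1 (by simp)) hvc
        · exact absurd (hbad dZ (commute_dZ _)) hvc
        · rw [refl_dR.1]
        · rw [refl_dR.2.1]
      show v * rr ^ k * v⁻¹ = (rr ^ k)⁻¹
      rw [← conj_zpow, hinv, inv_zpow])
    (fun Y hY hYne => by
      rw [hOeq] at hY
      have hcard : Nat.card (zpowers rr) = 3 := by
        rw [Nat.card_zpowers, orderOf_injective _ F.inj, orderOf_eq_prime (p := 3) (x := dR) (by decide) (by decide)]
      have hYeq : Y = zpowers rr := by
        rcases (Nat.dvd_prime Nat.prime_three).1 (hcard ▸ card_dvd_of_le hY) with h | h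
        · exact absurd (card_eq_one.1 h) hYne
        · exact eq_of_le_of_card_ge hY (by rw [h, hcard])
      rw [hYeq, F.norm_r hP, F.cent_z hP])
  -- the field
  have h5 : 5 ≤ Fintype.card K := five_le_card hP.insoluble hodd f
  have hC : Nat.card (centralizer ({f zz} : Set (Matrix.ProjectiveSpecialLinearGroup (Fin 2) K))) = 12 := by
    have : centralizer ({f zz} : Set (Matrix.ProjectiveSpecialLinearGroup (Fin 2) K)) = H.map f.toMonoidHom := by
      have hH : ∀ x : G, x ∈ H ↔ x * zz = zz * x := fun x => by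
        rw [← mem_centralizer_singleton_iff]
        exact (SetLike.ext_iff.1 (F.cent_z hP) x).symm
      ext y
      rw [mem_centralizer_singleton_iff]
      constructor
      · intro hy
        refine ⟨f.symm y, (hH _).2 (f.injective ?_), MulEquiv.apply_symm_apply f y⟩
        rw [map_mul, map_mul, MulEquiv.apply_symm_apply]
        exact hy
      · rintro ⟨x, hx, rfl⟩
        show f x * f zz = f zz * f x
        rw [← map_mul, ← map_mul, (hH _).1 hx]
    rw [this, card_map_of_injective f.injective, ← F.range_eq,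
      ← Nat.card_congr (MonoidHom.ofInjective F.inj).toEquiv, DihedralGroup.nat_card]
  have key : Fintype.card K = 11 ∨ Fintype.card K = 13 := by
    rcases card_centralizer_involution_psl hodd (by omega) (x := f zz)
      ((MulEquiv.orderOf_eq f zz).trans (F.orderOf_two (by decide) (by decide))) with h | h <;> omega
  have hK : ∀ {q : ℕ} [Fact q.Prime], Fintype.card K = q →
      Nonempty (G ≃* Matrix.ProjectiveSpecialLinearGroup (Fin 2) (ZMod q)) := by
    intro q _ hq
    exact ⟨f.trans (CfsgLib.Geom.Moebius.pslCongr (ZMod.ringEquivOfPrime K Fact.out hq).symm)⟩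
  rcases key with h | h
  · haveI : Fact (Nat.Prime 11) := ⟨by norm_num⟩
    exact Or.inl (hK h)
  · haveI : Fact (Nat.Prime 13) := ⟨by norm_num⟩
    exact Or.inr (hK h)

end Frame

end CfsgLib.Recog.SuborbitThree
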