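import Cfsg.Agent.Lib.Recog.SuborbitThree.Setup
import Mathlib.GroupTheory.SpecificGroups.Dihedral
import Mathlib.GroupTheory.SpecificGroups.KleinFour

/-!
# A stabiliser isomorphic to the dihedral group of order twelve: frames
-/

set_option autoImplicit false

namespace CfsgLib.Recog.SuborbitThree

open Subgroup DihedralGroup

universe u

variable {G : Type u} [Group G]

/-- The central involution of the model. -/
abbrev dZ : DihedralGroup 6 := r 3
/-- A reflection of the model. -/
abbrev dS : DihedralGroup 6 := sr 0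
/-- The other reflection of the four-group. -/
abbrev dU : DihedralGroup 6 := sr 3
/-- An element of order three of the model. -/
abbrev dR : DihedralGroup 6 := r 2

/-- The four-group of the model. -/
def dV : Subgroup (DihedralGroup 6) where
  carrier := {x | x = 1 ∨ x = dZ ∨ x = dS ∨ x = dU}
  one_mem' := Or.inl rfl
  mul_mem' := by
    rintro a b (rfl | rfl | rfl | rfl) (rfl | rfl | rfl | rfl) <;>
      simp only [Set.mem_ofPred_eq] <;> decide
  inv_mem' := by
    rintro a (rfl | rfl | rfl | rfl) <;> simp only [Set.mem_ofPred_eq] <;> decide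

theorem mem_dV {x : DihedralGroup 6} : x ∈ dV ↔ x = 1 ∨ x = dZ ∨ x = dS ∨ x = dU := Iff.rfl

theorem sq_dV {x : DihedralGroup 6} (hx : x ∈ dV) : x * x = 1 := by
  rcases hx with rfl | rfl | rfl | rfl <;> decide

theorem card_dV : Nat.card dV = 4 := by
  rw [Nat.card_congr (Equiv.subtypeEquivRight (fun x => (mem_dV (x := x))))]
  rw [Nat.card_eq_fintype_card]
  decide

/-- The automorphism exchanging the two reflections of the four-group. -/
def dSwap : DihedralGroup 6 ≃* DihedralGroup 6 where
  toFun x := match x with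
    | r i => r i
    | sr i => sr (i + 3)
  invFun x := match x with
    | r i => r i
    | sr i => sr (i + 3)
  left_inv := by rintro (i | i) <;> revert i <;> decide
  right_inv := by rintro (i | i) <;> revert i <;> decide
  map_mul' := by rintro (i | i) (j | j) <;> revert i j <;> decide

theorem dSwap_values : dSwap dZ = dZ ∧ dSwap dS = dU ∧ dSwap dU = dS := by decide

theorem commute_dZ : ∀ x : DihedralGroup 6, dZ * x = x * dZ := by decide

theorem cent_dV : ∀ x : DihedralGroup 6, dS * x = x * dS → x ∈ ({1, dZ, dS, dU} : Finset _) := by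
  decide

theorem cent_dR : ∀ x : DihedralGroup 6, dR * x = x * dR →
    x = 1 ∨ x = dR ∨ x = dR ^ 2 ∨ x = dZ ∨ x = dZ * dR ∨ x = dZ * dR ^ 2 := by decide

theorem norm_dR : ∀ x : DihedralGroup 6, x * dR * x⁻¹ = dR ∨ x * dR * x⁻¹ = dR⁻¹ := by decide

theorem refl_dR : dS * dR * dS⁻¹ = dR⁻¹ ∧ dU * dR * dU⁻¹ = dR⁻¹ ∧ dZ * dS = dU := by decide

theorem gen_invol : ∀ x : DihedralGroup 6, ∃ a b c : DihedralGroup 6,
    a * a = 1 ∧ b * b = 1 ∧ c * c = 1 ∧ x = a * b * c := by decide

theorem invol_conj : ∀ x : DihedralGroup 6, x * x = 1 → x ≠ 1 →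
    ∃ a : DihedralGroup 6, a * x * a⁻¹ = dZ ∨ a * x * a⁻¹ = dS ∨ a * x * a⁻¹ = dU := by decide

theorem parity_dS : ∀ x : DihedralGroup 6, x * x ≠ 1 → x * x * x = 1 → x = dR ∨ x = dR ^ 2 := by
  decide

/-- A frame: the stabiliser as the image of the model, and an element outside which moves the
central involution to the chosen reflection. -/
structure Frame (H : Subgroup G) where
  φ : DihedralGroup 6 →* G
  inj : Function.Injective φ
  range_eq : φ.range = H
  g : G
  g_notMem : g ∉ H
  g_norm : g ∈ normalizer (dV.map φ : Set G)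
  g_z : g * φ dZ * g⁻¹ = φ dS

namespace Frame

variable {H : Subgroup G} (F : Frame H)

theorem mem (x : DihedralGroup 6) : F.φ x ∈ H :=
  (congrArg (fun K : Subgroup G => F.φ x ∈ K) F.range_eq).mp ⟨x, rfl⟩

theorem exists_eq {y : G} (hy : y ∈ H) : ∃ x, F.φ x = y := by
  obtain ⟨x, rfl⟩ : y ∈ F.φ.range := F.range_eq.symm ▸ hy
  exact ⟨x, rfl⟩

/-- The four-group. -/
def V : Subgroup G := dV.map F.φ

theorem mem_V {y : G} : y ∈ F.V ↔ y = 1 ∨ y = F.φ dZ ∨ y = F.φ dS ∨ y = F.φ dU := by
  constructor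
  · rintro ⟨x, hx, rfl⟩
    rcases hx with rfl | rfl | rfl | rfl
    · exact Or.inl (map_one _)
    · exact Or.inr (Or.inl rfl)
    · exact Or.inr (Or.inr (Or.inl rfl))
    · exact Or.inr (Or.inr (Or.inr rfl))
  · rintro (rfl | rfl | rfl | rfl)
    · exact one_mem _
    · exact ⟨dZ, Or.inr (Or.inl rfl), rfl⟩
    · exact ⟨dS, Or.inr (Or.inr (Or.inl rfl)), rfl⟩
    · exact ⟨dU, Or.inr (Or.inr (Or.inr rfl)), rfl⟩

theorem V_le : F.V ≤ H := (map_le_range F.φ dV).trans F.range_eq.le

theorem card_V : Nat.card F.V = 4 := by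
  rw [V, card_map_of_injective F.inj, card_dV]

theorem isKleinFour_V : IsKleinFour F.V := by
  refine ⟨F.card_V, ?_⟩
  have hsq : ∀ v : F.V, v ^ 2 = 1 := by
    rintro ⟨_, x, hx, rfl⟩
    refine Subtype.ext ?_
    show F.φ x ^ 2 = 1
    rw [← map_pow, pow_two, sq_dV hx, map_one]
  have : Finite F.V := Nat.finite_of_card_ne_zero (by rw [F.card_V]; norm_num)
  have hne : Nontrivial F.V := by
    rw [← Finite.one_lt_card_iff_nontrivial, F.card_V]
    norm_num
  refine Nat.dvd_antisymm (Monoid.exponent_dvd_of_forall_pow_eq_one hsq) ?_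
  obtain ⟨v, hv⟩ := exists_ne (1 : F.V)
  exact (orderOf_eq_prime (hsq v) hv) ▸ Monoid.order_dvd_exponent v

end Frame

/-- Frames exist. -/
theorem exists_frame [Finite G] {H : Subgroup G} (hP : Prim H) (e : H ≃* DihedralGroup 6) :
    Nonempty (Frame H) := by
  have mk : ∀ (φ : DihedralGroup 6 →* G), Function.Injective φ → φ.range = H →
      ∃ g, g ∉ H ∧ g ∈ normalizer (dV.map φ : Set G) ∧
        (g * φ dZ * g⁻¹ = φ dS ∨ g * φ dZ * g⁻¹ = φ dU) := by
    intro φ hinj hr
    obtain ⟨g, hgH, hgN⟩ := hP.move (dV.map φ) (hr ▸ map_le_range _ _) (by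
      rw [card_map_of_injective hinj, card_dV, Nat.card_congr e.toEquiv, DihedralGroup.nat_card])
    refine ⟨g, hgH, hgN, ?_⟩
    obtain ⟨x, hx, hxe⟩ := (mem_normalizer_iff.1 hgN (φ dZ)).1 ⟨dZ, Or.inr (Or.inl rfl), rfl⟩
    rcases hx with rfl | rfl | rfl | rfl
    · exfalso
      rw [map_one] at hxe
      have : φ dZ = 1 := conj_eq_one_iff.1 hxe.symm
      exact absurd (hinj (this.trans (map_one φ).symm)) (by decide)
    · exfalso
      -- otherwise `g` normalises the centre
      set X := zpowers (φ dZ)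
      have hne : X ≠ ⊥ := by
        rw [Ne, zpowers_eq_bot]
        exact fun h => absurd (hinj (h.trans (map_one φ).symm)) (by decide)
      have hle : X ≤ H := zpowers_le.2 (hr ▸ ⟨dZ, rfl⟩)
      have hn : H ≤ normalizer (X : Set G) := by
        rw [← hr]
        rintro _ ⟨a, rfl⟩
        rw [CfsgLib.Coprime.mem_normalizer_iff_map_conj, MonoidHom.map_zpowers]
        show zpowers (φ a * φ dZ * (φ a)⁻¹) = _
        rw [← map_inv, ← map_mul, ← map_mul, ← commute_dZ a, mul_inv_cancel_right]
      apply hgH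
      rw [← hP.normalizer_eq hne hle hn, CfsgLib.Coprime.mem_normalizer_iff_map_conj,
        MonoidHom.map_zpowers]
      show zpowers (g * φ dZ * g⁻¹) = _
      rw [← hxe]
    · exact Or.inl hxe.symm
    · exact Or.inr hxe.symm
  let φ : DihedralGroup 6 →* G := H.subtype.comp e.symm.toMonoidHom
  have hinj : Function.Injective φ := H.subtype_injective.comp e.symm.injective
  have hr : φ.range = H := by
    rw [MonoidHom.range_comp, MonoidHom.range_eq_top_of_surjective _ e.symm.surjective,
      ← MonoidHom.range_eq_map, Subgroup.range_subtype]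
  obtain ⟨g, hgH, hgN, hg | hg⟩ := mk φ hinj hr
  · exact ⟨⟨φ, hinj, hr, g, hgH, hgN, hg⟩⟩
  · refine ⟨⟨φ.comp dSwap.toMonoidHom, hinj.comp dSwap.injective, ?_, g, hgH, ?_, ?_⟩⟩
    · rw [MonoidHom.range_comp, MonoidHom.range_eq_top_of_surjective _ dSwap.surjective,
        ← MonoidHom.range_eq_map, hr]
    · have : dV.map dSwap.toMonoidHom = dV := by
        refine eq_of_le_of_card_ge ?_ (by rw [card_map_of_injective (f := dSwap.toMonoidHom) dSwap.injective])
        rintro _ ⟨x, hx, rfl⟩
        obtain ⟨h1, h2, h3⟩ := dSwap_values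
        rcases hx with rfl | rfl | rfl | rfl
        · exact Or.inl (map_one _)
        · exact Or.inr (Or.inl h1)
        · exact Or.inr (Or.inr (Or.inr h2))
        · exact Or.inr (Or.inr (Or.inl h3))
      rwa [← map_map, this]
    · show g * φ (dSwap dZ) * g⁻¹ = φ (dSwap dS)
      rw [dSwap_values.1, dSwap_values.2.1]
      exact hg

end CfsgLib.Recog.SuborbitThree
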